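import Cfsg.Agent.H97.CFive.Image
import Cfsg.Agent.Cores.GlaubermanZStar

/-!
The normaliser of the Heisenberg group of order 125 is maximal in five dimensions.
-/

set_option autoImplicit false
set_option linter.unusedSectionVars false
set_option linter.style.haveILetI false

namespace Cfsg.Agent.H97.CFive

open Matrix
open Cfsg.Agent.H1.HeisThree (sc scGrp coe_sc sc_mul sc_one sc_comm sc_inj sc_pow)

variable {F : Type*} [Field F] [Fintype F] {p : ℕ} [Fact p.Prime]

local notation "T5" => ZMod 5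
local notation "V" => ZMod 5 × ZMod 5
local notation "M5" => Matrix (ZMod 5) (ZMod 5) F
local notation "G5" => GL (ZMod 5) F

omit [Fintype F] in
theorem trace_conj (g x : G5) : ((g * x * g⁻¹ : G5) : M5).trace = (x : M5).trace := by
  rw [Units.val_mul, Units.val_mul, Matrix.trace_mul_cycle, Units.inv_mul, one_mul]

/-- An involutive automorphism of a finite group without fixed points inverts it. -/
theorem inverts_of_fixed_point_free {Γ : Type*} [Group Γ] [Finite Γ] (f : Γ →* Γ)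
    (hff : ∀ x, f (f x) = x) (hfix : ∀ x, f x = x → x = 1) (x : Γ) : f x = x⁻¹ := by
  have hinj : Function.Injective fun a : Γ => a⁻¹ * f a := by
    intro a b h
    have h' : a⁻¹ * f a = b⁻¹ * f b := h
    have := hfix (b * a⁻¹) (by
      rw [map_mul, map_inv, mul_inv_eq_iff_eq_mul, mul_assoc, h', mul_inv_cancel_left])
    exact (mul_inv_eq_one.1 this).symm
  obtain ⟨a, rfl⟩ := (Finite.injective_iff_surjective.1 hinj) x
  simp only [map_mul, map_inv, hff, _root_.mul_inv_rev, inv_inv]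

set_option maxHeartbeats 1000000 in
theorem base (hF : Fintype.card F = p) (hp5 : p % 5 = 1) {C : Fifth F} {X : Subgroup (GL (ZMod 5) F)}
    (hX : Ctx C X) : X ≤ C.NZ ∨ Big X := by
  refine or_iff_not_imp_right.2 fun hno => ?_
  haveI scN : (scGrp F T5).Normal := ⟨fun x hx g => by
    obtain ⟨d, rfl⟩ := hx
    show g * sc d * g⁻¹ ∈ _
    rw [← sc_comm, mul_inv_cancel_right]
    exact ⟨d, rfl⟩⟩
  have h2 : (2 : F) ≠ 0 := two_ne hF hp5
  have hne : C.J ≠ 1 := fun h => by
    have := congrArg (fun u : G5 => (u : M5) 1 1) h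
    simp +decide [Fifth.coe_J] at this
  let u : X := ⟨C.J, hX.J⟩
  have hord : orderOf u = 2 :=
    orderOf_eq_prime (Subtype.ext (show C.J ^ 2 = 1 by rw [pow_two, C.J_mul_J]))
      (fun h => hne (congrArg Subtype.val h))
  have hiso : Cfsg.IsIsolatedInvolution u := by
    refine ⟨hord, fun g hg => Subtype.ext ?_⟩
    set x : G5 := (g : G5) * C.J * (g : G5)⁻¹ with hx
    have hxH : x ∈ C.CJ := C.mem_CJ.2 (congrArg Subtype.val hg.eq).symm
    refine J_unique hX hF hp5 hno (mul_mem (mul_mem g.2 hX.J) (inv_mem g.2)) hxH ?_ ?_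
    · show (g : G5) * C.J * (g : G5)⁻¹ * ((g : G5) * C.J * (g : G5)⁻¹) = 1
      rw [show (g : G5) * C.J * (g : G5)⁻¹ * ((g : G5) * C.J * (g : G5)⁻¹)
        = (g : G5) * (C.J * C.J) * (g : G5)⁻¹ by group, C.J_mul_J, mul_one, mul_inv_cancel]
    · show (((g : G5) * C.J * (g : G5)⁻¹ : G5) : M5).trace = 1
      rw [trace_conj, C.trace_J]
  have hz := Cores.zStarProp (Cores.uniqueInvolutionCase Cores.quaternionCase) X u hiso
  set O : Subgroup G5 := (Cfsg.oddCore X).map X.subtype with hO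
  have hOM : O ≤ X := Subgroup.map_subtype_le _
  have hOodd : ∀ o ∈ O, Odd (orderOf o) := by
    rintro _ ⟨o, ho, rfl⟩
    rw [Subgroup.coe_subtype, Subgroup.orderOf_coe]
    exact (Cores.odd_card_oddCore (G := X)).of_dvd_nat (Subgroup.orderOf_dvd_natCard _ ho)
  have hOnorm : ∀ g ∈ X, ∀ o ∈ O, g * o * g⁻¹ ∈ O := by
    rintro g hg _ ⟨o, ho, rfl⟩
    exact ⟨⟨g, hg⟩ * o * ⟨g, hg⟩⁻¹, (inferInstance : (Cfsg.oddCore X).Normal).conj_mem o ho _, rfl⟩
  have hcomO : ∀ g ∈ X, C.J * g * C.J * g⁻¹ ∈ O := by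
    intro g hg
    exact ⟨_, hz ⟨g, hg⟩, by simp [u, C.J_inv]⟩
  let π : G5 →* G5 ⧸ scGrp F T5 := QuotientGroup.mk' _
  have hπ : ∀ {a b : G5}, π a = π b → ∃ c : Fˣ, a = sc c * b := by
    intro a b h
    have h1 : π (a * b⁻¹) = 1 := by rw [map_mul, map_inv, h, mul_inv_cancel]
    obtain ⟨c, hc⟩ := (QuotientGroup.eq_one_iff _).1 h1
    exact ⟨c, by rw [show sc c = a * b⁻¹ from hc, inv_mul_cancel_right]⟩
  have hπsc : ∀ c : Fˣ, π (sc c) = 1 := fun c => (QuotientGroup.eq_one_iff _).2 ⟨c, rfl⟩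
  set Q := O.map π
  have hconj : ∀ q ∈ Q, π C.J * q * π C.J ∈ Q := by
    rintro _ ⟨o, ho, rfl⟩
    rw [← map_mul, ← map_mul]
    refine Subgroup.mem_map_of_mem π ?_
    have := hOnorm _ hX.J o ho
    rwa [C.J_inv] at this
  have hπ2 : π C.J * π C.J = 1 := by rw [← map_mul, C.J_mul_J, map_one]
  let f : Q →* Q :=
    { toFun := fun q => ⟨_, hconj q q.2⟩
      map_one' := Subtype.ext (by show π C.J * 1 * π C.J = 1; rw [mul_one, hπ2])
      map_mul' := fun a b => Subtype.ext (by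
        show π C.J * ((a : G5 ⧸ scGrp F T5) * b) * π C.J =
          π C.J * (a : G5 ⧸ scGrp F T5) * π C.J * (π C.J * (b : G5 ⧸ scGrp F T5) * π C.J)
        rw [show π C.J * (a : G5 ⧸ scGrp F T5) * π C.J * (π C.J * (b : G5 ⧸ scGrp F T5) * π C.J)
          = π C.J * (a : G5 ⧸ scGrp F T5) * (π C.J * π C.J) * (b : G5 ⧸ scGrp F T5) * π C.J by group,
          hπ2, mul_one, ← mul_assoc]) }
  have hinv' : ∀ q : Q, f q = q⁻¹ := by
    refine inverts_of_fixed_point_free f (fun q => Subtype.ext ?_) ?_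
    · show π C.J * (π C.J * (q : G5 ⧸ _) * π C.J) * π C.J = (q : G5 ⧸ scGrp F T5)
      rw [show π C.J * (π C.J * (q : G5 ⧸ scGrp F T5) * π C.J) * π C.J
        = (π C.J * π C.J) * (q : G5 ⧸ scGrp F T5) * (π C.J * π C.J) by group, hπ2, one_mul, mul_one]
    · rintro ⟨_, o, ho, rfl⟩ h
      have h' : π C.J * π o * π C.J = π o := congrArg Subtype.val h
      rw [← map_mul, ← map_mul] at h'
      obtain ⟨c, hc⟩ := hπ h'
      have hcO : sc c ∈ O := by
        have := hcomO o (hOM ho)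
        rwa [hc, mul_inv_cancel_right] at this
      have hc2 : (sc c : G5) * sc c = 1 := by
        have e1 : sc c * (sc c * o) = o := by
          rw [← hc, show sc c * (C.J * o * C.J) = C.J * (sc c * o) * C.J by
            rw [← mul_assoc, ← mul_assoc, sc_comm c C.J]; group, ← hc,
            show C.J * (C.J * o * C.J) * C.J = (C.J * C.J) * o * (C.J * C.J) by group,
            C.J_mul_J, one_mul, mul_one]
        rwa [← mul_assoc, mul_eq_right] at e1
      have hc1 : (sc c : G5) = 1 := Cores.eq_one_of_sq_of_odd (hOodd _ hcO) (by rw [pow_two, hc2])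
      rw [hc1, one_mul] at hc
      obtain ⟨d, hd⟩ := odd_scalar hX hF hp5 hno hOM hOodd hOnorm ho (C.mem_CJ.2 (by
        nth_rw 1 [← hc]
        rw [mul_assoc (C.J * o), C.J_mul_J, mul_one]))
      exact Subtype.ext (by show π o = 1; rw [hd, hπsc])
  have habel : ∀ a ∈ O, ∀ b ∈ O, π a * π b = π b * π a := by
    intro a ha b hb
    let qa : Q := ⟨_, Subgroup.mem_map_of_mem π ha⟩
    let qb : Q := ⟨_, Subgroup.mem_map_of_mem π hb⟩
    have h1 := map_mul f qa qb
    rw [hinv', hinv', hinv', ← _root_.mul_inv_rev, _root_.inv_inj] at h1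
    exact congrArg Subtype.val h1
  have hWmul : ∀ v w : V, π (C.W v) * π (C.W w) = π (C.W (v + w)) := fun v w => by
    rw [← map_mul, C.W_mul, map_mul, hπsc, one_mul]
  have hWinv : ∀ v : V, (π (C.W v))⁻¹ = π (C.W (-v)) := fun v =>
    inv_eq_of_mul_eq_one_right (by rw [hWmul, add_neg_cancel, C.W_zero, map_one])
  have hWQ : ∀ v : V, ∃ o ∈ O, π o = π (C.W v) := by
    intro v
    refine ⟨_, hcomO _ (hX.W (2 * v.1, 2 * v.2)), ?_⟩
    rw [C.J_W, mul_assoc (C.W (-((2 * v.1, 2 * v.2) : V))), C.J_mul_J, mul_one, map_mul, map_inv, hWinv, hWmul]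
    congr 2
    revert v
    decide
  have hOR : ∀ o ∈ O, C.InR o := by
    intro o ho
    refine C.inR_of_fix fun v => ?_
    obtain ⟨w, hw, hwv⟩ := hWQ v
    refine hπ (a := o * C.W v * o⁻¹) ?_
    rw [map_mul, map_mul, map_inv, ← hwv, habel o ho w hw, mul_inv_cancel_right, hwv]; rfl
  intro g hg
  obtain ⟨c, v, hcv⟩ := hOR _ (hcomO g hg)
  set w : V := (2 * v.1, 2 * v.2) with hw
  have hgf : π (g * C.J * g⁻¹) = π (C.W w * C.J * (C.W w)⁻¹) := by
    have h1 : g * C.J * g⁻¹ = C.J * (sc c * C.W v) := by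
      rw [← hcv, ← mul_assoc, ← mul_assoc, ← mul_assoc, C.J_mul_J, one_mul]
    rw [h1, map_mul, map_mul, hπsc, one_mul, ← map_mul, C.J_W, map_mul]
    rw [map_mul, map_mul, map_inv, hWinv, mul_assoc (π (C.W w)), ← map_mul π C.J, C.J_W, neg_neg, map_mul,
      ← mul_assoc, hWmul]
    congr 3
    exact (by decide : ∀ v : V, -v = (2 * v.1, 2 * v.2) + (2 * v.1, 2 * v.2)) v
  obtain ⟨d, hd⟩ := hπ hgf
  have hd1 : d = 1 := by
    have := congrArg (fun x : G5 => (x : M5).trace) hd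
    beta_reduce at this
    rw [trace_conj, Units.val_mul, coe_sc, Matrix.smul_mul, one_mul, Matrix.trace_smul, trace_conj,
      C.trace_J, smul_eq_mul, mul_one] at this
    exact Units.ext this.symm
  rw [hd1, sc_one, one_mul] at hd
  have hmem : (C.W w)⁻¹ * g ∈ C.CJ := by
    refine C.mem_CJ.2 ?_
    calc (C.W w)⁻¹ * g * C.J = (C.W w)⁻¹ * (g * C.J * g⁻¹) * g := by group
      _ = C.J * ((C.W w)⁻¹ * g) := by rw [hd]; group
  have h1 := cj_le_NZ hX hF hp5 hno (mul_mem (inv_mem (hX.W w)) hg) hmem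
  rw [show g = C.W w * ((C.W w)⁻¹ * g) by group]
  exact mul_mem (C.W_mem_NZ w) h1

end Cfsg.Agent.H97.CFive
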