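import Mathlib

/-!
An element of order five acting on a finite group: invariant Sylow subgroups, and eigen elements of a commutative
invariant subgroup.
-/

set_option autoImplicit false
set_option linter.unusedSectionVars false
set_option linter.style.haveILetI false

namespace Cfsg.Agent.H97.CFive

open scoped Pointwise

variable {G : Type*} [Group G] [Finite G]

/-- An element with trivial fifth power normalises some Sylow subgroup of a subgroup it normalises. -/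
theorem exists_invariant_sylow {y : G} (hy : y ^ 5 = 1) (B : Subgroup G) (hyB : ∀ b ∈ B, y * b * y⁻¹ ∈ B)
    (r : ℕ) [Fact r.Prime] (h : r = 5 ∨ ¬ 5 ∣ Nat.card B) :
    ∃ Q : Subgroup G, Q ≤ B ∧ IsPGroup r Q ∧ (r ∣ Nat.card B → Q ≠ ⊥) ∧ ∀ q ∈ Q, y * q * y⁻¹ ∈ Q := by
  classical
  haveI : Fact (Nat.Prime 5) := ⟨by norm_num⟩
  have hpow : ∀ (n : ℕ), ∀ b ∈ B, y ^ n * b * (y ^ n)⁻¹ ∈ B := by
    intro n
    induction n with
    | zero => intro b hb; simpa using hb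
    | succ n ih =>
      intro b hb
      rw [show y ^ (n + 1) * b * (y ^ (n + 1))⁻¹ = y * (y ^ n * b * (y ^ n)⁻¹) * y⁻¹ by
        rw [pow_succ']; group]
      exact hyB _ (ih b hb)
  let Y := Subgroup.zpowers y
  have hY : ∀ g ∈ Y, ∃ n : ℕ, y ^ n = g := fun g hg => (isOfFinOrder_of_finite y).mem_powers_iff_mem_zpowers.2 hg
  have hYB : ∀ (g : Y), ∀ b ∈ B, (g : G) * b * (g : G)⁻¹ ∈ B := fun g b hb => by
    obtain ⟨n, hn⟩ := hY g g.2
    rw [← hn]
    exact hpow n b hb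
  letI act : MulDistribMulAction Y B :=
    { smul := fun g b => ⟨(g : G) * b * (g : G)⁻¹, hYB g b b.2⟩
      one_smul := fun b => Subtype.ext (by show (1 : G) * b * (1 : G)⁻¹ = b; group)
      mul_smul := fun g g' b => Subtype.ext (by
        show (g : G) * g' * b * ((g : G) * g')⁻¹ = (g : G) * ((g' : G) * b * (g' : G)⁻¹) * (g : G)⁻¹
        group)
      smul_one := fun g => Subtype.ext (by show (g : G) * 1 * (g : G)⁻¹ = 1; group)
      smul_mul := fun g a b => Subtype.ext (by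
        show (g : G) * ((a : G) * b) * (g : G)⁻¹ = (g : G) * a * (g : G)⁻¹ * ((g : G) * b * (g : G)⁻¹)
        group) }
  have hPY : IsPGroup 5 Y := by
    intro g
    obtain ⟨n, hn⟩ := hY g g.2
    exact ⟨1, Subtype.ext (by
      rw [SubmonoidClass.coe_pow, ← hn, pow_one, ← pow_mul, mul_comm, pow_mul, hy, one_pow, OneMemClass.coe_one])⟩
  have h5 : ¬ 5 ∣ Nat.card (Sylow r B) := by
    rcases h with rfl | h
    · intro h5
      have := (Nat.modEq_zero_iff_dvd.2 h5).symm.trans (card_sylow_modEq_one 5 B)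
      exact absurd this (by decide)
    · exact fun h5 => h (h5.trans (Sylow.card_dvd_index (default : Sylow r B) |>.trans (Subgroup.index_dvd_card _)))
  obtain ⟨Q, hQ⟩ := hPY.nonempty_fixed_point_of_prime_not_dvd_card (Sylow r B) h5
  refine ⟨(Q : Subgroup B).map B.subtype, Subgroup.map_subtype_le _, Q.isPGroup'.map _, fun hr he => ?_,
    fun q hq => ?_⟩
  · rw [Subgroup.map_eq_bot_iff_of_injective _ B.subtype_injective] at he
    exact Q.ne_bot_of_dvd_card hr he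
  · obtain ⟨b, hb, rfl⟩ := Subgroup.mem_map.1 hq
    refine Subgroup.mem_map.2 ⟨(⟨y, Subgroup.mem_zpowers y⟩ : Y) • b, ?_, rfl⟩
    have hm := Subgroup.smul_mem_pointwise_smul b (⟨y, Subgroup.mem_zpowers y⟩ : Y) (Q : Subgroup B) hb
    rwa [← Sylow.pointwise_smul_def, hQ ⟨y, Subgroup.mem_zpowers y⟩] at hm

/-- A nontrivial invariant `p`-subgroup contains an element of order `p` whose cyclic group is normalised. -/
theorem exists_eigen {F : Type*} [Field F] {p : ℕ} [Fact p.Prime] [CharP F p] {ω : F} (hω : IsPrimitiveRoot ω 5)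
    (hbij : Function.Surjective (fun n : ℕ => (n : F))) {y : G} (hy : y ^ 5 = 1) {Q : Subgroup G}
    (hQ : IsPGroup p Q) (hQ1 : Q ≠ ⊥) (hyQ : ∀ q ∈ Q, y * q * y⁻¹ ∈ Q) :
    ∃ x ∈ Q, x ≠ 1 ∧ x ^ p = 1 ∧ ∃ (n w : ℕ), (n : F) = ω ^ w ∧ y * x * y⁻¹ = x ^ n := by
  classical
  -- a central element of order p
  obtain ⟨z, hzQ, hz1, hzp, hzc⟩ : ∃ z ∈ Q, z ≠ 1 ∧ z ^ p = 1 ∧ ∀ q ∈ Q, z * q = q * z := by
    haveI : Nontrivial Q := (Subgroup.nontrivial_iff_ne_bot Q).2 hQ1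
    haveI := hQ.center_nontrivial
    obtain ⟨k, hk⟩ := (hQ.to_subgroup (Subgroup.center Q)).exists_card_eq
    have hk0 : k ≠ 0 := fun e => by
      rw [e, pow_zero] at hk
      exact (Finite.one_lt_card (α := Subgroup.center Q)).ne' hk
    obtain ⟨z, hz⟩ := exists_prime_orderOf_dvd_card' p (G := Subgroup.center Q) (hk ▸ dvd_pow_self p hk0)
    refine ⟨((z : Q) : G), (z : Q).2, ?_, ?_, fun q hq => ?_⟩
    · intro e
      have : z = 1 := Subtype.ext (Subtype.ext e)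
      rw [this, orderOf_one] at hz
      exact (Fact.out : p.Prime).one_lt.ne hz
    · have := pow_orderOf_eq_one z
      rw [hz] at this
      exact congrArg (fun t : Subgroup.center Q => ((t : Q) : G)) this
    · exact (congrArg Subtype.val (Subgroup.mem_center_iff.1 z.2 ⟨q, hq⟩)).symm
  -- the conjugates generate an elementary abelian group
  set zk : ℕ → G := fun k => y ^ k * z * (y ^ k)⁻¹ with hzk
  have hzkQ : ∀ k, zk k ∈ Q := by
    intro k
    induction k with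
    | zero => simpa [hzk] using hzQ
    | succ k ih =>
      rw [show zk (k + 1) = y * zk k * y⁻¹ by simp only [hzk, pow_succ']; group]
      exact hyQ _ ih
  have hzkc : ∀ k, ∀ q ∈ Q, zk k * q = q * zk k := by
    intro k
    induction k with
    | zero => simpa [hzk] using hzc
    | succ k ih =>
      intro q hq
      obtain ⟨q', hq', rfl⟩ : ∃ q' ∈ Q, y * q' * y⁻¹ = q := by
        refine ⟨y⁻¹ * q * y, ?_, by group⟩
        have h4 : ∀ n : ℕ, y ^ n * q * (y ^ n)⁻¹ ∈ Q := fun n => by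
          induction n with
          | zero => simpa using hq
          | succ n ihn =>
            rw [show y ^ (n + 1) * q * (y ^ (n + 1))⁻¹ = y * (y ^ n * q * (y ^ n)⁻¹) * y⁻¹ by
              rw [pow_succ']; group]
            exact hyQ _ ihn
        have e : y ^ 4 = y⁻¹ := eq_inv_of_mul_eq_one_left (by rw [← pow_succ, hy])
        have := h4 4
        rwa [e, inv_inv] at this
      rw [show zk (k + 1) = y * zk k * y⁻¹ by simp only [hzk, pow_succ']; group,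
        show y * zk k * y⁻¹ * (y * q' * y⁻¹) = y * (zk k * q') * y⁻¹ by group, ih q' hq']
      group
  have hzkp : ∀ k, zk k ^ p = 1 := fun k => by rw [hzk, conj_pow, hzp, mul_one, mul_inv_cancel]
  -- exponents
  obtain ⟨ex, hex⟩ : ∃ ex : ℕ → ℕ, ∀ j, (ex j : F) = ω ^ j := ⟨fun j => (hbij _).choose, fun j => (hbij _).choose_spec⟩
  have hmod : ∀ (a b : ℕ) (g : G), g ^ p = 1 → (a : F) = (b : F) → g ^ a = g ^ b := fun a b g hg h => by
    have := (CharP.natCast_eq_natCast F p).1 h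
    rw [← Nat.div_add_mod a p, ← Nat.div_add_mod b p, pow_add, pow_add, pow_mul, pow_mul, hg, one_pow, one_pow, this]
  let e : ℕ → ℕ → ℕ := fun w k => ex (4 * w * k)
  let v : ℕ → G := fun w => zk 0 ^ e w 0 * zk 1 ^ e w 1 * zk 2 ^ e w 2 * zk 3 ^ e w 3 * zk 4 ^ e w 4
  have hpQ : ∀ k m, zk k ^ m ∈ Q := fun k m => pow_mem (hzkQ k) m
  have hcp : ∀ k m, ∀ q ∈ Q, zk k ^ m * q = q * zk k ^ m := fun k m q hq =>
    (show Commute (zk k) q from hzkc k q hq).pow_left m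
  have hvQ : ∀ w, v w ∈ Q := fun w => mul_mem (mul_mem (mul_mem (mul_mem (hpQ _ _) (hpQ _ _)) (hpQ _ _)) (hpQ _ _)) (hpQ _ _)
  have hvp : ∀ w, v w ^ p = 1 := by
    intro w
    have h : ∀ k m, (zk k ^ m) ^ p = 1 := fun k m => by rw [← pow_mul, mul_comm, pow_mul, hzkp, one_pow]
    simp only [v]
    rw [(show Commute _ _ from (hcp 4 _ _ (mul_mem (mul_mem (mul_mem (hpQ 0 _) (hpQ 1 _)) (hpQ 2 _)) (hpQ 3 _))).symm).mul_pow,
      (show Commute _ _ from (hcp 3 _ _ (mul_mem (mul_mem (hpQ 0 _) (hpQ 1 _)) (hpQ 2 _))).symm).mul_pow,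
      (show Commute _ _ from (hcp 2 _ _ (mul_mem (hpQ 0 _) (hpQ 1 _))).symm).mul_pow,
      (show Commute _ _ from (hcp 1 _ _ (hpQ 0 _)).symm).mul_pow, h, h, h, h, h]
    simp
  by_cases hall : ∀ w < 5, v w = 1
  · exfalso
    apply hz1
    have hgeom : 1 + ω + ω ^ 2 + ω ^ 3 + ω ^ 4 = 0 := by
      have := hω.geom_sum_eq_zero (by norm_num : 1 < 5)
      simp only [Finset.sum_range_succ, Finset.sum_range_zero, pow_zero, pow_one, zero_add] at this
      linear_combination this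
    have h5 : ω ^ 5 = 1 := hω.pow_eq_one
    have hprod : ∀ k < 5, ((e 0 k + e 1 k + e 2 k + e 3 k + e 4 k : ℕ) : F) = if k = 0 then 5 else 0 := by
      intro k hk
      have hω' : ω ^ (4 * k) = 1 → k = 0 := fun h => by
        have := (hω.pow_eq_one_iff_dvd _).1 h
        omega
      simp only [e, Nat.cast_add, hex]
      interval_cases k <;> norm_num <;>
        simp only [pow_eq_pow_mod _ h5, Nat.reduceMod] <;>
        linear_combination hgeom
    have hA : ∀ k < 5, zk k ^ e 0 k * zk k ^ e 1 k * zk k ^ e 2 k * zk k ^ e 3 k * zk k ^ e 4 k =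
        if k = 0 then zk k ^ 5 else 1 := fun k hk => by
      rw [← pow_add, ← pow_add, ← pow_add, ← pow_add]
      split_ifs with h0
      · exact hmod _ _ _ (hzkp k) (by rw [hprod k hk, if_pos h0]; norm_num)
      · rw [hmod _ 0 _ (hzkp k) (by rw [hprod k hk, if_neg h0, Nat.cast_zero]), pow_zero]
    have hv : v 0 * v 1 * v 2 * v 3 * v 4 =
        (zk 0 ^ e 0 0 * zk 0 ^ e 1 0 * zk 0 ^ e 2 0 * zk 0 ^ e 3 0 * zk 0 ^ e 4 0) *
        (zk 1 ^ e 0 1 * zk 1 ^ e 1 1 * zk 1 ^ e 2 1 * zk 1 ^ e 3 1 * zk 1 ^ e 4 1) *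
        (zk 2 ^ e 0 2 * zk 2 ^ e 1 2 * zk 2 ^ e 2 2 * zk 2 ^ e 3 2 * zk 2 ^ e 4 2) *
        (zk 3 ^ e 0 3 * zk 3 ^ e 1 3 * zk 3 ^ e 2 3 * zk 3 ^ e 3 3 * zk 3 ^ e 4 3) *
        (zk 4 ^ e 0 4 * zk 4 ^ e 1 4 * zk 4 ^ e 2 4 * zk 4 ^ e 3 4 * zk 4 ^ e 4 4) := by
      letI : CommGroup (Subgroup.center Q) :=
        { (inferInstance : Group (Subgroup.center Q)) with
          mul_comm := fun a b => Subtype.ext (Subgroup.mem_center_iff.1 b.2 a) }
      have hm : ∀ k m, (⟨zk k ^ m, hpQ k m⟩ : Q) ∈ Subgroup.center Q := fun k m =>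
        Subgroup.mem_center_iff.2 fun q => Subtype.ext (hcp k m q q.2).symm
      let Z : ℕ → ℕ → Subgroup.center Q := fun w k => ⟨_, hm k (e w k)⟩
      exact congrArg (fun t : Subgroup.center Q => ((t : Q) : G)) (show
        Z 0 0 * Z 0 1 * Z 0 2 * Z 0 3 * Z 0 4 * (Z 1 0 * Z 1 1 * Z 1 2 * Z 1 3 * Z 1 4) *
          (Z 2 0 * Z 2 1 * Z 2 2 * Z 2 3 * Z 2 4) * (Z 3 0 * Z 3 1 * Z 3 2 * Z 3 3 * Z 3 4) *
          (Z 4 0 * Z 4 1 * Z 4 2 * Z 4 3 * Z 4 4) =
        (Z 0 0 * Z 1 0 * Z 2 0 * Z 3 0 * Z 4 0) * (Z 0 1 * Z 1 1 * Z 2 1 * Z 3 1 * Z 4 1) *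
          (Z 0 2 * Z 1 2 * Z 2 2 * Z 3 2 * Z 4 2) * (Z 0 3 * Z 1 3 * Z 2 3 * Z 3 3 * Z 4 3) *
          (Z 0 4 * Z 1 4 * Z 2 4 * Z 3 4 * Z 4 4) by ac_rfl)
    rw [hA 0 (by norm_num), hA 1 (by norm_num), hA 2 (by norm_num), hA 3 (by norm_num), hA 4 (by norm_num),
      hall 0 (by norm_num), hall 1 (by norm_num), hall 2 (by norm_num), hall 3 (by norm_num),
      hall 4 (by norm_num)] at hv
    simp [hzk] at hv
    have hp5 : p ≠ 5 := by
      rintro rfl
      have h0 : ((5 : ℕ) : F) = 0 := CharP.cast_eq_zero F 5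
      have := hω.neZero'.out
      exact this h0
    have ho : orderOf z = p := orderOf_eq_prime hzp hz1
    have : p ∣ 5 := ho ▸ orderOf_dvd_of_pow_eq_one hv.symm
    exact absurd ((Nat.prime_dvd_prime_iff_eq Fact.out (by norm_num)).1 this) hp5
  push Not at hall
  obtain ⟨w, hw5, hw⟩ := hall
  refine ⟨v w, hvQ w, hw, hvp w, ex w, w, hex w, ?_⟩
  have h5 : ω ^ 5 = 1 := hω.pow_eq_one
  have hstep : ∀ k, y * zk k * y⁻¹ = zk (k + 1) := fun k => by simp only [hzk, pow_succ']; group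
  have hz5 : zk 5 = zk 0 := by simp [hzk, hy]
  have hsh : ∀ k m, zk k ^ (e w m * ex w) = zk k ^ ex (4 * w * m + w) := fun k m =>
    hmod _ _ _ (hzkp k) (by simp only [e, Nat.cast_mul, hex, pow_add])
  have hm : ∀ k a b : ℕ, a % 5 = b % 5 → zk k ^ ex a = zk k ^ ex b := fun k a b h =>
    hmod _ _ _ (hzkp k) (by rw [hex, hex, pow_eq_pow_mod a h5, pow_eq_pow_mod b h5, h])
  simp only [v]
  rw [(show Commute _ _ from (hcp 4 _ _ (mul_mem (mul_mem (mul_mem (hpQ 0 _) (hpQ 1 _)) (hpQ 2 _)) (hpQ 3 _))).symm).mul_pow,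
    (show Commute _ _ from (hcp 3 _ _ (mul_mem (mul_mem (hpQ 0 _) (hpQ 1 _)) (hpQ 2 _))).symm).mul_pow,
    (show Commute _ _ from (hcp 2 _ _ (mul_mem (hpQ 0 _) (hpQ 1 _))).symm).mul_pow,
    (show Commute _ _ from (hcp 1 _ _ (hpQ 0 _)).symm).mul_pow, ← pow_mul, ← pow_mul, ← pow_mul, ← pow_mul,
    ← pow_mul, hsh, hsh, hsh, hsh, hsh,
    show y * (zk 0 ^ e w 0 * zk 1 ^ e w 1 * zk 2 ^ e w 2 * zk 3 ^ e w 3 * zk 4 ^ e w 4) * y⁻¹ =
      (y * zk 0 * y⁻¹) ^ e w 0 * (y * zk 1 * y⁻¹) ^ e w 1 * (y * zk 2 * y⁻¹) ^ e w 2 *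
        (y * zk 3 * y⁻¹) ^ e w 3 * (y * zk 4 * y⁻¹) ^ e w 4 by simp only [conj_pow]; group,
    hstep, hstep, hstep, hstep, hstep, hz5]
  simp only [e]
  rw [hm 1 (4 * w * 0) (4 * w * 1 + w) (by omega), hm 2 (4 * w * 1) (4 * w * 2 + w) (by omega),
    hm 3 (4 * w * 2) (4 * w * 3 + w) (by omega), hm 4 (4 * w * 3) (4 * w * 4 + w) (by omega),
    hm 0 (4 * w * 4) (4 * w * 0 + w) (by omega)]
  have hq : ∀ a b c d : ℕ, zk 1 ^ a * zk 2 ^ b * zk 3 ^ c * zk 4 ^ d ∈ Q := fun a b c d =>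
    mul_mem (mul_mem (mul_mem (hpQ _ _) (hpQ _ _)) (hpQ _ _)) (hpQ _ _)
  rw [← (hcp 0 _ _ (hq _ _ _ _))]
  simp only [mul_assoc]

end Cfsg.Agent.H97.CFive
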