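import Cfsg.Agent.H97.CFive.Weight
import Cfsg.Agent.H97.CFive.Invariant

/-!
The centralisers of the reversal and of the quadratic diagonal element as block matrices.
-/

set_option autoImplicit false
set_option linter.unusedSectionVars false

namespace Cfsg.Agent.H97.CFive

open Matrix
open Cfsg.Agent.H1.HeisThree (sc scGrp coe_sc sc_mul sc_one sc_comm sc_inj)

variable {F : Type*} [Field F]

local notation "T5" => ZMod 5
local notation "M5" => Matrix (ZMod 5) (ZMod 5) F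
local notation "G5" => GL (ZMod 5) F
local notation "M3" => Matrix (Fin 3) (Fin 3) F
local notation "M2" => Matrix (Fin 2) (Fin 2) F

/-- Commuting with the reversal. -/
def Sym (M : M5) : Prop := ∀ i j, M (-i) (-j) = M i j

/-- The action on the even vectors. -/
def psiE (M : M5) : M3 :=
  !![M 0 0, M 0 1 + M 0 4, M 0 2 + M 0 3; M 1 0, M 1 1 + M 1 4, M 1 2 + M 1 3;
    M 2 0, M 2 1 + M 2 4, M 2 2 + M 2 3]

/-- The action on the odd vectors. -/
def psiO (M : M5) : M2 := !![M 1 1 - M 1 4, M 1 2 - M 1 3; M 2 1 - M 2 4, M 2 2 - M 2 3]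

theorem sym_facts {M : M5} (h : Sym M) :
    M 0 4 = M 0 1 ∧ M 0 3 = M 0 2 ∧ M 4 0 = M 1 0 ∧ M 3 0 = M 2 0 ∧ M 4 4 = M 1 1 ∧ M 4 1 = M 1 4 ∧
    M 4 3 = M 1 2 ∧ M 4 2 = M 1 3 ∧ M 3 4 = M 2 1 ∧ M 3 1 = M 2 4 ∧ M 3 3 = M 2 2 ∧ M 3 2 = M 2 3 :=
  ⟨h 0 1, h 0 2, h 1 0, h 2 0, h 1 1, h 1 4, h 1 2, h 1 3, h 2 1, h 2 4, h 2 2, h 2 3⟩

theorem psiE_mul {M N : M5} (hN : Sym N) : psiE (M * N) = psiE M * psiE N := by
  obtain ⟨h1, h2, h3, h4, h5, h6, h7, h8, h9, h10, h11, h12⟩ := sym_facts hN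
  ext a b
  fin_cases a <;> fin_cases b <;>
    simp [psiE, Matrix.mul_apply, sum5, Fin.sum_univ_three, Matrix.vecMul, dotProduct, h1, h2, h3, h4, h5, h6, h7, h8, h9, h10, h11, h12] <;>
    ring

theorem psiO_mul {M N : M5} (hN : Sym N) : psiO (M * N) = psiO M * psiO N := by
  obtain ⟨h1, h2, h3, h4, h5, h6, h7, h8, h9, h10, h11, h12⟩ := sym_facts hN
  ext a b
  fin_cases a <;> fin_cases b <;>
    simp [psiO, Matrix.mul_apply, sum5, Fin.sum_univ_two, Matrix.vecMul, dotProduct, h1, h2, h3, h4, h5, h6, h7, h8, h9, h10, h11, h12] <;>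
    ring

theorem psiE_one : psiE (1 : M5) = 1 := by
  ext a b
  fin_cases a <;> fin_cases b <;> simp +decide [psiE, Matrix.one_apply]

theorem psiO_one : psiO (1 : M5) = 1 := by
  ext a b
  fin_cases a <;> fin_cases b <;> simp +decide [psiO, Matrix.one_apply]

theorem psiE_sub (M N : M5) : psiE (M - N) = psiE M - psiE N := by
  ext a b
  fin_cases a <;> fin_cases b <;> simp [psiE] <;> ring

theorem psiO_sub (M N : M5) : psiO (M - N) = psiO M - psiO N := by
  ext a b
  fin_cases a <;> fin_cases b <;> simp [psiO] <;> ring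

theorem sym_ext (h2 : (2 : F) ≠ 0) {M N : M5} (hM : Sym M) (hN : Sym N) (hE : psiE M = psiE N)
    (hO : psiO M = psiO N) : M = N := by
  obtain ⟨a1, a2, a3, a4, a5, a6, a7, a8, a9, a10, a11, a12⟩ := sym_facts hM
  obtain ⟨b1, b2, b3, b4, b5, b6, b7, b8, b9, b10, b11, b12⟩ := sym_facts hN
  rw [← Matrix.ext_iff] at hE hO
  have e00 := hE 0 0; have e01 := hE 0 1; have e02 := hE 0 2
  have e10 := hE 1 0; have e11 := hE 1 1; have e12 := hE 1 2
  have e20 := hE 2 0; have e21 := hE 2 1; have e22 := hE 2 2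
  have o00 := hO 0 0; have o01 := hO 0 1; have o10 := hO 1 0; have o11 := hO 1 1
  simp only [psiE, psiO, Matrix.of_apply, Matrix.cons_val', Matrix.cons_val_fin_one, Matrix.cons_val,
    a1, a2, b1, b2] at e00 e01 e02 e10 e11 e12 e20 e21 e22 o00 o01 o10 o11
  have f01 : M 0 1 = N 0 1 := mul_left_cancel₀ h2 (by linear_combination e01)
  have f02 : M 0 2 = N 0 2 := mul_left_cancel₀ h2 (by linear_combination e02)
  have f11 : M 1 1 = N 1 1 := mul_left_cancel₀ h2 (by linear_combination e11 + o00)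
  have f14 : M 1 4 = N 1 4 := mul_left_cancel₀ h2 (by linear_combination e11 - o00)
  have f12 : M 1 2 = N 1 2 := mul_left_cancel₀ h2 (by linear_combination e12 + o01)
  have f13 : M 1 3 = N 1 3 := mul_left_cancel₀ h2 (by linear_combination e12 - o01)
  have f21 : M 2 1 = N 2 1 := mul_left_cancel₀ h2 (by linear_combination e21 + o10)
  have f24 : M 2 4 = N 2 4 := mul_left_cancel₀ h2 (by linear_combination e21 - o10)
  have f22 : M 2 2 = N 2 2 := mul_left_cancel₀ h2 (by linear_combination e22 + o11)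
  have f23 : M 2 3 = N 2 3 := mul_left_cancel₀ h2 (by linear_combination e22 - o11)
  ext i j
  rcases t5_cases i with rfl | rfl | rfl | rfl | rfl <;> rcases t5_cases j with rfl | rfl | rfl | rfl | rfl <;>
    simp only [a1, a2, a3, a4, a5, a6, a7, a8, a9, a10, a11, a12, b1, b2, b3, b4, b5, b6, b7, b8, b9, b10, b11,
      b12, e00, e10, e20, f01, f02, f11, f14, f12, f13, f21, f24, f22, f23]

/-- Nilpotent matrices of size three have cube zero. -/
theorem cube_eq_zero {M : M3} (h : IsNilpotent M) : M * M * M = 0 := by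
  have hc : M.charpoly = Polynomial.X ^ 3 := by
    have := Matrix.isNilpotent_charpoly_sub_pow_of_isNilpotent h
    rw [isNilpotent_iff_eq_zero, sub_eq_zero, Fintype.card_fin] at this
    exact this
  have := Matrix.aeval_self_charpoly M
  rw [hc, map_pow, Polynomial.aeval_X] at this
  rw [← this, pow_succ, pow_two]

/-- Nilpotent matrices of size two have square zero. -/
theorem sq_eq_zero {M : M2} (h : IsNilpotent M) : M * M = 0 := by
  have hc : M.charpoly = Polynomial.X ^ 2 := by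
    have := Matrix.isNilpotent_charpoly_sub_pow_of_isNilpotent h
    rw [isNilpotent_iff_eq_zero, sub_eq_zero, Fintype.card_fin] at this
    exact this
  have := Matrix.aeval_self_charpoly M
  rw [hc, map_pow, Polynomial.aeval_X] at this
  rw [← this, pow_two]

theorem nilp_of_pow {n : Type*} [Fintype n] [DecidableEq n] [Nonempty n] {p : ℕ} [Fact p.Prime] [CharP F p] {A : Matrix n n F}
    (h : A ^ p = 1) : IsNilpotent (A - 1) :=
  ⟨p, by rw [sub_pow_char_of_commute p (Commute.one_right A), h, one_pow, sub_self]⟩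

namespace Fifth

variable (C : Fifth F)

/-- The centraliser of the reversal. -/
def CJ : Subgroup G5 := Subgroup.centralizer {C.J}

theorem mem_CJ {g : G5} : g ∈ C.CJ ↔ g * C.J = C.J * g :=
  ⟨fun h => (Subgroup.mem_centralizer_singleton_iff.1 h), fun h => Subgroup.mem_centralizer_singleton_iff.2 h⟩

theorem sym_of_mem {g : G5} (h : g ∈ C.CJ) : Sym (g : M5) := C.commute_J_iff.1 (C.mem_CJ.1 h)

/-- The action on the even vectors, as a homomorphism. -/
def phE : C.CJ →* GL (Fin 3) F :=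
  (MonoidHom.mk ⟨fun g => psiE ((g : G5) : M5), psiE_one⟩ fun g (h : C.CJ) => psiE_mul (C.sym_of_mem h.2) : C.CJ →* M3).toHomUnits

/-- The action on the odd vectors, as a homomorphism. -/
def phO : C.CJ →* GL (Fin 2) F :=
  (MonoidHom.mk ⟨fun g => psiO ((g : G5) : M5), psiO_one⟩ fun g (h : C.CJ) => psiO_mul (C.sym_of_mem h.2) : C.CJ →* M2).toHomUnits

theorem coe_phE (g : C.CJ) : (C.phE g : M3) = psiE ((g : G5) : M5) := rfl
theorem coe_phO (g : C.CJ) : (C.phO g : M2) = psiO ((g : G5) : M5) := rfl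

theorem ext_CJ (h2 : (2 : F) ≠ 0) {g h : C.CJ} (hE : C.phE g = C.phE h) (hO : C.phO g = C.phO h) : g = h :=
  Subtype.ext (Units.ext (sym_ext h2 (C.sym_of_mem g.2) (C.sym_of_mem h.2) (congrArg Units.val hE)
    (congrArg Units.val hO)))

theorem J_mem_CJ : C.J ∈ C.CJ := C.mem_CJ.2 rfl
theorem y_mem_CJ : C.y ∈ C.CJ := C.mem_CJ.2 C.y_J
theorem S_mem_CJ : C.S ∈ C.CJ := C.mem_CJ.2 C.S_J
theorem sc_mem_CJ (c : Fˣ) : sc c ∈ C.CJ := C.mem_CJ.2 (sc_comm c _)

theorem psiE_y : psiE (C.y : M5) = Matrix.diagonal ![1, C.ω, C.ω ^ 4] := by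
  ext a b
  fin_cases a <;> fin_cases b <;>
    simp +decide [psiE, Fifth.y, Fifth.coe_dg, C.ch_zero, C.ch_one, C.ch_four, show (2 : T5) * 2 = 4 from rfl]

theorem psiO_y : psiO (C.y : M5) = !![C.ω, 0; 0, C.ω ^ 4] := by
  ext a b
  fin_cases a <;> fin_cases b <;>
    simp +decide [psiO, Fifth.y, Fifth.coe_dg, C.ch_one, C.ch_four, show (2 : T5) * 2 = 4 from rfl]

theorem psiE_J : psiE (C.J : M5) = 1 := by
  ext a b
  fin_cases a <;> fin_cases b <;> simp +decide [psiE, Fifth.coe_J, Matrix.one_apply]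

theorem psiO_J : psiO (C.J : M5) = -1 := by
  ext a b
  fin_cases a <;> fin_cases b <;> simp +decide [psiO, Fifth.coe_J, Matrix.one_apply]

theorem psiE_sc (c : Fˣ) : psiE ((sc c : G5) : M5) = (c : F) • 1 := by
  ext a b
  fin_cases a <;> fin_cases b <;> simp +decide [psiE, coe_sc, Matrix.one_apply]

theorem psiO_sc (c : Fˣ) : psiO ((sc c : G5) : M5) = (c : F) • 1 := by
  ext a b
  fin_cases a <;> fin_cases b <;> simp +decide [psiO, coe_sc, Matrix.one_apply]

theorem psiO_S : psiO (C.S : M5) =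
    C.root⁻¹ • !![C.ω - C.ω ^ 4, C.ω ^ 2 - C.ω ^ 3; C.ω ^ 2 - C.ω ^ 3, C.ω ^ 4 - C.ω] := by
  ext a b
  fin_cases a <;> fin_cases b <;>
    simp +decide [psiO, Fifth.coe_S, C.ch_one, C.ch_two, C.ch_three, C.ch_four] <;>
    first
      | ring1
      | (simp only [show (2 : T5) * 2 = 4 from rfl, show (2 : T5) * 3 = 1 from rfl, show (2 : T5) * 4 = 3 from rfl,
          C.ch_one, C.ch_two, C.ch_three, C.ch_four] <;> ring)

theorem psiE_S : psiE (C.S : M5) = C.root⁻¹ • !![1, 2, 2; 1, C.ω + C.ω ^ 4, C.ω ^ 2 + C.ω ^ 3;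
    1, C.ω ^ 2 + C.ω ^ 3, C.ω + C.ω ^ 4] := by
  ext a b
  fin_cases a <;> fin_cases b <;>
    simp +decide [psiE, Fifth.coe_S, C.ch_zero, C.ch_one, C.ch_two, C.ch_three, C.ch_four] <;>
    first
      | ring1
      | (simp only [show (2 : T5) * 2 = 4 from rfl, show (2 : T5) * 3 = 1 from rfl, show (2 : T5) * 4 = 3 from rfl,
          C.ch_one, C.ch_two, C.ch_three, C.ch_four] <;> ring)

/-- The centraliser of the quadratic element. -/
def Cy : Subgroup G5 := Subgroup.centralizer {C.y}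

theorem mem_Cy {g : G5} : g ∈ C.Cy ↔ g * C.y = C.y * g :=
  ⟨fun h => (Subgroup.mem_centralizer_singleton_iff.1 h), fun h => Subgroup.mem_centralizer_singleton_iff.2 h⟩

theorem zero_of_mem_Cy {g : G5} (h : g ∈ C.Cy) {i j : T5} (hij : i * i ≠ j * j) : (g : M5) i j = 0 := by
  have e := congrArg (fun g : G5 => (g : M5) i j) (C.mem_Cy.1 h)
  simp only [Units.val_mul, Fifth.y, Fifth.coe_dg, Matrix.mul_diagonal, Matrix.diagonal_mul] at e
  have h' : (g : M5) i j * (C.ch (j * j) - C.ch (i * i)) = 0 := by linear_combination e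
  exact (mul_eq_zero.1 h').resolve_right (sub_ne_zero.2 fun e => hij (C.ch_inj e).symm)

theorem D_mem_Cy : C.D ∈ C.Cy := by
  rw [C.mem_Cy, C.D_eq, Fifth.y, C.dg_mul, C.dg_mul]
  simp only [add_comm]

theorem J_mem_Cy : C.J ∈ C.Cy := C.mem_Cy.2 C.y_J.symm

theorem Cy_rows {g : G5} (h : g ∈ C.Cy) :
    (g : M5) 0 1 = 0 ∧ (g : M5) 0 2 = 0 ∧ (g : M5) 0 3 = 0 ∧ (g : M5) 0 4 = 0 ∧ (g : M5) 1 0 = 0 ∧
    (g : M5) 1 2 = 0 ∧ (g : M5) 1 3 = 0 ∧ (g : M5) 4 0 = 0 ∧ (g : M5) 4 2 = 0 ∧ (g : M5) 4 3 = 0 ∧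
    (g : M5) 2 0 = 0 ∧ (g : M5) 2 1 = 0 ∧ (g : M5) 2 4 = 0 ∧ (g : M5) 3 0 = 0 ∧ (g : M5) 3 1 = 0 ∧
    (g : M5) 3 4 = 0 :=
  ⟨C.zero_of_mem_Cy h (by decide), C.zero_of_mem_Cy h (by decide), C.zero_of_mem_Cy h (by decide),
    C.zero_of_mem_Cy h (by decide), C.zero_of_mem_Cy h (by decide), C.zero_of_mem_Cy h (by decide),
    C.zero_of_mem_Cy h (by decide), C.zero_of_mem_Cy h (by decide), C.zero_of_mem_Cy h (by decide),
    C.zero_of_mem_Cy h (by decide), C.zero_of_mem_Cy h (by decide), C.zero_of_mem_Cy h (by decide),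
    C.zero_of_mem_Cy h (by decide), C.zero_of_mem_Cy h (by decide), C.zero_of_mem_Cy h (by decide),
    C.zero_of_mem_Cy h (by decide)⟩

/-- The action on the first plane. -/
def ph1 : C.Cy →* GL (Fin 2) F :=
  ({ toFun := fun g => !![((g : G5) : M5) 1 1, ((g : G5) : M5) 1 4; ((g : G5) : M5) 4 1, ((g : G5) : M5) 4 4]
     map_one' := by ext a b; fin_cases a <;> fin_cases b <;> simp +decide
     map_mul' := fun g h => by
      obtain ⟨-, -, -, -, h10, h12, h13, h40, h42, h43, -, -, -, -, -, -⟩ := C.Cy_rows g.2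
      ext a b
      fin_cases a <;> fin_cases b <;> simp [Matrix.mul_apply, sum5, h10, h12, h13, h40, h42, h43] } : C.Cy →* M2).toHomUnits

/-- The action on the second plane. -/
def ph2 : C.Cy →* GL (Fin 2) F :=
  ({ toFun := fun g => !![((g : G5) : M5) 2 2, ((g : G5) : M5) 2 3; ((g : G5) : M5) 3 2, ((g : G5) : M5) 3 3]
     map_one' := by ext a b; fin_cases a <;> fin_cases b <;> simp +decide
     map_mul' := fun g h => by
      obtain ⟨-, -, -, -, -, -, -, -, -, -, h20, h21, h24, h30, h31, h34⟩ := C.Cy_rows g.2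
      ext a b
      fin_cases a <;> fin_cases b <;> simp [Matrix.mul_apply, sum5, h20, h21, h24, h30, h31, h34] } : C.Cy →* M2).toHomUnits

/-- The action on the fixed line. -/
def ph0 : C.Cy →* Fˣ :=
  ({ toFun := fun g => ((g : G5) : M5) 0 0
     map_one' := by simp
     map_mul' := fun g h => by
      obtain ⟨h01, h02, h03, h04, -⟩ := C.Cy_rows g.2
      simp [Matrix.mul_apply, sum5, h01, h02, h03, h04] } : C.Cy →* F).toHomUnits

theorem coe_ph0 (g : C.Cy) : (C.ph0 g : F) = ((g : G5) : M5) 0 0 := rfl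
theorem coe_ph1 (g : C.Cy) : (C.ph1 g : M2) =
    !![((g : G5) : M5) 1 1, ((g : G5) : M5) 1 4; ((g : G5) : M5) 4 1, ((g : G5) : M5) 4 4] := rfl
theorem coe_ph2 (g : C.Cy) : (C.ph2 g : M2) =
    !![((g : G5) : M5) 2 2, ((g : G5) : M5) 2 3; ((g : G5) : M5) 3 2, ((g : G5) : M5) 3 3] := rfl

theorem ext_Cy {g h : C.Cy} (h0 : C.ph0 g = C.ph0 h) (h1 : C.ph1 g = C.ph1 h) (h2 : C.ph2 g = C.ph2 h) :
    g = h := by
  refine Subtype.ext (Units.ext (Matrix.ext fun i j => ?_))
  by_cases hij : i * i = j * j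
  · have e0 := congrArg Units.val h0
    have e1 := congrArg Units.val h1
    have e2 := congrArg Units.val h2
    rw [C.coe_ph0, C.coe_ph0] at e0
    rw [C.coe_ph1, C.coe_ph1, ← Matrix.ext_iff] at e1
    rw [C.coe_ph2, C.coe_ph2, ← Matrix.ext_iff] at e2
    have a00 := e1 0 0; have a01 := e1 0 1; have a10 := e1 1 0; have a11 := e1 1 1
    have b00 := e2 0 0; have b01 := e2 0 1; have b10 := e2 1 0; have b11 := e2 1 1
    simp only [Matrix.of_apply, Matrix.cons_val', Matrix.cons_val_fin_one, Matrix.cons_val] at a00 a01 a10 a11 b00 b01 b10 b11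
    rcases t5_cases i with rfl | rfl | rfl | rfl | rfl <;> rcases t5_cases j with rfl | rfl | rfl | rfl | rfl <;>
      first | assumption | exact absurd hij (by decide)
  · rw [C.zero_of_mem_Cy g.2 hij, C.zero_of_mem_Cy h.2 hij]

end Fifth

end Cfsg.Agent.H97.CFive
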