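import Cfsg.Agent.H97.CFive.Blocks

/-!
Central elements of an invariant group of order prime to the characteristic commute with the quadratic element.
-/

set_option autoImplicit false
set_option linter.unusedSectionVars false

namespace Cfsg.Agent.H97.CFive

open Matrix

variable {F : Type*} [Field F] [Fintype F] {p : ℕ} [Fact p.Prime] (hF : Fintype.card F = p)

local notation "T5" => ZMod 5
local notation "M5" => Matrix (ZMod 5) (ZMod 5) F
local notation "G5" => GL (ZMod 5) F

include hF

/-- A combination over the prime field of commuting matrices fixed by a Frobenius power is fixed. -/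
theorem pow_fixed {ι : Type*} (m : ℕ) (a : ι → M5) (c : ι → F) (hc : ∀ i j, Commute (a i) (a j))
    (ha : ∀ i, a i ^ p ^ m = a i) (s : Finset ι) : (∑ i ∈ s, c i • a i) ^ p ^ m = ∑ i ∈ s, c i • a i := by
  classical
  haveI : CharP F p := charP_of_card_eq_prime hF
  have hcp : ∀ x : F, x ^ p ^ m = x := fun x => by
    have := FiniteField.pow_card_pow m x
    rwa [hF] at this
  induction s using Finset.induction_on with
  | empty => simp [zero_pow (pow_ne_zero m (Fact.out : p.Prime).ne_zero)]
  | insert i s hi ih =>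
    rw [Finset.sum_insert hi, add_pow_char_pow_of_commute, ih, smul_pow, ha, hcp]
    exact Commute.sum_right _ _ _ fun j _ => ((hc i j).smul_left _).smul_right _

variable {C : Fifth F}

/-- Central elements of an invariant group of order prime to the characteristic commute with the quadratic element. -/
theorem cy_of_central (hp3 : 3 ≤ p) {Q : Subgroup G5} (hQ : ¬ p ∣ Nat.card Q)
    (hyQ : ∀ q ∈ Q, C.y * q * C.y⁻¹ ∈ Q) {z : G5} (hz : z ∈ Q) (hzc : ∀ q ∈ Q, z * q = q * z) :
    z * C.y = C.y * z := by
  classical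
  haveI : CharP F p := charP_of_card_eq_prime hF
  set cj : ℕ → G5 := fun k => C.y ^ k * z * (C.y ^ k)⁻¹ with hcj
  have hy4 : C.y ^ 4 = C.y⁻¹ := eq_inv_of_mul_eq_one_left (by rw [← pow_succ, C.y_five])
  have hpow : ∀ (n : ℕ), ∀ q ∈ Q, C.y ^ n * q * (C.y ^ n)⁻¹ ∈ Q := by
    intro n
    induction n with
    | zero => intro q hq; simpa using hq
    | succ n ih =>
      intro q hq
      rw [show C.y ^ (n + 1) * q * (C.y ^ (n + 1))⁻¹ = C.y * (C.y ^ n * q * (C.y ^ n)⁻¹) * C.y⁻¹ by
        rw [pow_succ']; group]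
      exact hyQ _ (ih q hq)
  have hcQ : ∀ k, cj k ∈ Q := fun k => hpow k z hz
  have hcc : ∀ k, ∀ q ∈ Q, cj k * q = q * cj k := by
    intro k q hq
    have hq' : C.y ^ (4 * k) * q * (C.y ^ (4 * k))⁻¹ ∈ Q := hpow _ q hq
    rw [pow_mul, hy4, inv_pow, inv_inv] at hq'
    have := hzc _ hq'
    simp only [hcj]
    calc C.y ^ k * z * (C.y ^ k)⁻¹ * q = C.y ^ k * (z * ((C.y ^ k)⁻¹ * q * C.y ^ k)) * (C.y ^ k)⁻¹ := by group
      _ = q * (C.y ^ k * z * (C.y ^ k)⁻¹) := by rw [this]; group
  set N := Nat.card Q
  have hN0 : 0 < N := Nat.card_pos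
  have hm : p ^ N.totient ≡ 1 [MOD N] :=
    Nat.ModEq.pow_totient (((Fact.out : p.Prime).coprime_iff_not_dvd).2 hQ)
  have hfix : ∀ g ∈ Q, g ^ p ^ N.totient = g := by
    intro g hg
    have h1 : g ^ N = 1 := by
      have := pow_card_eq_one' (G := Q) (x := ⟨g, hg⟩)
      exact congrArg Subtype.val this
    rw [pow_eq_pow_mod _ h1, hm, ← pow_eq_pow_mod _ h1, pow_one]
  -- a weight component
  have hyk : ∀ k : ℕ, C.y ^ k = C.dg fun i => (k : T5) * (i * i) := by
    intro k
    induction k with
    | zero =>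
      refine Units.ext ?_
      rw [pow_zero, Units.val_one, Fifth.coe_dg, ← Matrix.diagonal_one]
      congr 1
      funext i
      simp [C.ch_zero]
    | succ k ih =>
      rw [pow_succ, ih, Fifth.y, C.dg_mul]
      congr 1
      funext i
      push_cast
      ring
  have key : ∀ w : T5, w ≠ 0 → ∀ i j, i * i - j * j = w → (z : M5) i j = 0 := by
    intro w hw i j hij
    set N0 : M5 := ∑ k : T5, ((5 : F)⁻¹ * C.ch (-(k * w))) • (cj k.val : M5) with hN0def
    have hval : ∀ a b, N0 a b = if a * a - b * b = w then (z : M5) a b else 0 := by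
      intro a b
      rw [hN0def, Matrix.sum_apply, Finset.sum_congr rfl fun k _ => show
          (((5 : F)⁻¹ * C.ch (-(k * w))) • (cj k.val : M5)) a b =
            (5 : F)⁻¹ * (z : M5) a b * C.ch (k * (a * a - b * b - w)) by
          simp only [hcj, Matrix.smul_apply, smul_eq_mul]
          rw [hyk, C.dg_conj_apply, ZMod.natCast_zmod_val,
            show k * (a * a - b * b - w) = -(k * w) + (k * (a * a) - k * (b * b)) by ring, C.ch_add]
          ring,
        ← Finset.mul_sum, C.sum_ch_mul]
      by_cases h : a * a - b * b = w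
      · rw [if_pos (sub_eq_zero.2 h), if_pos h]
        field_simp [C.five_ne_zero]
      · rw [if_neg (sub_ne_zero.2 h), if_neg h, mul_zero]
    have hfixN : N0 ^ p ^ N.totient = N0 := by
      refine pow_fixed hF _ _ _ (fun k l => ?_) (fun k => ?_) _
      · rw [commute_iff_eq, ← Units.val_mul, ← Units.val_mul, hcc _ _ (hcQ _)]
      · rw [← Units.val_pow_eq_pow_val, hfix _ (hcQ _)]
    have hcube : N0 * N0 * N0 = 0 := by
      refine Matrix.ext fun a d => ?_
      rw [Matrix.mul_apply, Matrix.zero_apply]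
      refine Finset.sum_eq_zero fun c _ => ?_
      by_contra hne
      obtain ⟨b, -, hb⟩ : ∃ b ∈ (Finset.univ : Finset T5), N0 a b * N0 b c ≠ 0 :=
        Finset.exists_ne_zero_of_sum_ne_zero (by simpa [Matrix.mul_apply] using left_ne_zero_of_mul hne)
      have e1 := left_ne_zero_of_mul hb
      have e2 := right_ne_zero_of_mul hb
      have e3 := right_ne_zero_of_mul hne
      rw [hval, ne_eq, ite_eq_right_iff] at e1 e2 e3
      push Not at e1 e2 e3
      exact (by decide +kernel : ∀ w : T5, w ≠ 0 → ∀ a b c d : T5, a * a - b * b = w → b * b - c * c = w →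
        c * c - d * d ≠ w) w hw a b c d e1.1 e2.1 e3.1
    have h3 : 3 ≤ p ^ N.totient :=
      hp3.trans (Nat.le_self_pow (Nat.totient_pos.2 hN0).ne' p)
    have h0 : N0 = 0 := by
      rw [← hfixN]
      exact pow_eq_zero_of_le h3 (by rw [pow_succ, pow_two, hcube])
    have := hval i j
    rwa [if_pos hij, h0, Matrix.zero_apply, eq_comm] at this
  refine Units.ext (Matrix.ext fun i j => ?_)
  simp only [Units.val_mul, Fifth.y, Fifth.coe_dg, Matrix.mul_diagonal, Matrix.diagonal_mul]
  by_cases h : i * i - j * j = 0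
  · rw [sub_eq_zero.1 h, mul_comm]
  · rw [key _ h i j rfl, mul_zero, zero_mul]

end Cfsg.Agent.H97.CFive
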