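import Cfsg.Prelude.Def_GeometricClasses
import Cfsg.Agent.H1.HeisThree.Centre
import Cfsg.Agent.H97.CFive.Base

/-!
The symplectic type clause in five dimensions.
-/

set_option autoImplicit false
set_option linter.unusedSectionVars false
set_option linter.style.haveILetI false

namespace Cfsg.Agent.H97.CFive

open Matrix Subgroup
open scoped commutatorElement
open Cfsg.Agent.H1.HeisThree (sc scGrp coe_sc sc_mul sc_one sc_inv sc_comm sc_inj sc_pow conj_sc_mul)

theorem prime_five : Nat.Prime 5 := by norm_num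

/-- Class at most two. -/
theorem commutator_le_center {Q : Type*} [Group Q] [Finite Q] (hQ : IsPGroup 5 Q) (hexp : ∀ x : Q, x ^ 5 = 1)
    (hcyc : ∀ A : Subgroup Q, A.Characteristic → IsMulCommutative A → IsCyclic A) :
    commutator Q ≤ center Q := by
  haveI : Fact (Nat.Prime 5) := ⟨prime_five⟩
  by_contra h
  obtain ⟨n, hn, hn2, hnc⟩ := H1.HeisThree.exists_second_noncentral hQ h
  set N := commutator Q ⊓ H46.zTwo Q with hN
  have hchar : N.Characteristic := by
    rw [characteristic_iff_map_le]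
    intro e
    exact (map_inf_le _ _ _).trans (inf_le_inf (characteristic_iff_map_le.1 inferInstance e)
      (characteristic_iff_map_le.1 inferInstance e))
  haveI := hchar
  have hab : IsMulCommutative N :=
    ⟨⟨fun a b => Subtype.ext (H46.zTwo_comm_commutator a.2.2 b.2.1)⟩⟩
  haveI := hcyc N hchar hab
  have hn1 : (⟨n, hn, hn2⟩ : N) ≠ 1 := fun e => hnc (by
    rw [show n = 1 from congrArg Subtype.val e]; exact one_mem _)
  have hcard : Nat.card N = 5 := by
    have hd : Nat.card N ∣ 5 := by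
      rw [← IsCyclic.exponent_eq_card]
      exact Monoid.exponent_dvd_of_forall_pow_eq_one fun x => Subtype.ext (hexp x)
    rcases (Nat.dvd_prime prime_five).1 hd with h1 | h1
    · haveI := (Nat.card_eq_one_iff_unique.1 h1).1
      exact absurd (Subsingleton.elim _ _) hn1
    · exact h1
  have hne : N ≠ ⊥ := fun e => by
    rw [e, card_bot] at hcard
    norm_num at hcard
  obtain ⟨⟨z, hzN, hzc⟩, hz1⟩ := ne_bot_iff_exists_ne_one.1 (PGroups.inf_center_ne_bot hQ N hne)
  have hmem : (⟨n, hn, hn2⟩ : N) ∈ zpowers (⟨z, hzN⟩ : N) :=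
    mem_zpowers_of_prime_card hcard fun e => hz1 (Subtype.ext (congrArg Subtype.val e :))
  obtain ⟨k, hk⟩ := hmem
  exact hnc ((show z ^ k = n from congrArg Subtype.val hk) ▸ (center Q).zpow_mem hzc k)


variable {F : Type*} [Field F]

local notation "T5" => ZMod 5
local notation "V" => ZMod 5 × ZMod 5
local notation "M5" => Matrix (ZMod 5) (ZMod 5) F
local notation "G5" => GL (ZMod 5) F

section Model

variable (C : Fifth F)

/-- The Heisenberg group of order 125. -/
def RH : Subgroup G5 where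
  carrier := {g | g ^ 5 = 1 ∧ C.InR g}
  one_mem' := ⟨one_pow 5, 1, 0, by rw [sc_one, C.W_zero, one_mul]⟩
  mul_mem' := by
    rintro g h ⟨hg3, c, u, rfl⟩ ⟨hh3, d, v, rfl⟩
    have cube : ∀ (c : Fˣ) (u : V), (sc c * C.W u) ^ 5 = 1 → c ^ 5 = 1 := fun c u h => by
      rw [(show Commute (sc c) (C.W u) from sc_comm _ _).mul_pow, C.W_five, mul_one, sc_pow, ← sc_one] at h
      exact sc_inj h
    refine ⟨?_, c * d * Units.mk0 _ (C.ch_ne_zero (u.2 * v.1)), u + v, ?_⟩
    · have e : sc c * C.W u * (sc d * C.W v) =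
          sc (c * d * Units.mk0 _ (C.ch_ne_zero (u.2 * v.1))) * C.W (u + v) := by
        rw [mul_assoc, ← mul_assoc (C.W u), ← sc_comm, mul_assoc, C.W_mul, sc_mul, sc_mul]
        simp only [mul_assoc]
      rw [e, (show Commute (sc _) (C.W (u + v)) from sc_comm _ _).mul_pow, C.W_five, mul_one, sc_pow, mul_pow,
        mul_pow, cube c u hg3, cube d v hh3, one_mul, one_mul, ← sc_one]
      refine congrArg sc (Units.ext ?_)
      rw [Units.val_pow_eq_pow_val, Units.val_mk0, Units.val_one, Fifth.ch, ← pow_mul, mul_comm, pow_mul,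
        C.pow_five, one_pow]
    · rw [mul_assoc, ← mul_assoc (C.W u), ← sc_comm, mul_assoc, C.W_mul, sc_mul, sc_mul]
      simp only [mul_assoc]
  inv_mem' := by
    rintro g ⟨hg3, c, u, rfl⟩
    refine ⟨by rw [inv_pow, hg3, inv_one], c⁻¹ * (Units.mk0 _ (C.ch_ne_zero (u.2 * (-u).1)))⁻¹, -u, ?_⟩
    rw [inv_eq_iff_mul_eq_one]
    rw [mul_assoc, ← mul_assoc (C.W u), ← sc_comm, mul_assoc, C.W_mul, add_neg_cancel, C.W_zero, mul_one,
      ← sc_mul, ← sc_mul, ← sc_one]
    congr 1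
    rw [mul_assoc (c⁻¹), inv_mul_cancel, mul_one, mul_inv_cancel]

theorem W_mem_RH (v : V) : C.W v ∈ RH C := ⟨C.W_five v, 1, v, by rw [sc_one, one_mul]⟩

theorem conj_mem_RH {g x : G5} (hg : g ∈ C.NZ) (hx : x ∈ RH C) : g * x * g⁻¹ ∈ RH C := by
  obtain ⟨hx3, c, v, rfl⟩ := hx
  refine ⟨by rw [conj_pow, hx3, mul_one, mul_inv_cancel], ?_⟩
  obtain ⟨σ, hσ⟩ := hg
  obtain ⟨d, hd⟩ := hσ v
  exact ⟨c * d, σ v, by rw [conj_sc_mul, hd, ← mul_assoc, ← sc_mul]⟩

theorem mem_NZ_iff (g : G5) : g ∈ C.NZ ↔ ∀ x, x ∈ RH C ↔ g * x * g⁻¹ ∈ RH C := by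
  constructor
  · intro hg x
    refine ⟨conj_mem_RH C hg, fun h => ?_⟩
    have := conj_mem_RH C (inv_mem hg) h
    rwa [show g⁻¹ * (g * x * g⁻¹) * g⁻¹⁻¹ = x by group] at this
  · intro h
    exact C.mem_NZ_of_conj fun v => ((h _).1 (W_mem_RH C v)).2

theorem det_W_diag (b : T5) : (C.W (0, b) : M5).det = 1 := by
  have e : (C.W (0, b) : M5) = Matrix.diagonal fun i => C.ch (b * i) := by
    ext i j
    by_cases h : i = j <;> simp [Fifth.coe_W, Fifth.wMat_apply, h]
  rw [e, Matrix.det_diagonal, show (Finset.univ : Finset T5) = {0, 1, 2, 3, 4} by decide,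
    Finset.prod_insert (by decide), Finset.prod_insert (by decide), Finset.prod_insert (by decide),
    Finset.prod_insert (by decide), Finset.prod_singleton, ← C.ch_add, ← C.ch_add, ← C.ch_add, ← C.ch_add,
    (by decide : ∀ b : T5, b * 0 + (b * 1 + (b * 2 + (b * 3 + b * 4))) = 0) b, C.ch_zero]

theorem det_W (v : V) : (C.W v : M5).det = 1 := by
  have h : ∀ a : T5, (C.W (a, 0) : M5).det = 1 := by
    intro a
    have e := congrArg (fun g : G5 => (g : M5).det) (C.S_W (0, -a))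
    simp only [Units.val_mul, Matrix.det_mul, det_W_diag, neg_neg, coe_sc, Matrix.det_smul, Matrix.det_one,
      mul_one, zero_mul, neg_zero, C.ch_zero, Units.val_mk0, one_pow, one_mul] at e
    have hS : (C.S : M5).det ≠ 0 := (Matrix.isUnits_det_units C.S).ne_zero
    exact mul_right_cancel₀ hS (by rw [one_mul]; exact e.symm)
  have e := congrArg (fun g : G5 => (g : M5).det) (C.W_mul (v.1, 0) (0, v.2))
  simp only [Units.val_mul, Matrix.det_mul, h, det_W_diag, coe_sc, Matrix.det_smul, Matrix.det_one, mul_one,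
    Units.val_mk0, one_mul, zero_mul, C.ch_zero, one_pow, Prod.mk_add_mk, add_zero, zero_add] at e
  exact e.symm

theorem det_y : (C.y : M5).det = 1 := by
  rw [show (C.y : M5) = Matrix.diagonal fun i => C.ch (i * i) from rfl, Matrix.det_diagonal,
    show (Finset.univ : Finset T5) = {0, 1, 2, 3, 4} by decide, Finset.prod_insert (by decide),
    Finset.prod_insert (by decide), Finset.prod_insert (by decide), Finset.prod_insert (by decide),
    Finset.prod_singleton, ← C.ch_add, ← C.ch_add, ← C.ch_add, ← C.ch_add,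
    show (0 : T5) * 0 + (1 * 1 + (2 * 2 + (3 * 3 + 4 * 4))) = 0 by decide, C.ch_zero]

theorem det_J : (C.J : M5).det = 1 := by
  set σ : Equiv.Perm T5 := Equiv.neg T5 with hσ
  have e : (C.J : M5) = σ.permMatrix F := by
    ext i j
    simp only [Fifth.coe_J, Equiv.Perm.permMatrix, PEquiv.toMatrix_apply, Equiv.toPEquiv_apply, hσ, Option.mem_def,
      Option.some.injEq, Equiv.neg_apply]
    exact if_congr ⟨fun h => by rw [h, neg_neg], fun h => by rw [← h, neg_neg]⟩ rfl rfl
  rw [e, Matrix.det_permutation, show Equiv.Perm.sign σ = 1 by rw [hσ]; decide]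
  simp

theorem det_S : (C.S : M5).det = 1 ∨ (C.S : M5).det = -1 :=
  mul_self_eq_one_iff.1 (by rw [← Matrix.det_mul, ← Units.val_mul, C.S_mul_S, det_J])

/-- A shear with determinant one outside the normaliser. -/
theorem exists_not_mem_NZ : ∃ g : G5, (g : M5).det = 1 ∧ g ∉ C.NZ := by
  have hxy : (0 : T5) ≠ 1 := by decide
  have hdet : (Matrix.transvection (0 : T5) 1 (1 : F)).det = 1 := Matrix.det_transvection_of_ne _ _ hxy _
  obtain ⟨T, hT⟩ : ∃ T : G5, (T : M5) = Matrix.transvection (0 : T5) 1 (1 : F) :=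
    ⟨Matrix.GeneralLinearGroup.mkOfDetNeZero _ (ne_of_eq_of_ne hdet one_ne_zero), rfl⟩
  refine ⟨T, by rw [hT]; exact hdet, fun h => ?_⟩
  obtain ⟨σ, hσ⟩ := h
  obtain ⟨c, hc⟩ := hσ (0, 1)
  rw [mul_inv_eq_iff_eq_mul] at hc
  have key : ∀ x y : T5, ((Matrix.transvection (0 : T5) 1 (1 : F)) * (C.W (0, 1) : M5)) x y =
      ((c : F) • ((C.W (σ (0, 1)) : M5) * Matrix.transvection (0 : T5) 1 (1 : F))) x y := by
    intro x y
    have := congrArg (fun g : G5 => (g : M5) x y) hc
    simpa [hT, coe_sc, mul_assoc] using this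
  have k1 := key 0 0
  have k2 := key 0 1
  generalize σ (0, 1) = w at k1 k2
  obtain ⟨a, b⟩ := w
  simp +decide [Matrix.transvection, Fifth.coe_W, Fifth.wMat_apply, Matrix.mul_apply, sum5, Matrix.add_apply,
    Matrix.one_apply, Matrix.single_apply, C.ch_zero, C.ch_one] at k1 k2
  obtain rfl | rfl | rfl | rfl | rfl := t5_cases a
  · simp +decide [C.ch_zero] at k1 k2
    exact C.ne_one (by rw [k2, ← k1])
  all_goals simp +decide at k1

end Model

variable [Fintype F]

instance : Fact (1 < 5) := ⟨by norm_num⟩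

/-- Standardisation of the data. -/
theorem exists_standard {R : Subgroup (GL (Fin 5) F)} (hR : Cfsg.Geo.IsLinearSymplecticTypeData 5 R) :
    ∃ (C : Fifth F) (ψ : GL (Fin 5) F ≃* G5), (∀ g, g ∈ R ↔ ψ g ∈ RH C) ∧
      (∀ g, ((ψ g : G5) : M5).det = (g : Matrix (Fin 5) (Fin 5) F).det) ∧ ∀ c : Fˣ, ψ (sc c) = sc c := by
  classical
  have hs := hR.symplecticType
  have hexp : ∀ x : R, x ^ 5 = 1 := fun x => by
    have := Monoid.pow_exponent_eq_one x
    rwa [hs.exponent_eq, show 5 * Nat.gcd 2 5 = 5 by decide] at this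
  have hcomm2 := commutator_le_center hs.pGroup hexp hs.cyclic_of_characteristic
  have hscal : ∀ g : GL (Fin 5) F, (∀ x ∈ R, g * x = x * g) → ∃ c : Fˣ, g = sc c := by
    intro g hx
    obtain ⟨c, hc⟩ := hR.absIrred.2 (g : Matrix (Fin 5) (Fin 5) F) (by
      rintro _ ⟨y, hy, rfl⟩
      exact congrArg Units.val (hx y hy))
    have hc0 : c ≠ 0 := by
      rintro rfl
      exact g.ne_zero (by rw [hc, zero_smul])
    exact ⟨Units.mk0 c hc0, Units.ext (by rw [coe_sc, hc, Units.val_mk0])⟩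
  obtain ⟨x₀, hx₀, y₀, hy₀, hne⟩ : ∃ x ∈ R, ∃ y ∈ R, x * y ≠ y * x := by
    by_contra h
    push Not at h
    obtain ⟨c, hc⟩ := hR.absIrred.2 (Matrix.single 0 1 (1 : F)) (by
      rintro _ ⟨y, hy, rfl⟩
      obtain ⟨d, rfl⟩ := hscal y fun x hx => h y hy x hx
      beta_reduce
      rw [coe_sc, Matrix.smul_mul, one_mul, Matrix.mul_smul, mul_one])
    have := congrFun (congrFun hc 0) 1
    simp at this
  obtain ⟨d, hd⟩ : ∃ d : Fˣ, x₀ * y₀ = sc d * (y₀ * x₀) := by
    have hw := hcomm2 (Subgroup.commutator_mem_commutator (Subgroup.mem_top (⟨x₀, hx₀⟩ : R))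
      (Subgroup.mem_top (⟨y₀, hy₀⟩ : R)))
    obtain ⟨d, hd⟩ := hscal _ fun u hu =>
      (congrArg Subtype.val (Subgroup.mem_center_iff.1 hw ⟨u, hu⟩)).symm
    refine ⟨d, ?_⟩
    rw [← hd, commutatorElement_def]
    simp only [Subgroup.coe_mul, Subgroup.coe_inv]
    group
  have hx3 : x₀ ^ 5 = 1 := congrArg Subtype.val (hexp ⟨x₀, hx₀⟩)
  have hy3 : y₀ ^ 5 = 1 := congrArg Subtype.val (hexp ⟨y₀, hy₀⟩)
  have hd1 : d ≠ 1 := fun h => hne (by rw [hd, h, sc_one, one_mul])
  have hxy : ∀ n : ℕ, x₀ * y₀ ^ n = sc (d ^ n) * (y₀ ^ n * x₀) := by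
    intro n
    induction n with
    | zero => simp [sc_one]
    | succ n ih =>
      calc x₀ * y₀ ^ (n + 1) = sc (d ^ n) * (y₀ ^ n * (x₀ * y₀)) := by
            rw [pow_succ, ← mul_assoc, ih]; simp only [mul_assoc]
        _ = sc (d ^ n) * sc d * (y₀ ^ (n + 1) * x₀) := by
            rw [hd, ← mul_assoc (y₀ ^ n), ← sc_comm, pow_succ y₀]; simp only [mul_assoc]
        _ = sc (d ^ (n + 1)) * (y₀ ^ (n + 1) * x₀) := by rw [← sc_mul, ← pow_succ]
  have hd3 : d ^ 5 = 1 := by
    have h := hxy 5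
    rw [hy3, mul_one, one_mul] at h
    exact sc_inj (κ := Fin 5) (by rw [sc_one]; exact mul_eq_right.1 h.symm)
  let C : Fifth F := ⟨(d : F), IsPrimitiveRoot.coe_units_iff.2 (IsPrimitiveRoot.iff_orderOf.2
    (orderOf_eq_prime (hp := ⟨prime_five⟩) hd3 hd1))⟩
  let φ : GL (Fin 5) F ≃* G5 :=
    Cfsg.Geo.glReindex ((Fintype.equivFinOfCardEq (by simp : Fintype.card T5 = 5)).symm)
  have φsc : ∀ c : Fˣ, φ (sc c) = sc c := by
    intro c
    apply Units.ext
    show Matrix.reindexAlgEquiv F F _ ((sc c : GL (Fin 5) F) : Matrix (Fin 5) (Fin 5) F) = _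
    rw [coe_sc, map_smul, map_one, coe_sc]
  set x := φ x₀ with hxdef
  set y := φ y₀ with hydef
  have hxyi : ∀ i : T5, (x : M5) * ((y ^ i.val : G5) : M5) = C.ch i • (((y ^ i.val : G5) : M5) * (x : M5)) := by
    intro i
    have h := congrArg (fun g => ((φ g : G5) : M5)) (hxy i.val)
    simp only [map_mul, map_pow, φsc, Units.val_mul, coe_sc, Matrix.smul_mul, one_mul, ← hxdef, ← hydef] at h
    rw [h, Fifth.ch]
    simp [C]
  have hX5 : x ^ 5 = 1 := by rw [hxdef, ← map_pow, hx3, map_one]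
  have hY5 : y ^ 5 = 1 := by rw [hydef, ← map_pow, hy3, map_one]
  have hyadd : ∀ i j : T5, y ^ (i + j).val = y ^ i.val * y ^ j.val := fun i j => by
    rw [ZMod.val_add, ← pow_eq_pow_mod _ hY5, pow_add]
  -- an eigenvector with eigenvalue one
  obtain ⟨v, hv0, hv⟩ : ∃ v : T5 → F, v ≠ 0 ∧ (x : M5) *ᵥ v = v := by
    let P : T5 → M5 := fun k => ∑ j : T5, C.ch (k * j) • ((x ^ j.val : G5) : M5)
    have hxadd : ∀ i j : T5, x ^ (i + j).val = x ^ i.val * x ^ j.val := fun i j => by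
      rw [ZMod.val_add, ← pow_eq_pow_mod _ hX5, pow_add]
    have hP : ∀ k, (x : M5) * P k = C.ch (-k) • P k := by
      intro k
      simp only [P, Finset.mul_sum, Finset.smul_sum, Matrix.mul_smul, smul_smul, ← C.ch_add]
      refine Fintype.sum_equiv (Equiv.addLeft 1) _ _ fun j => ?_
      rw [Equiv.coe_addLeft, hxadd, ZMod.val_one, pow_one, Units.val_mul,
        show -k + k * (1 + j) = k * j by ring]
    obtain ⟨k, hk⟩ : ∃ k, P k ≠ 0 := by
      by_contra h
      push Not at h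
      have h0 : (5 : F) • (1 : M5) = ∑ k, P k := by
        simp only [P]
        rw [Finset.sum_comm, Finset.sum_eq_single (0 : T5)]
        · rw [← Finset.sum_smul, C.sum_ch_mul, if_pos rfl, ZMod.val_zero, pow_zero, Units.val_one]
        · intro j _ hj
          rw [← Finset.sum_smul, C.sum_ch_mul, if_neg hj, zero_smul]
        · simp
      rw [Finset.sum_eq_zero fun k _ => h k, smul_eq_zero] at h0
      rcases h0 with h0 | h0
      · exact C.five_ne_zero h0
      · exact one_ne_zero h0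
    obtain ⟨v, hv⟩ : ∃ v, P k *ᵥ v ≠ 0 := by
      by_contra h
      push Not at h
      exact hk (Matrix.ext_iff_mulVec.2 fun v => by rw [h v, Matrix.zero_mulVec])
    refine ⟨((y ^ k.val : G5) : M5) *ᵥ (P k *ᵥ v), fun h => hv ?_, ?_⟩
    · have := congrArg (fun w => (((y ^ k.val)⁻¹ : G5) : M5) *ᵥ w) h
      simpa [Matrix.mulVec_mulVec, ← Matrix.mul_assoc] using this
    · rw [Matrix.mulVec_mulVec, hxyi, Matrix.smul_mulVec, ← Matrix.mulVec_mulVec, Matrix.mulVec_mulVec v _ (P k),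
        hP, Matrix.smul_mulVec, Matrix.mulVec_smul, smul_smul, C.ch_mul_neg, one_smul]
  -- the basis
  set e : T5 → T5 → F := fun i => ((y ^ i.val : G5) : M5) *ᵥ v
  have hex : ∀ i, (x : M5) *ᵥ e i = C.ch i • e i := fun i => by
    rw [Matrix.mulVec_mulVec, hxyi, Matrix.smul_mulVec, ← Matrix.mulVec_mulVec, hv]
  have hey : ∀ i, (y : M5) *ᵥ e i = e (i + 1) := fun i => by
    show (y : M5) *ᵥ (((y ^ i.val : G5) : M5) *ᵥ v) = ((y ^ (i + 1).val : G5) : M5) *ᵥ v
    rw [Matrix.mulVec_mulVec, ← Units.val_mul, ← pow_succ', add_comm i 1, hyadd, ZMod.val_one, pow_one,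
      ← pow_succ']
  let B : M5 := Matrix.of fun r i => e i r
  have hBmul : ∀ u : T5 → F, B *ᵥ u = ∑ i, u i • e i := fun u => by
    funext r
    simp [B, Matrix.mulVec, dotProduct, Finset.sum_apply, mul_comm]
  have hB : IsUnit B := by
    refine Matrix.mulVec_injective_iff_isUnit.1 fun a b h => sub_eq_zero.1 ?_
    have hu : ∑ i, (a - b) i • e i = 0 := by rw [← hBmul, Matrix.mulVec_sub, h, sub_self]
    generalize a - b = u at hu
    have hpow : ∀ k : ℕ, ∑ i, (u i * C.ch i ^ k) • e i = 0 := by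
      intro k
      induction k with
      | zero => simpa using hu
      | succ k ih =>
        have h' := congrArg ((x : M5) *ᵥ ·) ih
        simp only [Matrix.mulVec_sum, Matrix.mulVec_smul, hex, smul_smul, Matrix.mulVec_zero] at h'
        simpa [pow_succ, mul_assoc] using h'
    funext j
    have hchn : ∀ k i : T5, C.ch (k * i) = C.ch i ^ k.val := fun k i => by
      rw [Fifth.ch, Fifth.ch, ← pow_mul, ZMod.val_mul, mul_comm i.val, ← pow_eq_pow_mod _ C.pow_five]
    have h3 : (5 * u j) • e j = 0 := by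
      calc (5 * u j) • e j = ∑ i, (u i * ∑ k : T5, C.ch (k * (i - j))) • e i := by
            rw [Finset.sum_eq_single j (fun i _ hi => by
              rw [C.sum_ch_mul, if_neg (sub_ne_zero.2 hi), mul_zero, zero_smul]) (by simp),
              C.sum_ch_mul, if_pos (sub_self j), mul_comm]
        _ = ∑ k : T5, C.ch (-(k * j)) • ∑ i, (u i * C.ch i ^ k.val) • e i := by
            simp only [Finset.smul_sum, smul_smul, Finset.mul_sum, Finset.sum_smul]
            rw [Finset.sum_comm]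
            refine Finset.sum_congr rfl fun k _ => Finset.sum_congr rfl fun i _ => ?_
            rw [← hchn, show k * (i - j) = -(k * j) + k * i by ring, C.ch_add]
            congr 1
            ring
        _ = 0 := by simp [hpow]
    rcases smul_eq_zero.1 h3 with h | h
    · exact (mul_eq_zero.1 h).resolve_left C.five_ne_zero
    · refine absurd ?_ hv0
      have := congrArg (fun w => (((y ^ j.val)⁻¹ : G5) : M5) *ᵥ w) h
      simpa [e, Matrix.mulVec_mulVec] using this
  obtain ⟨Q, hQ⟩ := hB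
  have hQe : ∀ i, (Q : M5) *ᵥ Pi.single i (1 : F) = e i := fun i => by
    rw [hQ, hBmul, Finset.sum_eq_single i (fun j _ hj => by simp [hj]) (by simp)]
    simp
  let ψ : GL (Fin 5) F ≃* G5 := φ.trans (MulAut.conj Q⁻¹)
  have hψ : ∀ g, ψ g = Q⁻¹ * φ g * Q := fun g => by simp [ψ, MulAut.conj_apply]
  have hψsc : ∀ c : Fˣ, ψ (sc c) = sc c := fun c => by
    rw [hψ, φsc, mul_assoc, sc_comm, inv_mul_cancel_left]
  have pull : ∀ (g : GL (Fin 5) F) (w : G5),
      (∀ i, ((φ g : G5) : M5) *ᵥ e i = (Q : M5) *ᵥ ((w : M5) *ᵥ Pi.single i (1 : F))) → ψ g = w := by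
    intro g w h
    rw [hψ, mul_assoc, inv_mul_eq_iff_eq_mul]
    refine Units.ext ?_
    ext r i
    have := congrFun (h i) r
    rw [← hQe, Matrix.mulVec_mulVec, Matrix.mulVec_mulVec, Matrix.mulVec_single_one,
      Matrix.mulVec_single_one] at this
    simpa using this
  have wcol : ∀ (a b i : T5), (C.W (a, b) : M5) *ᵥ Pi.single i (1 : F) = C.ch (b * i) • Pi.single (i + a) (1 : F) := by
    intro a b i
    funext r
    rw [Matrix.mulVec_single_one]
    by_cases h : r = i + a <;> simp [Fifth.coe_W, Fifth.wMat_apply, h]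
  set R' := R.map ψ.toMonoidHom
  have hmem : ∀ g, g ∈ R → ψ g ∈ R' := fun g hg => ⟨g, hg, rfl⟩
  have hZ : C.W (0, 1) ∈ R' := by
    rw [← pull x₀ (C.W (0, 1)) fun i => by
      rw [← hxdef, hex, wcol, Matrix.mulVec_smul, one_mul, add_zero, hQe]]
    exact hmem _ hx₀
  have hX : C.W (1, 0) ∈ R' := by
    rw [← pull y₀ (C.W (1, 0)) fun i => by
      rw [← hydef, hey, wcol, zero_mul, C.ch_zero, one_smul, hQe]]
    exact hmem _ hy₀
  have hW : ∀ w, C.W w ∈ R' := by
    have hnat : ∀ n : ℕ, C.W ((n : T5), 0) ∈ R' ∧ C.W (0, (n : T5)) ∈ R' := by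
      intro n
      induction n with
      | zero => simp [C.W_zero, show ((0 : T5), (0 : T5)) = (0 : V) from rfl, one_mem]
      | succ n ih =>
        have e1 := C.W_mul (((n : ℕ) : T5), 0) (1, 0)
        have e2 := C.W_mul (0, ((n : ℕ) : T5)) (0, 1)
        simp only [zero_mul, mul_zero, C.ch_zero, Units.mk0_one, sc_one, one_mul, Prod.mk_add_mk, add_zero,
          zero_add] at e1 e2
        constructor
        · rw [Nat.cast_succ, ← e1]; exact mul_mem ih.1 hX
        · rw [Nat.cast_succ, ← e2]; exact mul_mem ih.2 hZ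
    rintro ⟨a, b⟩
    have e := C.W_mul (a, 0) (0, b)
    simp only [zero_mul, C.ch_zero, Units.mk0_one, sc_one, one_mul, Prod.mk_add_mk, add_zero, zero_add] at e
    rw [← e]
    exact mul_mem (by simpa using (hnat a.val).1) (by simpa using (hnat b.val).2)
  have hsc : ∀ c : Fˣ, c ^ 5 = 1 → sc c ∈ R' := by
    intro c hc
    obtain ⟨i, hi, hci⟩ := C.prim.eq_pow_of_pow_eq_one (ξ := (c : F)) (by
      rw [← Units.val_pow_eq_pow_val, hc, Units.val_one])
    have hcd : c = d ^ i := Units.ext (by rw [Units.val_pow_eq_pow_val, ← hci])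
    have hscd : sc d ∈ R := by
      rw [show sc d = x₀ * y₀ * (y₀ * x₀)⁻¹ by rw [hd, mul_inv_cancel_right]]
      exact mul_mem (mul_mem hx₀ hy₀) (inv_mem (mul_mem hy₀ hx₀))
    rw [hcd, ← sc_pow, ← hψsc]
    exact pow_mem (hmem _ hscd) _
  refine ⟨C, ψ, fun g => ⟨fun hg => ?_, fun hg => ?_⟩, fun g => ?_, hψsc⟩
  · refine ⟨by rw [← map_pow, show g ^ 5 = 1 from congrArg Subtype.val (hexp ⟨g, hg⟩), map_one],
      C.inR_of_fix fun w => ?_⟩
    obtain ⟨g', hg', e'⟩ := hW w
    have hw := hcomm2 (Subgroup.commutator_mem_commutator (Subgroup.mem_top (⟨g, hg⟩ : R))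
      (Subgroup.mem_top (⟨g', hg'⟩ : R)))
    obtain ⟨c, hc⟩ := hscal _ fun u hu =>
      (congrArg Subtype.val (Subgroup.mem_center_iff.1 hw ⟨u, hu⟩)).symm
    refine ⟨c, ?_⟩
    have := congrArg ψ hc
    rw [hψsc, commutatorElement_def] at this
    simp only [Subgroup.coe_mul, Subgroup.coe_inv, map_mul, map_inv, show ψ g' = C.W w from e'] at this
    show ψ g * C.W w * (ψ g)⁻¹ = sc c * C.W w
    rw [← this, inv_mul_cancel_right]
  · obtain ⟨h3, c, w, hw⟩ := hg
    have hc : c ^ 5 = 1 := by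
      rw [hw, (show Commute (sc c) (C.W w) from sc_comm _ _).mul_pow, C.W_five, mul_one, sc_pow, ← sc_one] at h3
      exact sc_inj h3
    obtain ⟨g', hg', e'⟩ : ψ g ∈ R' := by rw [hw]; exact mul_mem (hsc c hc) (hW w)
    exact ψ.injective e' ▸ hg'
  · rw [hψ, Units.val_mul, Units.val_mul, Matrix.det_units_conj']
    exact Matrix.det_reindexAlgEquiv F F _ _

theorem det_sc5 (c : Fˣ) : ((sc c : G5) : M5).det = (c : F) ^ 5 := by
  rw [coe_sc, Matrix.det_smul, Matrix.det_one, mul_one, ZMod.card]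

/-- The symplectic type clause of degree five. -/
theorem symplectic_type_maximal_five (hp : ∃ p : ℕ, p.Prime ∧ Fintype.card F = p ∧ p % 5 = 1)
    (R : Subgroup (GL (Fin 5) F)) (hR : Cfsg.Geo.IsLinearSymplecticTypeData 5 R) :
    Cfsg.Geo.IsMaximalIn (Cfsg.Geo.specialLinear (Fin 5) F)
      (Cfsg.Geo.subgroupNormalizer R ⊓ Cfsg.Geo.specialLinear (Fin 5) F) := by
  obtain ⟨p, hp, hF, h5⟩ := hp
  haveI := Fact.mk hp
  obtain ⟨C, ψ, hψR, hψdet, hψsc⟩ := exists_standard hR
  set N := Cfsg.Geo.subgroupNormalizer R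
  set SL := Cfsg.Geo.specialLinear (Fin 5) F
  have hSL : ∀ g, g ∈ SL ↔ ((ψ g : G5) : M5).det = 1 := fun g => by
    rw [hψdet]
    show Matrix.GeneralLinearGroup.det g = 1 ↔ _
    rw [Units.ext_iff, Matrix.GeneralLinearGroup.val_det_apply, Units.val_one]
  have hN : ∀ g, g ∈ N ↔ ψ g ∈ C.NZ := fun g => by
    rw [mem_NZ_iff]
    show g ∈ Subgroup.normalizer (R : Set _) ↔ _
    rw [Subgroup.mem_normalizer_iff]
    constructor
    · intro h x
      have := h (ψ.symm x)
      rwa [hψR, hψR, map_mul, map_mul, map_inv, ψ.apply_symm_apply] at this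
    · intro h x
      rw [hψR, hψR, map_mul, map_mul, map_inv]
      exact h _
  refine ⟨lt_of_le_of_ne inf_le_right fun e => ?_, fun M hM1 hM2 => ?_⟩
  · obtain ⟨g, hg, hgN⟩ := exists_not_mem_NZ C
    have h : ψ.symm g ∈ N ⊓ SL := by rw [e, hSL, ψ.apply_symm_apply]; exact hg
    exact hgN (by simpa using (hN _).1 h.1)
  let M' : Subgroup G5 :=
    { carrier := {g | ∃ c : Fˣ, ψ.symm (sc c * g) ∈ M}
      one_mem' := ⟨1, by rw [sc_one, one_mul, map_one]; exact one_mem _⟩
      mul_mem' := by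
        rintro g h ⟨c, hc⟩ ⟨d, hd⟩
        refine ⟨c * d, ?_⟩
        rw [show sc (c * d) * (g * h) = (sc c * g) * (sc d * h) by
          rw [sc_mul, mul_assoc (sc c) g, ← mul_assoc g, ← sc_comm d g]; simp only [mul_assoc], map_mul]
        exact mul_mem hc hd
      inv_mem' := by
        rintro g ⟨c, hc⟩
        refine ⟨c⁻¹, ?_⟩
        rw [sc_comm, sc_inv, ← _root_.mul_inv_rev, map_inv]
        exact inv_mem hc }
  have gen : ∀ g ∈ C.NZ, ((g : M5).det = 1 ∨ (g : M5).det = -1) → g ∈ M' := by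
    intro g hg hdet
    obtain ⟨c, hc⟩ : ∃ c : Fˣ, (c : F) ^ 5 * (g : M5).det = 1 := by
      rcases hdet with h | h
      · exact ⟨1, by rw [h]; simp⟩
      · exact ⟨-1, by rw [h, Units.val_neg, Units.val_one]; norm_num⟩
    refine ⟨c, hM1 ⟨(hN _).2 ?_, (hSL _).2 ?_⟩⟩
    · rw [ψ.apply_symm_apply]; exact mul_mem (C.sc_mem_NZ c) hg
    · rw [ψ.apply_symm_apply, Units.val_mul, Matrix.det_mul, det_sc5, hc]
  have hC : Ctx C M' :=
    { sc := fun c => ⟨c⁻¹, by rw [← sc_mul, inv_mul_cancel, sc_one, map_one]; exact one_mem _⟩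
      W := fun v => gen _ (C.W_mem_NZ v) (Or.inl (det_W C v))
      S := gen _ C.S_mem_NZ (det_S C)
      y := gen _ C.y_mem_NZ (Or.inl (det_y C)) }
  rcases base hF h5 hC with h | h
  · left
    refine le_antisymm (le_inf (fun m hm => (hN m).2 (h ⟨1, ?_⟩)) hM2) hM1
    rwa [sc_one, one_mul, ψ.symm_apply_apply]
  · right
    refine le_antisymm hM2 fun g hg => ?_
    obtain ⟨c, hc⟩ := h (ψ g) ((hSL g).1 hg)
    have e := (hSL _).1 (hM2 hc)
    rw [ψ.apply_symm_apply, Units.val_mul, Matrix.det_mul, det_sc5, (hSL g).1 hg, mul_one] at e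
    have hs : ψ.symm (sc c) ∈ M := hM1 ⟨(hN _).2 (by rw [ψ.apply_symm_apply]; exact C.sc_mem_NZ c),
      (hSL _).2 (by rw [ψ.apply_symm_apply, det_sc5, e])⟩
    have := mul_mem (inv_mem hs) hc
    rwa [map_mul, inv_mul_cancel_left, ψ.symm_apply_apply] at this

end Cfsg.Agent.H97.CFive
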