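import Cfsg.Agent.H97.CFive.Model
import Cfsg.Agent.Linear.Generation

/-!
A subgroup containing the generators of the normaliser and a suitable unipotent element contains the special linear
group.
-/

set_option autoImplicit false
set_option linter.unusedSectionVars false

namespace Cfsg.Agent.H97.CFive

open Matrix
open scoped commutatorElement
open Cfsg.Agent.H1.HeisThree (sc scGrp coe_sc sc_mul sc_one sc_comm sc_inj)

variable {F : Type*} [Field F]

local notation "T5" => ZMod 5
local notation "M5" => Matrix (ZMod 5) (ZMod 5) F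
local notation "G5" => GL (ZMod 5) F

/-- The subgroup contains all elements of determinant one. -/
def Big (X : Subgroup G5) : Prop := ∀ g : G5, (g : M5).det = 1 → g ∈ X

/-- The transvection as a unit. -/
def et {i j : T5} (h : i ≠ j) (c : F) : G5 :=
  Matrix.SpecialLinearGroup.toGL (Matrix.SpecialLinearGroup.transvection h c)

theorem et_val {i j : T5} (h : i ≠ j) (c : F) : ((et h c : G5) : M5) = Matrix.transvection i j c := rfl

theorem et_comm {i j k : T5} (hik : i ≠ k) (hkj : k ≠ j) (hij : i ≠ j) (a b : F) :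
    ⁅(et hik a : G5), et hkj b⁆ = et hij (a * b) := by
  rw [et, et, et, ← map_commutatorElement, Linear.commutator_transvections hik hkj hij]

/-- The hypotheses on the subgroup. -/
structure Ctx (C : Fifth F) (X : Subgroup G5) : Prop where
  sc : ∀ c : Fˣ, Cfsg.Agent.H1.HeisThree.sc c ∈ X
  W : ∀ v, C.W v ∈ X
  S : C.S ∈ X
  y : C.y ∈ X

variable {C : Fifth F} {X : Subgroup (GL (ZMod 5) F)}

theorem Ctx.J (hX : Ctx C X) : C.J ∈ X := C.S_mul_S ▸ mul_mem hX.S hX.S

theorem Ctx.dgLin (hX : Ctx C X) (k : T5) : C.dg (fun i => k * i) ∈ X := by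
  have e : C.dg (fun i => k * i) = C.W (0, k) := by
    refine Units.ext (Matrix.ext fun i j => ?_)
    rw [Fifth.coe_W, Fifth.wMat_apply, Fifth.coe_dg, Matrix.diagonal_apply, add_zero]
    split_ifs with h <;> simp [h]
  rw [e]; exact hX.W _

theorem Ctx.D (hX : Ctx C X) : C.D ∈ X := hX.W _

variable [Fintype F] {p : ℕ} [Fact p.Prime] (hF : Fintype.card F = p)
include hF

theorem exists_nat (a : F) : ∃ n : ℕ, (n : F) = a := by
  haveI : CharP F p := charP_of_card_eq_prime hF
  obtain ⟨z, hz⟩ := ((Fintype.bijective_iff_injective_and_card (ZMod.castHom dvd_rfl F)).2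
    ⟨(ZMod.castHom dvd_rfl F).injective, by rw [ZMod.card, hF]⟩).2 a
  exact ⟨z.val, by rw [← hz, ZMod.castHom_apply, ZMod.cast_eq_val]⟩

theorem et_all_scalar {i j : T5} (h : i ≠ j) {t : F} (ht : t ≠ 0) (hm : et h t ∈ X) (c : F) : et h c ∈ X := by
  obtain ⟨n, hn⟩ := exists_nat hF (c / t)
  have key : ∀ n : ℕ, (et h t : G5) ^ n = et h ((n : F) * t) := by
    intro n
    induction n with
    | zero => exact Units.ext (by simp [et_val])
    | succ n ih =>
      refine Units.ext ?_
      rw [pow_succ, ih, Units.val_mul, et_val, et_val, et_val,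
        Matrix.transvection_mul_transvection_same _ _ h]
      push_cast
      ring_nf
  have := pow_mem hm n
  rwa [key, hn, div_mul_cancel₀ c ht] at this

/-- One elementary transvection gives everything. -/
theorem big_of_et (hX : Ctx C X) {i j : T5} (h : i ≠ j) {t : F} (ht : t ≠ 0) (hm : et h t ∈ X) : Big X := by
  have hshift : ∀ (i j : T5) (h : i ≠ j) (c : F),
      C.W (1, 0) * et h c * (C.W (1, 0))⁻¹ = et (add_left_injective (1 : T5) |>.ne h) c := by
    intro i j h c
    rw [mul_inv_eq_iff_eq_mul]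
    refine Units.ext (Matrix.ext fun a b => ?_)
    rw [Units.val_mul, Units.val_mul, et_val, et_val, Fifth.coe_W, Matrix.mul_apply, Matrix.mul_apply,
      Finset.sum_eq_single (a - 1), Finset.sum_eq_single (b + 1)]
    · simp [Fifth.wMat_apply, Fifth.ch_zero, Matrix.transvection, Matrix.single_apply, Matrix.one_apply,
        eq_sub_iff_add_eq, sub_eq_iff_eq_add]
    · intro k _ hk
      simp [Fifth.wMat_apply, hk]
    · simp
    · intro k _ hk
      have : a ≠ k + 1 := fun e => hk (by rw [e, add_sub_cancel_right])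
      simp [Fifth.wMat_apply, this]
    · simp
  -- all transvections with a given difference of indices
  have hd : ∀ (a b : T5) (h : a ≠ b), (∀ c, et h c ∈ X) → ∀ (a' b' : T5) (h' : a' ≠ b'), a' - b' = a - b →
      ∀ c, et h' c ∈ X := by
    intro a b h hab a' b' h' e c
    have key : ∀ (m : ℕ) (a'' b'' : T5) (h'' : a'' ≠ b''), a'' = a + m → b'' = b + m → et h'' c ∈ X := by
      intro m
      induction m with
      | zero =>
        intro a'' b'' h'' e1 e2
        simp only [Nat.cast_zero, add_zero] at e1 e2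
        subst e1 e2
        exact hab c
      | succ m ih =>
        intro a'' b'' h'' e1 e2
        have hne : a + (m : T5) ≠ b + (m : T5) := fun e => h (add_right_cancel e)
        have := mul_mem (mul_mem (hX.W (1, 0)) (ih _ _ hne rfl rfl)) (inv_mem (hX.W (1, 0)))
        rw [hshift] at this
        convert this using 2 <;> first | (rw [e1]; push_cast; ring) | (rw [e2]; push_cast; ring)
    refine key (a' - a).val a' b' h' ?_ ?_ <;> rw [ZMod.natCast_zmod_val]
    · ring
    · linear_combination -e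
  -- doubling the difference
  have hdbl : ∀ d : T5, d ≠ 0 → (∀ (a b : T5) (h : a ≠ b), a - b = d → ∀ c, et h c ∈ X) →
      ∀ (a b : T5) (h : a ≠ b), a - b = 2 * d → ∀ c, et h c ∈ X := by
    intro d hd0 hall a b h e c
    have h1 : a ≠ a - d := fun e' => hd0 (by linear_combination e')
    have h2 : a - d ≠ b := fun e' => hd0 (by linear_combination e' - e)
    rw [← mul_one c, ← et_comm h1 h2 h, commutatorElement_def]
    have m1 := hall a (a - d) h1 (by ring) c
    have m2 := hall (a - d) b h2 (by linear_combination e) 1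
    exact mul_mem (mul_mem (mul_mem m1 m2) (inv_mem m1)) (inv_mem m2)
  have d1 : ∀ (a b : T5) (h' : a ≠ b), a - b = i - j → ∀ c, et h' c ∈ X :=
    hd i j h (et_all_scalar hF h ht hm)
  have hd0 : i - j ≠ 0 := sub_ne_zero.2 h
  have d2 := hdbl _ hd0 d1
  have htw : ∀ d : T5, d ≠ 0 → 2 * d ≠ 0 := by decide
  have d4 := hdbl _ (htw _ hd0) d2
  have d8 := hdbl _ (htw _ (htw _ hd0)) d4
  have hall : ∀ (a b : T5) (h' : a ≠ b) (c : F), et h' c ∈ X := by
    intro a b h' c
    rcases (by decide : ∀ d e : T5, d ≠ 0 → e ≠ 0 → e = d ∨ e = 2 * d ∨ e = 2 * (2 * d) ∨ e = 2 * (2 * (2 * d)))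
      (i - j) (a - b) hd0 (sub_ne_zero.2 h') with e | e | e | e
    exacts [d1 a b h' e c, d2 a b h' e c, d4 a b h' e c, d8 a b h' e c]
  intro g hg
  have htop := Linear.eq_top_of_transvection_mem (H := X.comap Matrix.SpecialLinearGroup.toGL) hall
  obtain ⟨A, rfl⟩ : ∃ A : Matrix.SpecialLinearGroup T5 F, Matrix.SpecialLinearGroup.toGL A = g :=
    ⟨⟨(g : M5), hg⟩, Units.ext rfl⟩
  have hmem : A ∈ X.comap Matrix.SpecialLinearGroup.toGL := by rw [htop]; exact Subgroup.mem_top _
  exact hmem

/-- A unipotent element supported in an abelian block on which the differences of the indices separate the entries. -/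
theorem big_of_block (hX : Ctx C X) (A B : Finset T5) (hAB : ∀ i ∈ A, i ∉ B)
    (hinj : ∀ i ∈ A, ∀ j ∈ B, ∀ i' ∈ A, ∀ j' ∈ B, i - j = i' - j' → i = i' ∧ j = j')
    {M : M5} (hM : ∀ i j, M i j ≠ 0 → i ∈ A ∧ j ∈ B) (hM0 : M ≠ 0) {x : G5} (hx : x ∈ X)
    (hxM : (x : M5) = 1 + M) : Big X := by
  set T : Set M5 := {N | (∀ i j, N i j ≠ 0 → i ∈ A ∧ j ∈ B) ∧ ∃ g ∈ X, (g : M5) = 1 + N} with hT
  have hmul : ∀ N N' : M5, N ∈ T → N' ∈ T → N * N' = 0 := by
    intro N N' hN hN'
    refine Matrix.ext fun i j => ?_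
    rw [Matrix.mul_apply, Matrix.zero_apply]
    refine Finset.sum_eq_zero fun k _ => ?_
    by_contra hne
    exact hAB k (hN'.1 k j (right_ne_zero_of_mul hne)).1 (hN.1 i k (left_ne_zero_of_mul hne)).2
  have hadd : ∀ N N' : M5, N ∈ T → N' ∈ T → N + N' ∈ T := by
    intro N N' hN hN'
    refine ⟨fun i j hij => ?_, ?_⟩
    · by_cases h0 : N i j = 0
      · exact hN'.1 i j (by simpa [h0] using hij)
      · exact hN.1 i j h0
    · obtain ⟨g, hg, eg⟩ := hN.2
      obtain ⟨g', hg', eg'⟩ := hN'.2
      exact ⟨g * g', mul_mem hg hg', by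
        rw [Units.val_mul, eg, eg', mul_add, mul_one, add_mul, one_mul, hmul N N' hN hN', add_zero]; abel⟩
  have hzero : (0 : M5) ∈ T := ⟨fun i j h => absurd rfl h, 1, one_mem X, by simp⟩
  have hsmul : ∀ (c : F) (N : M5), N ∈ T → c • N ∈ T := by
    intro c N hN
    obtain ⟨n, rfl⟩ := exists_nat hF c
    induction n with
    | zero => simpa using hzero
    | succ n ih => rw [Nat.cast_succ, add_smul, one_smul]; exact hadd _ _ ih hN
  have hconj : ∀ (k : T5) (N : M5), N ∈ T → (Matrix.of fun i j => C.ch (k * i - k * j) * N i j) ∈ T := by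
    intro k N hN
    refine ⟨fun i j hij => hN.1 i j fun h0 => hij (by simp [h0]), ?_⟩
    obtain ⟨g, hg, eg⟩ := hN.2
    refine ⟨C.dg (fun i => k * i) * g * (C.dg fun i => k * i)⁻¹,
      mul_mem (mul_mem (hX.dgLin k) hg) (inv_mem (hX.dgLin k)), Matrix.ext fun i j => ?_⟩
    rw [Fifth.dg_conj_apply, eg, Matrix.add_apply, Matrix.add_apply, Matrix.of_apply, mul_add]
    congr 1
    rcases eq_or_ne i j with rfl | hij
    · rw [sub_self, C.ch_zero, one_mul]
    · rw [Matrix.one_apply_ne hij, mul_zero]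
  obtain ⟨i0, j0, hij⟩ : ∃ i j, M i j ≠ 0 := by
    by_contra h
    push Not at h
    exact hM0 (Matrix.ext h)
  obtain ⟨hi0, hj0⟩ := hM i0 j0 hij
  have hMT : M ∈ T := ⟨hM, x, hx, hxM⟩
  have hsum : ∀ s : Finset T5, (∑ k ∈ s, C.ch (-(k * (i0 - j0))) •
      (Matrix.of fun i j => C.ch (k * i - k * j) * M i j)) ∈ T := by
    intro s
    induction s using Finset.induction_on with
    | empty => simpa using hzero
    | insert a s ha ih =>
      rw [Finset.sum_insert ha]
      exact hadd _ _ (hsmul _ _ (hconj a M hMT)) ih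
  have hne : i0 ≠ j0 := fun e => hAB i0 hi0 (e ▸ hj0)
  obtain ⟨-, g, hg, eg⟩ := hsum Finset.univ
  refine big_of_et hF hX hne (mul_ne_zero C.five_ne_zero hij) ?_
  convert hg using 1
  refine Units.ext (Matrix.ext fun i j => ?_)
  rw [et_val, eg, Matrix.transvection, Matrix.add_apply, Matrix.add_apply, Matrix.sum_apply]
  congr 1
  rw [Finset.sum_congr rfl fun k _ => show (C.ch (-(k * (i0 - j0))) •
      (Matrix.of fun i j => C.ch (k * i - k * j) * M i j)) i j = C.ch (k * ((i - j) - (i0 - j0))) * M i j by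
    rw [Matrix.smul_apply, Matrix.of_apply, smul_eq_mul, ← mul_assoc, ← C.ch_add]; ring_nf,
    ← Finset.sum_mul, C.sum_ch_mul]
  rcases eq_or_ne (M i j) 0 with h0 | h0
  · rw [h0, mul_zero]
    have : ¬ (i0 = i ∧ j0 = j) := fun e => hij (by rw [e.1, e.2, h0])
    rw [Matrix.single_apply, if_neg this]
  · obtain ⟨hi, hj⟩ := hM i j h0
    by_cases e : i - j - (i0 - j0) = 0
    · obtain ⟨rfl, rfl⟩ := hinj i hi j hj i0 hi0 j0 hj0 (sub_eq_zero.1 e)
      simp
    · have : ¬ (i0 = i ∧ j0 = j) := fun e' => e (by rw [e'.1, e'.2, sub_self])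
      rw [if_neg e, zero_mul, Matrix.single_apply, if_neg this]

end Cfsg.Agent.H97.CFive
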