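import Cfsg.Agent.H97.CFive.Kernel

/-!
The centraliser of the reversal inside a proper overgroup.
-/

set_option autoImplicit false
set_option linter.unusedSectionVars false

namespace Cfsg.Agent.H97.CFive

open Matrix
open Cfsg.Agent.H1.HeisThree (sc scGrp coe_sc sc_mul sc_one sc_comm sc_inj sc_pow)

variable {F : Type*} [Field F]

local notation "T5" => ZMod 5
local notation "M5" => Matrix (ZMod 5) (ZMod 5) F
local notation "G5" => GL (ZMod 5) F
local notation "M3" => Matrix (Fin 3) (Fin 3) F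
local notation "M2" => Matrix (Fin 2) (Fin 2) F
local notation "SL2" => Matrix.SpecialLinearGroup (Fin 2) F

theorem Fifth.trace_J (C : Fifth F) : (C.J : M5).trace = 1 := by
  rw [Matrix.trace, sum5]
  simp +decide [Fifth.coe_J]

theorem Fifth.det_psiE_J (C : Fifth F) : (psiE (C.J : M5)).det = 1 := by rw [C.psiE_J, Matrix.det_one]

theorem Fifth.det_psiE_y (C : Fifth F) : (psiE (C.y : M5)).det = 1 := by
  rw [C.psiE_y, Matrix.det_diagonal, Fin.prod_univ_three]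
  simp [← pow_succ', C.pow_five]

theorem det_conj_of (C : Fifth F) {n : Type*} [Fintype n] [DecidableEq n] (f : C.CJ →* GL n F) (a b : C.CJ) :
    Matrix.GeneralLinearGroup.det (f (a * b * a⁻¹)) = Matrix.GeneralLinearGroup.det (f b) := by
  rw [map_mul, map_mul, map_mul, map_mul, map_inv, map_inv, mul_inv_cancel_comm]

/-- The elements with determinant one on the odd vectors. -/
def K1 (C : Fifth F) (X : Subgroup G5) : Subgroup C.CJ :=
  X.subgroupOf C.CJ ⊓ (Matrix.GeneralLinearGroup.det.comp C.phO).ker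

/-- The elements with determinant one on the even and the odd vectors. -/
def K2 (C : Fifth F) (X : Subgroup G5) : Subgroup C.CJ :=
  K1 C X ⊓ (Matrix.GeneralLinearGroup.det.comp C.phE).ker

variable {C : Fifth F} {X : Subgroup (GL (ZMod 5) F)}

theorem mem_K1 {a : C.CJ} : a ∈ K1 C X ↔ (a : G5) ∈ X ∧ (psiO ((a : G5) : M5)).det = 1 := by
  simp only [K1, Subgroup.mem_inf, Subgroup.mem_subgroupOf, MonoidHom.mem_ker, MonoidHom.comp_apply]
  exact and_congr_right fun _ => ⟨fun h => by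
    rw [← C.coe_phO, ← Matrix.GeneralLinearGroup.val_det_apply, h, Units.val_one], fun h => Units.ext h⟩

theorem mem_K2 {a : C.CJ} : a ∈ K2 C X ↔ a ∈ K1 C X ∧ (psiE ((a : G5) : M5)).det = 1 := by
  simp only [K2, Subgroup.mem_inf, MonoidHom.mem_ker, MonoidHom.comp_apply]
  exact and_congr_right fun _ => ⟨fun h => by
    rw [← C.coe_phE, ← Matrix.GeneralLinearGroup.val_det_apply, h, Units.val_one], fun h => Units.ext h⟩

/-- The action on the odd vectors. -/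
def sO (C : Fifth F) (X : Subgroup G5) : K1 C X →* SL2 :=
  toSL (C.phO.comp (K1 C X).subtype) fun a => (mem_K1.1 a.2).2

theorem coe_sO (a : K1 C X) : (sO C X a : M2) = psiO (((a : C.CJ) : G5) : M5) := rfl

theorem K1_conj {a b : C.CJ} (ha : (a : G5) ∈ X) (hb : b ∈ K1 C X) : a * b * a⁻¹ ∈ K1 C X :=
  mem_K1.2 ⟨mul_mem (mul_mem ha (mem_K1.1 hb).1) (inv_mem ha), by
    rw [← C.coe_phO, ← Matrix.GeneralLinearGroup.val_det_apply, det_conj_of,
      Matrix.GeneralLinearGroup.val_det_apply, C.coe_phO, (mem_K1.1 hb).2]⟩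

theorem K2_conj {a b : C.CJ} (ha : (a : G5) ∈ X) (hb : b ∈ K2 C X) : a * b * a⁻¹ ∈ K2 C X :=
  mem_K2.2 ⟨K1_conj ha (mem_K2.1 hb).1, by
    rw [← C.coe_phE, ← Matrix.GeneralLinearGroup.val_det_apply, det_conj_of,
      Matrix.GeneralLinearGroup.val_det_apply, C.coe_phE, (mem_K2.1 hb).2]⟩

variable (hX : Ctx C X)
include hX

theorem y_mem_K2 : (⟨C.y, C.y_mem_CJ⟩ : C.CJ) ∈ K2 C X :=
  mem_K2.2 ⟨mem_K1.2 ⟨hX.y, by
    rw [C.psiO_y, Matrix.det_fin_two_of, mul_zero, sub_zero, ← pow_succ', C.pow_five]⟩, C.det_psiE_y⟩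

theorem S_mem_K1 : (⟨C.S, C.S_mem_CJ⟩ : C.CJ) ∈ K1 C X := mem_K1.2 ⟨hX.S, C.det_psiO_S⟩

theorem J_mem_K2 : (⟨C.J, C.J_mem_CJ⟩ : C.CJ) ∈ K2 C X :=
  mem_K2.2 ⟨mem_K1.2 ⟨hX.J, by rw [C.psiO_J, Matrix.det_neg, Fintype.card_fin, Matrix.det_one]; norm_num⟩,
    C.det_psiE_J⟩

/-- The image of the quadratic element. -/
def Oy : SL2 := sO C X ⟨_, (mem_K2.1 (y_mem_K2 hX)).1⟩
/-- The image of the Fourier element. -/
def OS : SL2 := sO C X ⟨_, S_mem_K1 hX⟩

theorem Oy_val : (Oy hX : M2) = !![C.ω, 0; 0, C.ω ^ 4] := by rw [Oy, coe_sO]; exact C.psiO_y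
theorem OS_val : (OS hX : M2) = psiO (C.S : M5) := rfl

theorem Oy_five : Oy hX ^ 5 = 1 := by
  rw [Oy, ← map_pow, show (⟨_, (mem_K2.1 (y_mem_K2 hX)).1⟩ : K1 C X) ^ 5 = 1 from
    Subtype.ext (Subtype.ext C.y_five), map_one]

theorem Oy_ne : Oy hX ≠ 1 := fun e => C.ne_one (by
  have := congrArg (fun a : SL2 => (a : M2) 0 0) e
  simpa [Oy_val] using this)

theorem sO_J : sO C X ⟨_, (mem_K2.1 (J_mem_K2 hX)).1⟩ = -1 :=
  Subtype.ext (by rw [coe_sO]; exact C.psiO_J)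

/-- The images of the quadratic element and of its conjugate do not commute. -/
theorem noncomm : Oy hX * (OS hX * Oy hX * (OS hX)⁻¹) ≠ OS hX * Oy hX * (OS hX)⁻¹ * Oy hX := by
  intro h
  set e := OS hX * Oy hX * (OS hX)⁻¹ with he
  have he' : (e : M2) * (OS hX : M2) = (OS hX : M2) * (Oy hX : M2) := by
    rw [← Matrix.SpecialLinearGroup.coe_mul, ← Matrix.SpecialLinearGroup.coe_mul, he, inv_mul_cancel_right]
  have h' := congrArg (fun a : SL2 => (a : M2) 0 1) h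
  have g00 := congrFun (congrFun he' 0) 0
  have g01 := congrFun (congrFun he' 0) 1
  simp [Oy_val, OS_val, Matrix.mul_apply, Fin.sum_univ_two] at h' g00 g01
  have hy : C.ω ^ 4 - C.ω ≠ 0 := by
    rw [← C.ch_four, ← C.ch_one]
    exact sub_ne_zero.2 fun e => absurd (C.ch_inj e) (by decide)
  have e01 : (e : M2) 0 1 = 0 :=
    (mul_eq_zero.1 (show (e : M2) 0 1 * (C.ω ^ 4 - C.ω) = 0 by linear_combination -h')).resolve_right hy
  rw [e01] at g00 g01
  obtain ⟨s01, -⟩ := C.psiO_S_off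
  have s00 : psiO (C.S : M5) 0 0 ≠ 0 := by
    rw [C.psiO_S]
    simp [C.root_ne_zero]
    exact fun e => hy (by linear_combination -e)
  refine hy (mul_left_cancel₀ (mul_ne_zero s00 s01) ?_)
  linear_combination psiO (C.S : M5) 0 1 * g00 - psiO (C.S : M5) 0 0 * g01

variable [Fintype F] {p : ℕ} [Fact p.Prime] (hF : Fintype.card F = p) (hp5 : p % 5 = 1) (hno : ¬ Big X)
include hF hp5 hno

theorem altFive : AltFive (sO C X).range := by
  haveI : CharP F p := charP_of_card_eq_prime hF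
  have hpΓ : ¬ p ∣ Nat.card (sO C X).range := fun h => by
    refine CJ_not_dvd hF hp5 hX hno ((h.trans (Subgroup.card_range_dvd _)).trans ?_)
    rw [← Subgroup.card_map_of_injective (K := K1 C X) C.CJ.subtype_injective]
    refine Subgroup.card_dvd_of_le ?_
    rintro _ ⟨a, ha, rfl⟩
    exact ⟨(mem_K1.1 ha).1, a.2⟩
  refine (cases_of_not_dvd p (two_ne hF hp5) _ hpΓ).resolve_left fun hcom => ?_
  have h := hcom (OS hX * Oy hX * (OS hX)⁻¹)
    (mul_mem (mul_mem ⟨_, rfl⟩ ⟨_, rfl⟩) (inv_mem ⟨_, rfl⟩)) (Oy hX) ⟨_, rfl⟩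
    (by rw [conj_pow, Oy_five, mul_one, mul_inv_cancel]) (Oy_five hX)
  exact noncomm hX h.symm

/-- Every element of the image lifts. -/
theorem lift {γ : SL2} (hγ : γ ∈ (sO C X).range) : ∃ k : K1 C X, (k : C.CJ) ∈ K2 C X ∧ sO C X k = γ := by
  set N := ((K2 C X).subgroupOf (K1 C X)).map (sO C X) with hN
  have hsimple := (altFive hX hF hp5 hno).simple N (by rintro _ ⟨a, -, rfl⟩; exact ⟨a, rfl⟩) (by
    rintro _ ⟨g, rfl⟩ _ ⟨n, hn, rfl⟩
    exact ⟨g * n * g⁻¹, K2_conj (mem_K1.1 g.2).1 hn, by rw [map_mul, map_mul, map_inv]⟩)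
  rcases hsimple with h | h
  · exfalso
    rcases h (Oy hX) ⟨_, y_mem_K2 hX, rfl⟩ with e | e
    · exact Oy_ne hX e
    · exact Oy_ne hX (five_neg (two_ne hF hp5) (Oy_five hX) (one_pow 5) (.inr e))
  · rcases h γ hγ with h | h
    · obtain ⟨k, hk, rfl⟩ := h
      exact ⟨k, hk, rfl⟩
    · obtain ⟨k, hk, e⟩ := h
      exact ⟨⟨_, (mem_K2.1 (J_mem_K2 hX)).1⟩ * k, mul_mem (J_mem_K2 hX) hk, by
        rw [map_mul, e, sO_J hX, neg_one_mul, neg_neg]⟩

/-- The action on the odd vectors is faithful. -/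
theorem K2_inj {a b : C.CJ} (ha : a ∈ K2 C X) (hb : b ∈ K2 C X) (h : C.phO a = C.phO b) : a = b := by
  have hm : a * b⁻¹ ∈ K2 C X := mul_mem ha (inv_mem hb)
  obtain ⟨h1, h2⟩ := mem_K2.1 hm
  rcases kerO hF hp5 hX hno (mem_K1.1 h1).1 (a * b⁻¹).2
    (show C.phO (a * b⁻¹) = 1 by rw [map_mul, map_inv, h, mul_inv_cancel]) with e | e
  · exact mul_inv_eq_one.1 (Subtype.ext e)
  · exfalso
    rw [e, Units.val_mul, psiE_mul (C.sym_of_mem C.J_mem_CJ), Fifth.psiE_sc, C.psiE_J, mul_one, Matrix.det_smul,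
      Matrix.det_one, mul_one, Fintype.card_fin] at h2
    simp at h2
    exact two_ne hF hp5 (by linear_combination -h2)

theorem K2_inj' {a b : K1 C X} (ha : (a : C.CJ) ∈ K2 C X) (hb : (b : C.CJ) ∈ K2 C X)
    (h : sO C X a = sO C X b) : (a : C.CJ) = (b : C.CJ) :=
  K2_inj hX hF hp5 hno ha hb (Units.ext (congrArg Subtype.val h))

theorem K2_le_NZ {k : C.CJ} (hk : k ∈ K2 C X) : (k : G5) ∈ C.NZ := by
  set K := (((K2 C X) ⊓ C.NZ.subgroupOf C.CJ).subgroupOf (K1 C X)).map (sO C X) with hK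
  have hy : Oy hX ∈ K :=
    Subgroup.mem_map.2 ⟨⟨_, (mem_K2.1 (y_mem_K2 hX)).1⟩,
      Subgroup.mem_subgroupOf.2 (Subgroup.mem_inf.2 ⟨y_mem_K2 hX, Subgroup.mem_subgroupOf.2 C.y_mem_NZ⟩), rfl⟩
  have hz : OS hX * Oy hX * (OS hX)⁻¹ ∈ K := by
    have hm1 : (⟨C.S, C.S_mem_CJ⟩ * ⟨C.y, C.y_mem_CJ⟩ * ⟨C.S, C.S_mem_CJ⟩⁻¹ : C.CJ) ∈ K2 C X :=
      K2_conj hX.S (y_mem_K2 hX)
    have hm2 : (⟨C.S, C.S_mem_CJ⟩ * ⟨C.y, C.y_mem_CJ⟩ * ⟨C.S, C.S_mem_CJ⟩⁻¹ : C.CJ) ∈ C.NZ.subgroupOf C.CJ := by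
      rw [Subgroup.mem_subgroupOf, Subgroup.coe_mul, Subgroup.coe_mul, Subgroup.coe_inv]
      exact mul_mem (mul_mem C.S_mem_NZ C.y_mem_NZ) (inv_mem C.S_mem_NZ)
    refine Subgroup.mem_map.2 ⟨⟨_, (mem_K2.1 hm1).1⟩,
      Subgroup.mem_subgroupOf.2 (Subgroup.mem_inf.2 ⟨hm1, hm2⟩), ?_⟩
    have e : (⟨_, (mem_K2.1 hm1).1⟩ : K1 C X) =
        ⟨⟨C.S, C.S_mem_CJ⟩, S_mem_K1 hX⟩ * ⟨⟨C.y, C.y_mem_CJ⟩, (mem_K2.1 (y_mem_K2 hX)).1⟩ *
          (⟨⟨C.S, C.S_mem_CJ⟩, S_mem_K1 hX⟩ : K1 C X)⁻¹ := Subtype.ext rfl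
    rw [e, map_mul, map_mul, map_inv]
    rfl
  have hJK : (-1 : SL2) ∈ K :=
    Subgroup.mem_map.2 ⟨⟨_, (mem_K2.1 (J_mem_K2 hX)).1⟩,
      Subgroup.mem_subgroupOf.2 (Subgroup.mem_inf.2 ⟨J_mem_K2 hX, Subgroup.mem_subgroupOf.2 C.J_mem_NZ⟩), sO_J hX⟩
  have hA := altFive hX hF hp5 hno
  have hne := noncomm hX
  have hall := hA.gen K (by rintro _ ⟨a, -, rfl⟩; exact ⟨a, rfl⟩) _ hy _ hz (Oy_five hX)
    (by rw [conj_pow, Oy_five, mul_one, mul_inv_cancel]) hne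
  have hmem : sO C X ⟨k, (mem_K2.1 hk).1⟩ ∈ K := by
    rcases hall _ ⟨⟨k, (mem_K2.1 hk).1⟩, rfl⟩ with h | h
    · exact h
    · simpa using mul_mem hJK h
  obtain ⟨k', hk'2, e⟩ := Subgroup.mem_map.1 hmem
  obtain ⟨hk', hk'N⟩ := Subgroup.mem_inf.1 (Subgroup.mem_subgroupOf.1 hk'2)
  have heq : (k' : C.CJ) = k := K2_inj' hX hF hp5 hno (b := ⟨k, (mem_K2.1 hk).1⟩) hk' hk e
  rw [← heq]
  exact Subgroup.mem_subgroupOf.1 hk'N

set_option maxHeartbeats 800000 in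
/-- The centraliser of the reversal is the scalars times the group `K2`. -/
theorem cj_cases {h : G5} (hh : h ∈ X) (hhJ : h ∈ C.CJ) :
    ∃ (c : Fˣ) (k : C.CJ), k ∈ K2 C X ∧ h = sc c * (k : G5) := by
  classical
  have hA := altFive hX hF hp5 hno
  set a : C.CJ := ⟨h, hhJ⟩ with ha
  set b : K1 C X := ⟨a * ⟨C.y, C.y_mem_CJ⟩ * a⁻¹, K1_conj hh (mem_K2.1 (y_mem_K2 hX)).1⟩ with hb
  have hbM : (sO C X b : M2) = (C.phO a : M2) * (Oy hX : M2) * (((C.phO a)⁻¹ : GL (Fin 2) F) : M2) := by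
    show (C.phO (a * ⟨C.y, C.y_mem_CJ⟩ * a⁻¹) : M2) = _
    rw [map_mul, map_mul, map_inv, Units.val_mul, Units.val_mul]; rfl
  have hb5 : sO C X b ^ 5 = 1 := by
    rw [← map_pow]
    have : b ^ 5 = 1 := by
      refine Subtype.ext ?_
      rw [SubmonoidClass.coe_pow, hb, conj_pow, show (⟨C.y, C.y_mem_CJ⟩ : C.CJ) ^ 5 = 1 from Subtype.ext C.y_five,
        mul_one, mul_inv_cancel]
      rfl
    rw [this, map_one]
  have htr : (sO C X b : M2).trace = C.ω + C.ω ^ 4 := by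
    rw [hbM, Matrix.trace_mul_cycle, Units.inv_mul, one_mul, Oy_val, Matrix.trace_fin_two_of]
  have hb1 : sO C X b ≠ 1 := by
    intro e
    rw [e] at hbM
    refine Oy_ne hX (Subtype.ext ?_)
    have := congrArg (fun M : M2 => (((C.phO a)⁻¹ : GL (Fin 2) F) : M2) * M * (C.phO a : M2)) hbM
    simpa [mul_assoc] using this.symm
  obtain ⟨t, ht, htb⟩ := hA.conj (Oy hX) ⟨_, rfl⟩ (sO C X b) ⟨_, rfl⟩ (Oy_five hX) (Oy_ne hX) hb5 hb1
  have htb' : t * Oy hX * t⁻¹ = sO C X b := htb.resolve_right fun e => by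
    have htr2 := congrArg (fun g : SL2 => (g : M2).trace) e
    simp only [Matrix.SpecialLinearGroup.coe_mul] at htr2
    rw [Matrix.trace_mul_cycle, ← Matrix.SpecialLinearGroup.coe_mul, inv_mul_cancel,
      Matrix.SpecialLinearGroup.coe_one, one_mul, htr, Oy_val] at htr2
    simp [Matrix.trace_fin_two, Matrix.mul_apply, Fin.sum_univ_two] at htr2
    apply C.root_ne_zero
    rw [Fifth.root]
    linear_combination -htr2 + C.ω ^ 3 * C.pow_five
  obtain ⟨k, hk, rfl⟩ := lift hX hF hp5 hno ht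
  -- now the element commutes with the quadratic element
  set a' : C.CJ := (k : C.CJ)⁻¹ * a with ha'
  have ha'X : (a' : G5) ∈ X := mul_mem (inv_mem (mem_K1.1 k.2).1) hh
  have hfix : a' * ⟨C.y, C.y_mem_CJ⟩ * a'⁻¹ = ⟨C.y, C.y_mem_CJ⟩ := by
    refine K2_inj' hX hF hp5 hno (a := ⟨_, K1_conj ha'X (mem_K2.1 (y_mem_K2 hX)).1⟩)
      (b := ⟨_, (mem_K2.1 (y_mem_K2 hX)).1⟩) (K2_conj ha'X (y_mem_K2 hX)) (y_mem_K2 hX) ?_
    rw [show (⟨_, K1_conj ha'X (mem_K2.1 (y_mem_K2 hX)).1⟩ : K1 C X) = k⁻¹ * b * k from Subtype.ext (by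
      show a' * ⟨C.y, C.y_mem_CJ⟩ * a'⁻¹ = (k : C.CJ)⁻¹ * (a * ⟨C.y, C.y_mem_CJ⟩ * a⁻¹) * (k : C.CJ)
      rw [ha']; group), map_mul, map_mul, map_inv, ← htb']
    simp only [mul_assoc, inv_mul_cancel_left, inv_mul_cancel, mul_one]
    rfl
  have hy' : (a' : G5) ∈ C.Cy := C.mem_Cy.2 (mul_inv_eq_iff_eq_mul.1 (congrArg Subtype.val hfix :))
  obtain ⟨r1, r2⟩ := ratio hF hp5 hX hno ha'X hy' a'.2
  set α := ((a' : G5) : M5) 1 1 - ((a' : G5) : M5) 1 4 with hα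
  set β := ((a' : G5) : M5) 2 2 - ((a' : G5) : M5) 2 3 with hβ
  have hOa : psiO ((a' : G5) : M5) = Matrix.diagonal ![α, β] := psiO_of_Cy hy'
  have hαβ : α * β ≠ 0 := by
    have := Matrix.GeneralLinearGroup.det_ne_zero (C.phO a')
    rwa [C.coe_phO, hOa, Matrix.det_diagonal, Fin.prod_univ_two] at this
  have hα0 : α ≠ 0 := left_ne_zero_of_mul hαβ
  have hβ0 : β ≠ 0 := right_ne_zero_of_mul hαβ
  -- the ratio is a tenth root of unity
  set e : C.CJ := a' * a' * ⟨sc (Units.mk0 _ hαβ)⁻¹, C.sc_mem_CJ _⟩ with he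
  have hOe : psiO ((e : G5) : M5) = Matrix.diagonal ![α / β, β / α] := by
    rw [← C.coe_phO, he, map_mul, map_mul, Units.val_mul, Units.val_mul, C.coe_phO, C.coe_phO, hOa,
      Fifth.psiO_sc, Matrix.diagonal_mul_diagonal, mul_smul_comm, mul_one, ← Matrix.diagonal_smul]
    congr 1
    funext i
    fin_cases i <;> simp <;> field_simp
  have heK : e ∈ K1 C X := mem_K1.2 ⟨mul_mem (mul_mem ha'X ha'X) (hX.sc _), by
    rw [hOe, Matrix.det_diagonal, Fin.prod_univ_two]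
    simp
    field_simp⟩
  have hc5 := hA.cent (Oy hX) ⟨_, rfl⟩ (sO C X ⟨e, heK⟩) ⟨_, rfl⟩ (Oy_five hX) (Oy_ne hX) (Subtype.ext (by
    rw [Matrix.SpecialLinearGroup.coe_mul, Matrix.SpecialLinearGroup.coe_mul, coe_sO, hOe, Oy_val]
    ext i j
    fin_cases i <;> fin_cases j <;> simp [Matrix.mul_apply, Fin.sum_univ_two, mul_comm]))
  have hc : (α / β) ^ 5 = 1 ∨ (α / β) ^ 5 = -1 := by
    rcases hc5 with h5 | h5
    · have := congrArg (fun g : SL2 => (g : M2) 0 0) h5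
      simp [Matrix.SpecialLinearGroup.coe_pow, coe_sO, hOe, Matrix.diagonal_pow] at this
      exact .inl this
    · have := congrArg (fun g : SL2 => (g : M2) 0 0) h5
      simp [Matrix.SpecialLinearGroup.coe_pow, coe_sO, hOe, Matrix.diagonal_pow] at this
      exact .inr this
  obtain ⟨i, ε, hε, hi⟩ : ∃ (i : ℕ) (ε : F), (ε = 1 ∨ ε = -1) ∧ α = ε * C.ω ^ i * β := by
    rcases hc with h5 | h5
    · obtain ⟨i, -, hi⟩ := C.prim.eq_pow_of_pow_eq_one h5
      exact ⟨i, 1, .inl rfl, by rw [one_mul, hi, div_mul_cancel₀ _ hβ0]⟩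
    · obtain ⟨i, -, hi⟩ := C.prim.eq_pow_of_pow_eq_one (ξ := -(α / β))
        (by rw [(by decide : Odd 5).neg_pow, h5, neg_neg])
      exact ⟨i, -1, .inr rfl, by rw [hi, neg_one_mul, neg_neg, div_mul_cancel₀ _ hβ0]⟩
  set a'' : C.CJ := a' * ⟨C.y, C.y_mem_CJ⟩ ^ (2 * i) with ha''
  have ha''X : (a'' : G5) ∈ X := mul_mem ha'X (pow_mem hX.y _)
  have hOa'' : psiO ((a'' : G5) : M5) = Matrix.diagonal ![α * C.ω ^ (2 * i), β * C.ω ^ (8 * i)] := by
    rw [← C.coe_phO, ha'', map_mul, map_pow, Units.val_mul, Units.val_pow_eq_pow_val, C.coe_phO, C.coe_phO, hOa,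
      C.psiO_y, show (!![C.ω, 0; 0, C.ω ^ 4] : M2) = Matrix.diagonal ![C.ω, C.ω ^ 4] by
        ext i j; fin_cases i <;> fin_cases j <;> rfl, Matrix.diagonal_pow, Matrix.diagonal_mul_diagonal]
    congr 1
    funext j
    fin_cases j <;> simp [← pow_mul]
    left
    ring
  set α' := α * C.ω ^ (2 * i) with hα'
  set β' := β * C.ω ^ (8 * i) with hβ'
  have hα'0 : α' ≠ 0 := mul_ne_zero hα0 (pow_ne_zero _ C.ne_zero)
  have hrat : α' = ε * β' := by
    rw [hα', hβ', hi, show 8 * i = i + 2 * i + 5 * i by ring, pow_add _ (i + 2 * i), pow_mul C.ω 5, C.pow_five,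
      one_pow, mul_one, pow_add]
    ring
  set d : C.CJ := a'' * ⟨sc (Units.mk0 _ hα'0)⁻¹, C.sc_mem_CJ _⟩ with hd
  have hdX : (d : G5) ∈ X := mul_mem ha''X (hX.sc _)
  have hOd : psiO ((d : G5) : M5) = Matrix.diagonal ![1, ε] := by
    rw [← C.coe_phO, hd, map_mul, Units.val_mul, C.coe_phO, C.coe_phO, hOa'', Fifth.psiO_sc, mul_smul_comm,
      mul_one, ← Matrix.diagonal_smul]
    congr 1
    funext j
    fin_cases j <;> simp [hα'0]
    rw [hrat] at hα'0 ⊢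
    rcases hε with rfl | rfl <;> field_simp
    all_goals simp [div_self (mul_ne_zero_iff.1 hα'0).2]
  rcases hε with rfl | rfl
  · have hd1 : C.phO d = 1 := Units.ext (by
      rw [C.coe_phO, hOd, Units.val_one, ← Matrix.diagonal_one]; congr 1; funext j; fin_cases j <;> rfl)
    have hha : a = (k : C.CJ) * (a'' * (⟨C.y, C.y_mem_CJ⟩ ^ (2 * i))⁻¹) := by
      rw [ha'', ha', mul_inv_cancel_right, mul_inv_cancel_left]
    have hda : a'' = ⟨sc (Units.mk0 _ hα'0), C.sc_mem_CJ _⟩ * d := by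
      refine Subtype.ext ?_
      show (a'' : G5) = sc _ * ((a'' : G5) * sc _)
      rw [← sc_comm _ (a'' : G5), ← mul_assoc, ← sc_mul, mul_inv_cancel, sc_one, one_mul]
    have hy2 : ((⟨C.y, C.y_mem_CJ⟩ : C.CJ) ^ (2 * i))⁻¹ ∈ K2 C X := inv_mem (pow_mem (y_mem_K2 hX) _)
    rcases kerO hF hp5 hX hno hdX d.2 hd1 with e | e
    · have e' : d = 1 := Subtype.ext e
      rw [e', mul_one] at hda
      refine ⟨Units.mk0 _ hα'0, (k : C.CJ) * (⟨C.y, C.y_mem_CJ⟩ ^ (2 * i))⁻¹, mul_mem hk hy2, ?_⟩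
      have : h = _ := congrArg (fun t : C.CJ => (t : G5)) hha
      rw [hda] at this
      simp only [Subgroup.coe_mul] at this ⊢
      rw [this, ← mul_assoc, ← mul_assoc, sc_comm]
    · refine ⟨Units.mk0 _ hα'0 * -1,
        (k : C.CJ) * (⟨C.J, C.J_mem_CJ⟩ * (⟨C.y, C.y_mem_CJ⟩ ^ (2 * i))⁻¹),
        mul_mem hk (mul_mem (J_mem_K2 hX) hy2), ?_⟩
      have : h = _ := congrArg (fun t : C.CJ => (t : G5)) hha
      rw [hda] at this
      simp only [Subgroup.coe_mul] at this ⊢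
      rw [this, e, sc_mul]
      simp only [← mul_assoc]
      rw [← sc_comm _ ((k : C.CJ) : G5), mul_assoc (sc (Units.mk0 _ hα'0)) _ (sc (-1)), ← sc_comm (-1)]
      simp only [← mul_assoc]
  · exfalso
    set η : SL2 := sO C X ⟨_, K1_conj hdX (S_mem_K1 hX)⟩ * (OS hX)⁻¹ with hη
    have hinv : ((C.phO d)⁻¹ : GL (Fin 2) F) = C.phO d := inv_eq_of_mul_eq_one_right (Units.ext (by
      rw [Units.val_mul, C.coe_phO, hOd, Matrix.diagonal_mul_diagonal, Units.val_one, ← Matrix.diagonal_one]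
      congr 1; funext j; fin_cases j <;> simp))
    have hM : (sO C X ⟨_, K1_conj hdX (S_mem_K1 hX)⟩ : M2) =
        Matrix.diagonal ![1, -1] * psiO (C.S : M5) * Matrix.diagonal ![1, -1] := by
      show (C.phO (d * ⟨C.S, C.S_mem_CJ⟩ * d⁻¹) : M2) = _
      rw [map_mul, map_mul, map_inv, hinv, Units.val_mul, Units.val_mul, C.coe_phO, C.coe_phO, hOd]
    have ht2 : (η : M2).trace * C.root = 2 := by
      rw [hη, Matrix.SpecialLinearGroup.coe_mul, Matrix.SpecialLinearGroup.coe_inv, hM, OS_val,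
        Matrix.adjugate_fin_two, Matrix.trace_fin_two]
      simp [Matrix.mul_apply, Fin.sum_univ_two, C.psiO_S]
      have hr := C.root_ne_zero
      field_simp
      rw [show (C.root : F) = C.ω - C.ω ^ 2 - C.ω ^ 3 + C.ω ^ 4 from rfl]
      linear_combination (-2) * (C.ω ^ 3 - C.ω) * C.pow_five
    have ht5 : 5 * ((η : M2).trace * (η : M2).trace) = 4 := by
      linear_combination ((η : M2).trace * C.root + 2) * ht2 - (η : M2).trace * (η : M2).trace * C.root_sq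
    have hne : η ≠ 1 ∧ η ≠ -1 := by
      constructor <;> intro e <;> rw [e] at ht5 <;> simp [Matrix.trace_fin_two] at ht5
      all_goals exact two_ne hF hp5 (pow_eq_zero_iff (n := 4) (by norm_num) |>.1 (by linear_combination ht5))
    rcases hA.trace_cases (mul_mem ⟨_, rfl⟩ (inv_mem ⟨_, rfl⟩) : η ∈ (sO C X).range) hne with h0 | h0 | h0
    · rw [h0, zero_mul] at ht2
      exact two_ne hF hp5 ht2.symm
    · rw [h0] at ht5
      exact one_ne_zero (α := F) (by linear_combination ht5)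
    · refine nineteen_ne hF hp5 ?_
      linear_combination -25 * h0 + (5 * ((η : M2).trace * (η : M2).trace) - 11) * ht5

theorem cj_le_NZ {h : G5} (hh : h ∈ X) (hhJ : h ∈ C.CJ) : h ∈ C.NZ := by
  obtain ⟨c, k, hk, rfl⟩ := cj_cases hX hF hp5 hno hh hhJ
  exact mul_mem (C.sc_mem_NZ c) (K2_le_NZ hX hF hp5 hno hk)

/-- The only involution of trace one in the centraliser is the reversal. -/
theorem J_unique {j : G5} (hj : j ∈ X) (hjJ : j ∈ C.CJ) (hj2 : j * j = 1) (htr : (j : M5).trace = 1) :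
    j = C.J := by
  haveI : CharP F p := charP_of_card_eq_prime hF
  obtain ⟨c, k, hk, rfl⟩ := cj_cases hX hF hp5 hno hj hjJ
  have h2 : (⟨sc (c * c), C.sc_mem_CJ _⟩ : C.CJ) * (k * k) = 1 := Subtype.ext (by
    show sc (c * c) * ((k : G5) * (k : G5)) = 1
    rw [← hj2, sc_mul, mul_assoc (sc c) (k : G5), ← mul_assoc (k : G5), ← sc_comm c (k : G5)]
    simp only [mul_assoc])
  obtain ⟨hk1, hkE⟩ := mem_K2.1 hk
  have hE := congrArg (fun t : C.CJ => ((C.phE t : GL (Fin 3) F) : M3).det) h2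
  have hO := congrArg (fun t : C.CJ => ((C.phO t : GL (Fin 2) F) : M2).det) h2
  simp only [map_mul, map_one, Units.val_mul, Units.val_one, C.coe_phE, C.coe_phO, Fifth.psiE_sc,
    Fifth.psiO_sc, Matrix.det_mul, Matrix.det_smul, Matrix.det_one, Fintype.card_fin, hkE, (mem_K1.1 hk1).2,
    mul_one] at hE hO
  have hcc : c * c = 1 := Units.ext (by
    rw [Units.val_mul, Units.val_one] at *
    linear_combination hE - (c : F) * (c : F) * hO)
  rw [hcc] at h2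
  have hkk : k * k = 1 := by
    rwa [show (⟨sc (1 : Fˣ), C.sc_mem_CJ _⟩ : C.CJ) = 1 from Subtype.ext sc_one, one_mul] at h2
  have hsq : (sO C X ⟨k, hk1⟩ : M2) * (sO C X ⟨k, hk1⟩ : M2) = 1 := by
    rw [coe_sO, ← psiO_mul (C.sym_of_mem k.2), ← Units.val_mul, ← Subgroup.coe_mul, hkk]
    exact psiO_one
  have hpm : sO C X ⟨k, hk1⟩ = 1 ∨ sO C X ⟨k, hk1⟩ = -1 := by
    have h := sl_sq (sO C X ⟨k, hk1⟩)
    rw [hsq] at h
    set M := sO C X ⟨k, hk1⟩
    by_cases ht : (M : M2).trace = 0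
    · rw [ht, zero_smul, zero_sub] at h
      have := congrFun (congrFun h 0) 0
      simp at this
      exact absurd (by linear_combination this) (two_ne hF hp5)
    · refine scalar_cases M (c := 2 * (M : M2).trace⁻¹) ?_
      rw [mul_comm, ← smul_smul, two_smul]
      nth_rw 1 2 [show (1 : M2) + 1 = (M : M2).trace • (M : M2) by linear_combination (norm := abel) h]
      rw [smul_smul, inv_mul_cancel₀ ht, one_smul]
  have hk' : (k : G5) = 1 ∨ (k : G5) = C.J := by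
    rcases hpm with e | e
    · left
      exact congrArg (fun t : C.CJ => (t : G5))
        (K2_inj' hX hF hp5 hno (a := ⟨k, hk1⟩) (b := 1) hk (one_mem _) (by rw [e, map_one]))
    · right
      exact congrArg (fun t : C.CJ => (t : G5)) (K2_inj' hX hF hp5 hno (a := ⟨k, hk1⟩)
        (b := ⟨_, (mem_K2.1 (J_mem_K2 hX)).1⟩) hk (J_mem_K2 hX) (by rw [e, sO_J hX]))
  have hc : c = 1 ∨ c = -1 := by
    rcases mul_self_eq_one_iff.1 (show (c : F) * (c : F) = 1 by rw [← Units.val_mul, hcc, Units.val_one]) with h | h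
    · exact .inl (Units.ext h)
    · exact .inr (Units.ext (by rw [h, Units.val_neg, Units.val_one]))
  rw [Units.val_mul, coe_sc, smul_mul_assoc, one_mul, Matrix.trace_smul, smul_eq_mul] at htr
  rcases hk' with e | e <;> rw [e] at htr ⊢ <;> rcases hc with rfl | rfl
  · exfalso
    simp [Matrix.trace, sum5] at htr
    exact two_ne hF hp5 (pow_eq_zero_iff (n := 2) (by norm_num) |>.1 (by linear_combination htr))
  · exfalso
    simp [Matrix.trace, sum5] at htr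
    exact mul_ne_zero (two_ne hF hp5) (three_ne hF hp5) (by linear_combination -htr)
  · rw [sc_one, one_mul]
  · exfalso
    rw [C.trace_J] at htr
    simp at htr
    exact two_ne hF hp5 (by linear_combination -htr)

/-- A subgroup of odd order normalised by the group meets the centraliser in scalars. -/
theorem odd_scalar {O : Subgroup G5} (hOX : O ≤ X) (hodd : ∀ o ∈ O, Odd (orderOf o))
    (hnorm : ∀ g ∈ X, ∀ o ∈ O, g * o * g⁻¹ ∈ O) {o : G5} (ho : o ∈ O) (hoJ : o ∈ C.CJ) :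
    ∃ c : Fˣ, o = sc c := by
  obtain ⟨c, k, hk, rfl⟩ := cj_cases hX hF hp5 hno (hOX ho) hoJ
  set O' : Subgroup G5 := O ⊔ scGrp F T5 with hO'
  haveI hscN : (scGrp F T5).Normal := ⟨fun x hx g => by
    obtain ⟨d, rfl⟩ := hx
    show g * sc d * g⁻¹ ∈ _
    rw [← sc_comm, mul_inv_cancel_right]
    exact ⟨d, rfl⟩⟩
  have hscn : ∀ (d : Fˣ) (g : G5), g * sc d * g⁻¹ = sc d := fun d g => by rw [← sc_comm, mul_inv_cancel_right]
  -- elements of the join are products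
  have hjoin : ∀ g ∈ O', ∃ d : Fˣ, sc d * g ∈ O := by
    intro g hg
    rw [hO', Subgroup.mem_sup_of_normal_right] at hg
    obtain ⟨o', ho', z, ⟨d, rfl⟩, rfl⟩ := hg
    refine ⟨d⁻¹, ?_⟩
    show sc d⁻¹ * (o' * sc d) ∈ O
    rwa [← sc_comm, ← mul_assoc, ← sc_mul, inv_mul_cancel, sc_one, one_mul]
  set N := ((K2 C X ⊓ O'.subgroupOf C.CJ).subgroupOf (K1 C X)).map (sO C X) with hN
  have hkO : (k : G5) ∈ O' := by
    have h1 : sc c⁻¹ * (sc c * (k : G5)) ∈ O' :=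
      mul_mem (Subgroup.mem_sup_right ⟨c⁻¹, rfl⟩) (Subgroup.mem_sup_left ho)
    rwa [← mul_assoc, ← sc_mul, inv_mul_cancel, sc_one, one_mul] at h1
  have hsimple := (altFive hX hF hp5 hno).simple N (by rintro _ ⟨a, -, rfl⟩; exact ⟨a, rfl⟩) (by
    rintro _ ⟨g, rfl⟩ _ ⟨n, ⟨hn, hnO⟩, rfl⟩
    refine ⟨g * n * g⁻¹, ⟨K2_conj (mem_K1.1 g.2).1 hn, ?_⟩, by rw [map_mul, map_mul, map_inv]⟩
    obtain ⟨d, hd⟩ := hjoin _ hnO
    have := hnorm _ (mem_K1.1 g.2).1 _ hd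
    rw [Cfsg.Agent.H1.HeisThree.conj_sc_mul] at this
    have h1 := mul_mem (Subgroup.mem_sup_right (⟨d⁻¹, rfl⟩ : sc d⁻¹ ∈ scGrp F T5) : sc d⁻¹ ∈ O')
      (Subgroup.mem_sup_left this)
    rw [← mul_assoc, ← sc_mul, inv_mul_cancel, sc_one, one_mul] at h1
    exact h1)
  rcases hsimple with h | h
  · have h1 := h (sO C X ⟨k, (mem_K2.1 hk).1⟩) ⟨_, ⟨hk, hkO⟩, rfl⟩
    rcases h1 with e | e
    · have e' := congrArg (fun t : C.CJ => (t : G5))
        (K2_inj' hX hF hp5 hno (a := ⟨k, (mem_K2.1 hk).1⟩) (b := 1) hk (one_mem _) (by rw [e, map_one]))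
      exact ⟨c, by rw [show (k : G5) = 1 from e', mul_one]⟩
    · have e' : (k : G5) = C.J := congrArg (fun t : C.CJ => (t : G5)) (K2_inj' hX hF hp5 hno
        (a := ⟨k, (mem_K2.1 hk).1⟩) (b := ⟨_, (mem_K2.1 (J_mem_K2 hX)).1⟩) hk (J_mem_K2 hX) (by rw [e, sO_J hX]))
      obtain ⟨m, hm⟩ := hodd _ ho
      refine ⟨(c * c) ^ (m + 1), ?_⟩
      have hsq : sc c * (k : G5) * (sc c * (k : G5)) = sc (c * c) := by
        rw [e', sc_mul, mul_assoc, ← mul_assoc C.J, ← sc_comm, mul_assoc, C.J_mul_J, mul_one]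
      rw [← sc_pow, ← hsq, ← pow_two, ← pow_mul, show 2 * (m + 1) = 2 * m + 1 + 1 by ring, pow_succ, ← hm,
        pow_orderOf_eq_one, one_mul]
  · exfalso
    have hS : ∃ k' : K1 C X, (k' : C.CJ) ∈ O'.subgroupOf C.CJ ∧ (sO C X k' = OS hX ∨ sO C X k' = -OS hX) := by
      rcases h (OS hX) ⟨_, rfl⟩ with h | h <;> obtain ⟨k', ⟨-, hk'O⟩, e⟩ := h
      exacts [⟨k', hk'O, .inl e⟩, ⟨k', hk'O, .inr e⟩]
    obtain ⟨k', hk'O, hS'⟩ := hS
    obtain ⟨d, hd⟩ := hjoin _ hk'O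
    set w : C.CJ := ⟨sc d, C.sc_mem_CJ d⟩ * (k' : C.CJ) with hw
    obtain ⟨n, hn⟩ : ∃ n, w ^ (2 * n + 1) = 1 := by
      obtain ⟨m, hm⟩ := hodd _ hd
      refine ⟨m, Subtype.ext ?_⟩
      rw [SubmonoidClass.coe_pow, ← hm]
      exact pow_orderOf_eq_one _
    have hOS : OS hX * OS hX = -1 := by
      refine Subtype.ext ?_
      rw [Matrix.SpecialLinearGroup.coe_mul, OS_val, ← psiO_mul (C.sym_of_mem C.S_mem_CJ), ← Units.val_mul,
        C.S_mul_S, C.psiO_J]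
      rfl
    have hwM : (C.phO w : M2) = (d : F) • (sO C X k' : M2) := by
      rw [hw, map_mul, Units.val_mul, C.coe_phO, Fifth.psiO_sc, smul_mul_assoc, one_mul]; rfl
    have h2 : (sO C X k' : M2) * (sO C X k' : M2) = -1 := by
      rw [← Matrix.SpecialLinearGroup.coe_mul]
      rcases hS' with e | e <;> rw [e] <;> [skip; rw [neg_mul_neg]] <;> rw [hOS] <;> rfl
    have := congrArg (fun t : C.CJ => ((C.phO t : GL (Fin 2) F) : M2) 0 1) hn
    beta_reduce at this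
    rw [map_pow, map_one, Units.val_pow_eq_pow_val, Units.val_one, hwM, smul_pow, pow_succ (sO C X k' : M2),
      pow_mul (sO C X k' : M2) 2, pow_two (sO C X k' : M2), h2] at this
    have hs : (sO C X k' : M2) 0 1 ≠ 0 := by
      rcases hS' with e | e <;> rw [e] <;> simp [OS_val, C.psiO_S_off.1]
    rcases neg_one_pow_eq_or M2 n with e | e <;> rw [e] at this <;> simp [hs] at this

end Cfsg.Agent.H97.CFive
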