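import Cfsg.Agent.H97.CFive.Ratio
import Cfsg.Agent.H97.CFive.Central

/-!
The kernel of the action of the centraliser of the reversal on the odd vectors, and its elements of order p.
-/

set_option autoImplicit false
set_option linter.unusedSectionVars false

namespace Cfsg.Agent.H97.CFive

open Matrix
open Cfsg.Agent.H88 (uu vv)
open Cfsg.Agent.H1.HeisThree (sc scGrp coe_sc sc_mul sc_one sc_comm sc_inj)

variable {F : Type*} [Field F]

local notation "T5" => ZMod 5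
local notation "M5" => Matrix (ZMod 5) (ZMod 5) F
local notation "G5" => GL (ZMod 5) F
local notation "M3" => Matrix (Fin 3) (Fin 3) F
local notation "M2" => Matrix (Fin 2) (Fin 2) F
local notation "SL2" => Matrix.SpecialLinearGroup (Fin 2) F

variable {C : Fifth F} {X : Subgroup (GL (ZMod 5) F)}

theorem Fifth.det_psiO_S (C : Fifth F) : (psiO (C.S : M5)).det = 1 := by
  rw [C.psiO_S, Matrix.det_smul, Matrix.det_fin_two_of, Fintype.card_fin]
  have h := C.root_sq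
  have h5 := C.five_ne_zero
  have e : (C.ω - C.ω ^ 4) * (C.ω ^ 4 - C.ω) - (C.ω ^ 2 - C.ω ^ 3) * (C.ω ^ 2 - C.ω ^ 3) = 5 := by
    linear_combination (-1 : F) * C.geom + (4 - C.ω ^ 3 - C.ω) * C.pow_five
  rw [e, pow_two, ← mul_inv, h, inv_mul_cancel₀ h5]

theorem Fifth.psiO_S_off (C : Fifth F) : psiO (C.S : M5) 0 1 ≠ 0 ∧ psiO (C.S : M5) 1 0 ≠ 0 := by
  have h : C.ω ^ 2 - C.ω ^ 3 ≠ 0 := by
    rw [← C.ch_three, ← C.ch_two]
    exact sub_ne_zero.2 fun e => absurd (C.ch_inj e) (by decide)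
  rw [C.psiO_S]
  constructor <;> simp [C.root_ne_zero, h]

/-- The part of determinant one of the kernel on the odd vectors. -/
def Lg (C : Fifth F) (X : Subgroup G5) : Subgroup G5 :=
  (X.subgroupOf C.CJ ⊓ C.phO.ker ⊓ (Matrix.GeneralLinearGroup.det.comp C.phE).ker).map C.CJ.subtype

theorem mem_Lg {g : G5} : g ∈ Lg C X ↔
    ∃ h : g ∈ C.CJ, g ∈ X ∧ C.phO ⟨g, h⟩ = 1 ∧ Matrix.GeneralLinearGroup.det (C.phE ⟨g, h⟩) = 1 := by
  constructor
  · rintro ⟨a, ⟨⟨ha, hO⟩, hE⟩, rfl⟩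
    exact ⟨a.2, ha, hO, hE⟩
  · rintro ⟨h, hX, hO, hE⟩
    exact ⟨⟨g, h⟩, ⟨⟨hX, hO⟩, hE⟩, rfl⟩

theorem Lg_conj {h : G5} (hh : h ∈ X) (hhJ : h ∈ C.CJ) {g : G5} (hg : g ∈ Lg C X) : h * g * h⁻¹ ∈ Lg C X := by
  obtain ⟨hgJ, hgX, hO, hE⟩ := mem_Lg.1 hg
  refine mem_Lg.2 ⟨mul_mem (mul_mem hhJ hgJ) (inv_mem hhJ), mul_mem (mul_mem hh hgX) (inv_mem hh), ?_, ?_⟩
  · show C.phO (⟨h, hhJ⟩ * ⟨g, hgJ⟩ * ⟨h, hhJ⟩⁻¹) = 1
    rw [map_mul, map_mul, hO, mul_one, map_inv, mul_inv_cancel]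
  · show Matrix.GeneralLinearGroup.det (C.phE (⟨h, hhJ⟩ * ⟨g, hgJ⟩ * ⟨h, hhJ⟩⁻¹)) = 1
    rw [map_mul, map_mul, map_mul, map_mul, hE, mul_one, ← map_mul, ← map_mul, mul_inv_cancel, map_one, map_one]

theorem psiE_of_Cy {g : G5} (hg : g ∈ C.Cy) : psiE (g : M5) = Matrix.diagonal
    ![(g : M5) 0 0, (g : M5) 1 1 + (g : M5) 1 4, (g : M5) 2 2 + (g : M5) 2 3] := by
  obtain ⟨h01, h02, h03, h04, h10, h12, h13, -, -, -, h20, h21, h24, -, -, -⟩ := C.Cy_rows hg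
  ext a b
  fin_cases a <;> fin_cases b <;> simp [psiE, h01, h02, h03, h04, h10, h12, h13, h20, h21, h24]

theorem psiO_of_Cy {g : G5} (hg : g ∈ C.Cy) : psiO (g : M5) = Matrix.diagonal
    ![(g : M5) 1 1 - (g : M5) 1 4, (g : M5) 2 2 - (g : M5) 2 3] := by
  obtain ⟨h01, h02, h03, h04, h10, h12, h13, -, -, -, h20, h21, h24, -, -, -⟩ := C.Cy_rows hg
  ext a b
  fin_cases a <;> fin_cases b <;> simp [psiO, h12, h13, h21, h24]

/-- A diagonal matrix intertwined by the Fourier matrix is scalar. -/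
theorem scalar_of_S (C : Fifth F) (h2 : (2 : F) ≠ 0) {d d' : Fin 3 → F}
    (h : psiE (C.S : M5) * Matrix.diagonal d = Matrix.diagonal d' * psiE (C.S : M5)) : ∀ i, d i = d 0 := by
  have hr : C.root⁻¹ ≠ 0 := inv_ne_zero C.root_ne_zero
  have e : ∀ a b, psiE (C.S : M5) a b * d b = d' a * psiE (C.S : M5) a b := fun a b => by
    have := congrFun (congrFun h a) b
    rwa [Matrix.mul_diagonal, Matrix.diagonal_mul] at this
  have e00 := e 0 0
  have e01 := e 0 1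
  have e02 := e 0 2
  rw [C.psiE_S] at e00 e01 e02
  simp [hr, C.root_ne_zero] at e00 e01 e02
  have c00 : d 0 = d' 0 := mul_left_cancel₀ hr (by linear_combination e00)
  have c01 : d 1 = d' 0 := mul_left_cancel₀ (mul_ne_zero hr h2) (by linear_combination e01)
  have c02 : d 2 = d' 0 := mul_left_cancel₀ (mul_ne_zero hr h2) (by linear_combination e02)
  intro i
  fin_cases i
  exacts [rfl, c01.trans c00.symm, c02.trans c00.symm]

variable [Fintype F] {p : ℕ} [Fact p.Prime] (hF : Fintype.card F = p) (hp5 : p % 5 = 1)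
include hF hp5

theorem cube_of_pow {g : G5} (hg : g ∈ C.CJ) (hgp : g ^ p = 1) :
    ((g : M5) - 1) * ((g : M5) - 1) * ((g : M5) - 1) = 0 := by
  haveI : CharP F p := charP_of_card_eq_prime hF
  have hs : Sym ((g : M5) - 1) := by
    intro i j
    rw [Matrix.sub_apply, Matrix.sub_apply, C.sym_of_mem hg i j]
    congr 1
    simp only [Matrix.one_apply, neg_inj]
  have hs2 : Sym (((g : M5) - 1) * ((g : M5) - 1) * ((g : M5) - 1)) := by
    have hmul : ∀ A B : M5, Sym A → Sym B → Sym (A * B) := by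
      intro A B hA hB i j
      rw [Matrix.mul_apply, Matrix.mul_apply]
      refine Fintype.sum_equiv (Equiv.neg _) _ _ fun k => ?_
      rw [Equiv.neg_apply, ← hA i (-k), ← hB (-k) j, neg_neg]
    exact hmul _ _ (hmul _ _ hs hs) hs
  refine sym_ext (two_ne hF hp5) hs2 (fun i j => rfl) ?_ ?_
  · rw [psiE_mul hs, psiE_mul hs, psiE_sub, psiE_one, show psiE (0 : M5) = 0 by
      ext a b; fin_cases a <;> fin_cases b <;> simp [psiE]]
    refine cube_eq_zero (nilp_of_pow (p := p) ?_)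
    rw [← C.coe_phE ⟨g, hg⟩, ← Units.val_pow_eq_pow_val, ← map_pow,
      show (⟨g, hg⟩ : C.CJ) ^ p = 1 from Subtype.ext hgp, map_one, Units.val_one]
  · rw [psiO_mul hs, psiO_mul hs, psiO_sub, psiO_one, show psiO (0 : M5) = 0 by
      ext a b; fin_cases a <;> fin_cases b <;> simp [psiO]]
    rw [sq_eq_zero (nilp_of_pow (p := p) ?_), zero_mul]
    rw [← C.coe_phO ⟨g, hg⟩, ← Units.val_pow_eq_pow_val, ← map_pow,
      show (⟨g, hg⟩ : C.CJ) ^ p = 1 from Subtype.ext hgp, map_one, Units.val_one]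

/-- An invariant subgroup of order divisible by p gives everything. -/
theorem big_of_invariant (hX : Ctx C X) {B : Subgroup G5} (hBX : B ≤ X) (hBJ : B ≤ C.CJ)
    (hyB : ∀ b ∈ B, C.y * b * C.y⁻¹ ∈ B) (hpB : p ∣ Nat.card B) (h5 : ¬ 5 ∣ Nat.card B) : Big X := by
  haveI : CharP F p := charP_of_card_eq_prime hF
  have h11 := eleven_le hF hp5
  obtain ⟨Q, hQB, hQp, hQ1, hyQ⟩ := exists_invariant_sylow C.y_five B hyB p (.inr h5)
  obtain ⟨x, hxQ, hx1, hxp, n, w, hn, hy⟩ :=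
    exists_eigen C.prim (fun a => exists_nat hF a) C.y_five hQp (hQ1 hpB) hyQ
  have hch : (n : F) = C.ch (w : T5) := by
    rw [hn, Fifth.ch, ZMod.val_natCast, ← pow_eq_pow_mod _ C.pow_five]
  by_cases hw : (w : T5) = 0
  · rw [hw, C.ch_zero, ← Nat.cast_one] at hch
    have hxn : x ^ n = x := by
      rw [pow_eq_pow_mod n hxp, (CharP.natCast_eq_natCast F p).1 hch, ← pow_eq_pow_mod 1 hxp, pow_one]
    rw [hxn] at hy
    exact big_of_centralising hF hX (hBX (hQB hxQ)) (mul_inv_eq_iff_eq_mul.1 hy).symm hxp hx1 (by omega)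
      (two_ne hF hp5)
  · exact big_of_weight hF hX (hBX (hQB hxQ)) hx1 (cube_of_pow hF hp5 (hBJ (hQB hxQ)) hxp) n hw hch hy
      (two_ne hF hp5)

variable (hX : Ctx C X) (hno : ¬ Big X)
include hX hno

theorem Lg_cy {g : G5} (hg : g ∈ Lg C X) (hgy : g ∈ C.Cy) : g * g = 1 := by
  obtain ⟨hgJ, hgX, hO, hE⟩ := mem_Lg.1 hg
  obtain ⟨r1, r2⟩ := ratio hF hp5 hX hno hgX hgy hgJ
  have eO : psiO (g : M5) = 1 := by rw [← C.coe_phO ⟨g, hgJ⟩, hO, Units.val_one]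
  have eE := congrArg Units.val hE
  rw [Matrix.GeneralLinearGroup.val_det_apply, C.coe_phE, psiE_of_Cy hgy, Matrix.det_diagonal, Fin.prod_univ_three,
    Units.val_one] at eE
  rw [psiO_of_Cy hgy] at eO
  have o0 := congrFun (congrFun eO 0) 0
  have o1 := congrFun (congrFun eO 1) 1
  simp at o0 o1 eE
  have a1 : ((g : M5) 1 1 + (g : M5) 1 4) * ((g : M5) 1 1 + (g : M5) 1 4) = 1 := by
    rcases r1 with h | h <;> rw [h] at o0 ⊢ <;>
      [linear_combination (-(g : M5) 1 4 + 1) * o0; linear_combination ((g : M5) 1 1 + 1) * o0]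
  have a2 : ((g : M5) 2 2 + (g : M5) 2 3) * ((g : M5) 2 2 + (g : M5) 2 3) = 1 := by
    rcases r2 with h | h <;> rw [h] at o1 ⊢ <;>
      [linear_combination (-(g : M5) 2 3 + 1) * o1; linear_combination ((g : M5) 2 2 + 1) * o1]
  have a0 : (g : M5) 0 0 * (g : M5) 0 0 = 1 := by
    have e2 := congrArg (fun t => t * t) eE
    simp only [mul_one] at e2
    linear_combination e2 - (g : M5) 0 0 ^ 2 * ((g : M5) 2 2 + (g : M5) 2 3) ^ 2 * a1 - (g : M5) 0 0 ^ 2 * a2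
  refine congrArg Subtype.val (C.ext_CJ (two_ne hF hp5) (g := ⟨g, hgJ⟩ * ⟨g, hgJ⟩) (h := 1) (Units.ext ?_)
    (by rw [map_mul, hO, mul_one, map_one]))
  rw [map_mul, Units.val_mul, C.coe_phE, psiE_of_Cy hgy, Matrix.diagonal_mul_diagonal, map_one, Units.val_one,
    ← Matrix.diagonal_one]
  congr 1
  funext i
  fin_cases i <;> simp [a0, a1, a2]

theorem Lg_not_dvd_five : ¬ 5 ∣ Nat.card (Lg C X) := by
  intro h5
  haveI : Fact (Nat.Prime 5) := ⟨by norm_num⟩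
  obtain ⟨Q, hQL, hQ5, hQ1, hyQ⟩ := exists_invariant_sylow C.y_five (Lg C X)
    (fun b hb => Lg_conj hX.y C.y_mem_CJ hb) 5 (.inl rfl)
  haveI : Nontrivial Q := (Subgroup.nontrivial_iff_ne_bot Q).2 (hQ1 h5)
  haveI := hQ5.center_nontrivial
  obtain ⟨⟨z, hzc⟩, hz1⟩ := exists_ne (1 : Subgroup.center Q)
  obtain ⟨k, hk⟩ := hQ5.exists_card_eq
  have hpQ : ¬ p ∣ Nat.card Q := by
    rw [hk]
    intro h
    have := (Nat.prime_dvd_prime_iff_eq Fact.out (by norm_num)).1 ((Fact.out : p.Prime).dvd_of_dvd_pow h)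
    omega
  have h11 := eleven_le hF hp5
  have hzy := cy_of_central hF (by omega) hpQ hyQ z.2 fun q hq =>
    (congrArg Subtype.val (Subgroup.mem_center_iff.1 hzc ⟨q, hq⟩)).symm
  have h2 : z ^ 2 = 1 := Subtype.ext (by
    rw [SubmonoidClass.coe_pow, pow_two, Lg_cy hF hp5 hX hno (hQL z.2) (C.mem_Cy.2 hzy)]; rfl)
  obtain ⟨m, hm⟩ := hQ5 z
  have hgcd : orderOf z ∣ Nat.gcd 2 (5 ^ m) :=
    Nat.dvd_gcd (orderOf_dvd_of_pow_eq_one h2) (orderOf_dvd_of_pow_eq_one hm)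
  rw [(Nat.Coprime.pow_right m (by norm_num : Nat.Coprime 2 5)), Nat.dvd_one, orderOf_eq_one_iff] at hgcd
  exact hz1 (Subtype.ext hgcd)

theorem Lg_not_dvd : ¬ p ∣ Nat.card (Lg C X) := fun h =>
  hno (big_of_invariant hF hp5 hX (fun g hg => (mem_Lg.1 hg).2.1) (fun g hg => (mem_Lg.1 hg).1)
    (fun b hb => Lg_conj hX.y C.y_mem_CJ hb) h (Lg_not_dvd_five hF hp5 hX hno))

theorem Lg_trivial : ∀ g ∈ Lg C X, g = 1 := by
  have h11 := eleven_le hF hp5
  have hpr : ∀ r : ℕ, r.Prime → r ∣ Nat.card (Lg C X) → r = 2 := by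
    intro r hr hrd
    haveI : Fact r.Prime := ⟨hr⟩
    obtain ⟨Q, hQL, hQr, hQ1, hyQ⟩ := exists_invariant_sylow C.y_five (Lg C X)
      (fun b hb => Lg_conj hX.y C.y_mem_CJ hb) r (.inr (Lg_not_dvd_five hF hp5 hX hno))
    haveI : Nontrivial Q := (Subgroup.nontrivial_iff_ne_bot Q).2 (hQ1 hrd)
    haveI := hQr.center_nontrivial
    obtain ⟨⟨z, hzc⟩, hz1⟩ := exists_ne (1 : Subgroup.center Q)
    have hpQ : ¬ p ∣ Nat.card Q := fun h =>
      Lg_not_dvd hF hp5 hX hno (h.trans (Subgroup.card_dvd_of_le hQL))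
    have hzy := cy_of_central hF (by omega) hpQ hyQ z.2 fun q hq =>
      (congrArg Subtype.val (Subgroup.mem_center_iff.1 hzc ⟨q, hq⟩)).symm
    have h2 : z ^ 2 = 1 := Subtype.ext (by
      rw [SubmonoidClass.coe_pow, pow_two, Lg_cy hF hp5 hX hno (hQL z.2) (C.mem_Cy.2 hzy)]; rfl)
    obtain ⟨m, hm⟩ := hQr z
    by_contra hr2
    have hgcd : orderOf z ∣ Nat.gcd 2 (r ^ m) :=
      Nat.dvd_gcd (orderOf_dvd_of_pow_eq_one h2) (orderOf_dvd_of_pow_eq_one hm)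
    rw [(Nat.Coprime.pow_right m ((Nat.coprime_primes Nat.prime_two hr).2 (Ne.symm hr2))), Nat.dvd_one,
      orderOf_eq_one_iff] at hgcd
    exact hz1 (Subtype.ext hgcd)
  haveI : Fact (Nat.Prime 2) := ⟨Nat.prime_two⟩
  have hL2 : IsPGroup 2 (Lg C X) := IsPGroup.iff_card.2
    ⟨_, Nat.eq_prime_pow_of_unique_prime_dvd Nat.card_pos.ne' fun hq hqd => hpr _ hq hqd⟩
  intro g hg
  by_contra hg1
  haveI : Nontrivial (Lg C X) := ⟨⟨⟨g, hg⟩, 1, fun e => hg1 (congrArg Subtype.val e)⟩⟩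
  haveI := hL2.center_nontrivial
  obtain ⟨⟨z, hzc⟩, hz1⟩ := exists_ne (1 : Subgroup.center (Lg C X))
  refine hz1 (Subtype.ext ?_)
  have hcy : ∀ a : Lg C X, a ∈ Subgroup.center (Lg C X) → (a : G5) ∈ C.Cy := fun a ha =>
    C.mem_Cy.2 (cy_of_central hF (by omega) (Lg_not_dvd hF hp5 hX hno) (fun b hb => Lg_conj hX.y C.y_mem_CJ hb) a.2
      fun q hq => (congrArg Subtype.val (Subgroup.mem_center_iff.1 ha ⟨q, hq⟩)).symm)
  have hz' : C.S * (z : G5) * C.S⁻¹ ∈ Lg C X := Lg_conj hX.S C.S_mem_CJ z.2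
  have hz'c : (⟨_, hz'⟩ : Lg C X) ∈ Subgroup.center (Lg C X) := by
    refine Subgroup.mem_center_iff.2 fun q => Subtype.ext ?_
    have hq' : C.S⁻¹ * (q : G5) * C.S ∈ Lg C X := by
      simpa using Lg_conj (inv_mem hX.S) (inv_mem C.S_mem_CJ) q.2
    have := congrArg Subtype.val (Subgroup.mem_center_iff.1 hzc ⟨_, hq'⟩)
    simp only [Subgroup.coe_mul] at this ⊢
    calc (q : G5) * (C.S * z * C.S⁻¹) = C.S * (C.S⁻¹ * q * C.S * z) * C.S⁻¹ := by group
      _ = C.S * z * C.S⁻¹ * q := by rw [this]; group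
  obtain ⟨hzJ, hzX, hO, hE⟩ := mem_Lg.1 z.2
  have hEz := psiE_of_Cy (hcy z hzc)
  have hEz' := psiE_of_Cy (hcy _ hz'c)
  have e : psiE (C.S : M5) * psiE ((z : G5) : M5) = psiE ((C.S * z * C.S⁻¹ : G5) : M5) * psiE (C.S : M5) := by
    rw [← psiE_mul (C.sym_of_mem hzJ), ← psiE_mul (C.sym_of_mem C.S_mem_CJ), ← Units.val_mul, ← Units.val_mul,
      inv_mul_cancel_right]
  rw [hEz, hEz'] at e
  have hd := scalar_of_S C (two_ne hF hp5) e
  have hsq := congrArg (fun t : G5 => psiE (t : M5)) (Lg_cy hF hp5 hX hno z.2 (hcy z hzc))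
  simp only [Units.val_mul, Units.val_one, psiE_mul (C.sym_of_mem hzJ), psiE_one, hEz,
    Matrix.diagonal_mul_diagonal] at hsq
  have eE := congrArg Units.val hE
  rw [Matrix.GeneralLinearGroup.val_det_apply, C.coe_phE, hEz, Matrix.det_diagonal, Fin.prod_univ_three,
    Units.val_one, hd 1, hd 2] at eE
  have h00 := congrFun (congrFun hsq 0) 0
  simp only [Matrix.diagonal_apply_eq, Matrix.one_apply_eq] at h00
  rw [h00, one_mul] at eE
  have hfin : C.phE ⟨(z : G5), hzJ⟩ = 1 → (⟨(z : G5), hzJ⟩ : C.CJ) = 1 := fun h =>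
    C.ext_CJ (two_ne hF hp5) (by rw [h, map_one]) (by rw [hO, map_one])
  refine Subtype.ext ?_
  show (z : G5) = 1
  refine congrArg (fun t : C.CJ => (t : G5)) (hfin (Units.ext ?_))
  rw [C.coe_phE, hEz, Units.val_one, ← Matrix.diagonal_one]
  congr 1
  funext i
  rw [hd i, eE]

/-- The kernel on the odd vectors. -/
theorem kerO {g : G5} (hg : g ∈ X) (hgJ : g ∈ C.CJ) (hO : C.phO ⟨g, hgJ⟩ = 1) :
    g = 1 ∨ g = sc (-1) * C.J := by
  have hcomm : ∀ a : G5, a ∈ X → ∀ haJ : a ∈ C.CJ, g * a = a * g := by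
    intro a ha haJ
    have hJ' : g * a * g⁻¹ * a⁻¹ ∈ C.CJ := mul_mem (mul_mem (mul_mem hgJ haJ) (inv_mem hgJ)) (inv_mem haJ)
    have : g * a * g⁻¹ * a⁻¹ ∈ Lg C X := by
      refine mem_Lg.2 ⟨hJ', mul_mem (mul_mem (mul_mem hg ha) (inv_mem hg)) (inv_mem ha), ?_, ?_⟩
      · show C.phO (⟨g, hgJ⟩ * ⟨a, haJ⟩ * ⟨g, hgJ⟩⁻¹ * ⟨a, haJ⟩⁻¹) = 1
        rw [map_mul, map_mul, map_mul, hO, map_inv, map_inv, hO, one_mul, inv_one, mul_one, mul_inv_cancel]
      · show Matrix.GeneralLinearGroup.det (C.phE (⟨g, hgJ⟩ * ⟨a, haJ⟩ * ⟨g, hgJ⟩⁻¹ * ⟨a, haJ⟩⁻¹)) = 1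
        simp only [map_mul, map_inv]
        rw [mul_inv_cancel_comm, mul_inv_cancel]
    have h1 := Lg_trivial hF hp5 hX hno _ this
    rwa [mul_inv_eq_one, mul_inv_eq_iff_eq_mul] at h1
  have hgy : g ∈ C.Cy := C.mem_Cy.2 (hcomm _ hX.y C.y_mem_CJ)
  have e := congrArg (fun t : G5 => psiE (t : M5)) (hcomm _ hX.S C.S_mem_CJ)
  simp only [Units.val_mul, psiE_mul (C.sym_of_mem C.S_mem_CJ), psiE_mul (C.sym_of_mem hgJ)] at e
  rw [psiE_of_Cy hgy] at e
  have hd := scalar_of_S C (two_ne hF hp5) e.symm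
  have eO : psiO (g : M5) = 1 := by rw [← C.coe_phO ⟨g, hgJ⟩, hO, Units.val_one]
  rw [psiO_of_Cy hgy] at eO
  have o0 := congrFun (congrFun eO 0) 0
  simp at o0
  have h10 := hd 1
  simp at h10
  obtain ⟨r1, -⟩ := ratio hF hp5 hX hno hg hgy hgJ
  rcases r1 with h | h
  · right
    refine congrArg Subtype.val (C.ext_CJ (two_ne hF hp5) (g := ⟨g, hgJ⟩)
      (h := ⟨sc (-1) * C.J, mul_mem (C.sc_mem_CJ _) C.J_mem_CJ⟩) (Units.ext ?_) (Units.ext ?_))
    · rw [C.coe_phE, C.coe_phE, Units.val_mul, psiE_mul (C.sym_of_mem C.J_mem_CJ), Fifth.psiE_sc, C.psiE_J, mul_one,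
        psiE_of_Cy hgy, Matrix.smul_one_eq_diagonal]
      congr 1
      funext i
      rw [hd i, Units.val_neg, Units.val_one]
      show (g : M5) 0 0 = -1
      rw [h, zero_add] at h10
      rw [h, zero_sub] at o0
      linear_combination -o0 - h10
    · rw [C.coe_phO, C.coe_phO, Units.val_mul, psiO_mul (C.sym_of_mem C.J_mem_CJ), Fifth.psiO_sc, C.psiO_J,
        psiO_of_Cy hgy, eO]
      simp
  · left
    refine congrArg Subtype.val (C.ext_CJ (two_ne hF hp5) (g := ⟨g, hgJ⟩) (h := 1) (Units.ext ?_)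
      (by rw [hO, map_one]))
    rw [C.coe_phE, map_one, Units.val_one, psiE_of_Cy hgy, ← Matrix.diagonal_one]
    congr 1
    funext i
    rw [hd i]
    show (g : M5) 0 0 = 1
    rw [h] at h10 o0
    linear_combination o0 - h10

/-- The centraliser of the reversal has order prime to p. -/
theorem CJ_not_dvd : ¬ p ∣ Nat.card (X ⊓ C.CJ : Subgroup G5) := by
  haveI : CharP F p := charP_of_card_eq_prime hF
  intro hp
  obtain ⟨x, hx⟩ := exists_prime_orderOf_dvd_card' p hp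
  have hxp : x ^ p = 1 := by rw [← hx]; exact pow_orderOf_eq_one x
  have hx1 : x ≠ 1 := fun e => by
    rw [e, orderOf_one] at hx
    exact (Fact.out : p.Prime).one_lt.ne hx
  let K : Subgroup C.CJ := X.subgroupOf C.CJ ⊓ (Matrix.GeneralLinearGroup.det.comp C.phO).ker
  have hmemK : ∀ {a : C.CJ}, a ∈ K ↔ (a : G5) ∈ X ∧ (psiO ((a : G5) : M5)).det = 1 := fun {a} => by
    simp only [K, Subgroup.mem_inf, Subgroup.mem_subgroupOf, MonoidHom.mem_ker, MonoidHom.comp_apply]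
    exact and_congr_right fun _ => ⟨fun h => by
      rw [← C.coe_phO, ← Matrix.GeneralLinearGroup.val_det_apply, h, Units.val_one], fun h => Units.ext h⟩
  let s : K →* SL2 := toSL (C.phO.comp K.subtype) fun a => (hmemK.1 a.2).2
  have hsval : ∀ a : K, (s a : M2) = psiO (((a : C.CJ) : G5) : M5) := fun a => rfl
  set x' : C.CJ := ⟨(x : G5), x.2.2⟩ with hx'
  have hx'p : x' ^ p = 1 := Subtype.ext (congrArg Subtype.val hxp :)
  have hxK : x' ∈ K := hmemK.2 ⟨x.2.1, by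
    have h := FiniteField.pow_card (psiO ((x' : G5) : M5)).det
    rw [hF, ← Matrix.det_pow, ← C.coe_phO, ← Units.val_pow_eq_pow_val, ← map_pow, hx'p, map_one, Units.val_one,
      Matrix.det_one] at h
    exact h.symm⟩
  by_cases h1 : s ⟨x', hxK⟩ = 1
  · rcases kerO hF hp5 hX hno x.2.1 x.2.2 (Units.ext (congrArg Subtype.val h1)) with e | e
    · exact hx1 (Subtype.ext e)
    · have h2 : (x : G5) ^ 2 = 1 := by
        rw [e, pow_two, mul_assoc, ← mul_assoc C.J, ← sc_comm, mul_assoc, C.J_mul_J, mul_one, ← sc_mul,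
          neg_one_mul, neg_neg, sc_one]
      have h11 := eleven_le hF hp5
      have : orderOf (x : G5) ∣ 2 := orderOf_dvd_of_pow_eq_one h2
      rw [Subgroup.orderOf_coe, hx] at this
      have := Nat.le_of_dvd two_pos this
      omega
  -- the image is everything
  have hyK : (⟨C.y, C.y_mem_CJ⟩ : C.CJ) ∈ K := hmemK.2 ⟨hX.y, by
    rw [C.psiO_y, Matrix.det_fin_two_of, mul_zero, sub_zero, ← pow_succ', C.pow_five]⟩
  have hSK : (⟨C.S, C.S_mem_CJ⟩ : C.CJ) ∈ K := hmemK.2 ⟨hX.S, C.det_psiO_S⟩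
  have hnorm : ∀ (a : C.CJ) (ha : a ∈ K), ∀ b ∈ s.range, ∃ b' ∈ s.range,
      (b' : M2) = (C.phO a : M2) * (b : M2) * (((C.phO a)⁻¹ : GL (Fin 2) F) : M2) := by
    rintro a ha _ ⟨b, rfl⟩
    refine ⟨s (⟨a, ha⟩ * b * ⟨a, ha⟩⁻¹), ⟨_, rfl⟩, ?_⟩
    show (C.phO (a * (b : C.CJ) * a⁻¹) : M2) = _
    rw [map_mul, map_mul, map_inv, Units.val_mul, Units.val_mul]
    rfl
  have hN : ((s ⟨x', hxK⟩ : M2) - 1) * ((s ⟨x', hxK⟩ : M2) - 1) = 0 := sq_eq_zero (nilp_of_pow (p := p) (by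
    rw [hsval, ← C.coe_phO, ← Units.val_pow_eq_pow_val, ← map_pow, hx'p, map_one, Units.val_one]))
  have htop : s.range = ⊤ := by
    by_cases hm : ((s ⟨x', hxK⟩ : M2) - 1) * (C.phO ⟨C.y, C.y_mem_CJ⟩ : M2) * ((s ⟨x', hxK⟩ : M2) - 1) = 0
    · refine top_of_unipotent hF ⟨_, rfl⟩ hN (hnorm _ hSK) fun h2 => h1 (Subtype.ext ?_)
      rw [C.coe_phO, C.psiO_y] at hm
      rw [C.coe_phO] at h2
      obtain ⟨s01, s10⟩ := C.psiO_S_off
      have hy : C.ω - C.ω ^ 4 ≠ 0 := by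
        rw [← C.ch_four, ← C.ch_one]
        exact sub_ne_zero.2 fun e => absurd (C.ch_inj e) (by decide)
      generalize psiO (C.S : M5) = S2 at h2 s01 s10
      generalize hNdef : (s ⟨x', hxK⟩ : M2) - 1 = N at hN hm h2
      have a00 := congrFun (congrFun hN 0) 0
      have a11 := congrFun (congrFun hN 1) 1
      have b00 := congrFun (congrFun hm 0) 0
      have c01 := congrFun (congrFun h2 0) 1
      have c10 := congrFun (congrFun h2 1) 0
      simp [Matrix.mul_apply, Fin.sum_univ_two, Matrix.vecMul, dotProduct] at a00 a11 b00 c01 c10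
      have e00 : N 0 0 = 0 := mul_self_eq_zero.1 ((mul_eq_zero.1
        (show (C.ω - C.ω ^ 4) * (N 0 0 * N 0 0) = 0 by linear_combination b00 - C.ω ^ 4 * a00)).resolve_left hy)
      rw [e00] at a00 c01 c10
      have e11 : N 1 1 = 0 := mul_self_eq_zero.1 (by linear_combination a11 - a00)
      rw [e11] at c01 c10
      have e01 : N 0 1 = 0 := mul_self_eq_zero.1 ((mul_eq_zero.1
        (show S2 1 0 * (N 0 1 * N 0 1) = 0 by linear_combination c01)).resolve_left s10)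
      have e10 : N 1 0 = 0 := mul_self_eq_zero.1 ((mul_eq_zero.1
        (show S2 0 1 * (N 1 0 * N 1 0) = 0 by linear_combination c10)).resolve_left s01)
      have : N = 0 := Matrix.ext fun i j => by fin_cases i <;> fin_cases j <;> assumption
      rw [Matrix.SpecialLinearGroup.coe_one, ← sub_eq_zero, hNdef, this]
    · exact top_of_unipotent hF ⟨_, rfl⟩ hN (hnorm _ hyK) hm
  -- the preimage of the upper unitriangular group
  have uu_pow : ∀ (t : F) (n : ℕ), (uu t : SL2) ^ n = uu ((n : F) * t) := fun t n => by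
    induction n with
    | zero => simp [H88.uu_zero]
    | succ n ih => rw [pow_succ, ih, ← H88.uu_add]; push_cast; ring_nf
  set B : Subgroup G5 := (((Subgroup.zpowers (uu (1 : F))).comap s).map K.subtype).map C.CJ.subtype with hB
  obtain ⟨b1, hb1⟩ := MonoidHom.range_eq_top.1 htop (uu 1)
  have hu1 : orderOf (uu (1 : F) : SL2) = p := orderOf_eq_prime
    (by rw [uu_pow, CharP.cast_eq_zero, zero_mul, H88.uu_zero])
    fun e => one_ne_zero (α := F) (by simpa using congrArg (fun a : SL2 => (a : M2) 0 1) e)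
  refine hno (big_of_invariant hF hp5 hX ?_ ?_ ?_ ?_ ?_ (B := B))
  · rintro _ ⟨_, ⟨a, -, rfl⟩, rfl⟩
    exact (hmemK.1 a.2).1
  · rintro _ ⟨_, ⟨a, -, rfl⟩, rfl⟩
    exact (a : C.CJ).2
  · rintro _ ⟨_, ⟨a, ha, rfl⟩, rfl⟩
    refine ⟨_, ⟨⟨_, hyK⟩ * a * ⟨_, hyK⟩⁻¹, ?_, rfl⟩, rfl⟩
    obtain ⟨n, hn⟩ := (isOfFinOrder_of_finite _).mem_powers_iff_mem_zpowers.2 (Subgroup.mem_comap.1 ha)
    beta_reduce at hn
    refine Subgroup.mem_comap.2 ?_
    have hcy : s ⟨_, hyK⟩ * uu (n : F) = uu ((n : F) * (C.ω * C.ω)) * s ⟨_, hyK⟩ := by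
      refine Subtype.ext ?_
      rw [Matrix.SpecialLinearGroup.coe_mul, Matrix.SpecialLinearGroup.coe_mul, hsval, C.psiO_y, H88.uu_coe,
        H88.uu_coe]
      ext i j
      fin_cases i <;> fin_cases j <;> simp [Matrix.mul_apply, Fin.sum_univ_two]
      linear_combination (-(n : F) * C.ω) * C.pow_five
    obtain ⟨m, hm⟩ := exists_nat hF ((n : F) * (C.ω * C.ω))
    rw [map_mul, map_mul, map_inv, ← hn, uu_pow, mul_one, mul_inv_eq_of_eq_mul hcy, ← hm, ← mul_one ((m : ℕ) : F),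
      ← uu_pow]
    exact pow_mem (Subgroup.mem_zpowers _) _
  · have hb : ((b1 : C.CJ) : G5) ∈ B :=
      ⟨_, ⟨b1, Subgroup.mem_comap.2 (hb1 ▸ Subgroup.mem_zpowers _), rfl⟩, rfl⟩
    have : p ∣ orderOf b1 := hu1 ▸ hb1 ▸ orderOf_map_dvd s b1
    rw [← Subgroup.orderOf_coe, ← Subgroup.orderOf_coe] at this
    exact this.trans (Subgroup.orderOf_dvd_natCard _ hb)
  · intro h5
    haveI : Fact (Nat.Prime 5) := ⟨by norm_num⟩
    obtain ⟨b, hb⟩ := exists_prime_orderOf_dvd_card' 5 h5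
    obtain ⟨bv, ⟨_, ⟨a, ha, rfl⟩, rfl⟩⟩ := b
    obtain ⟨n, hn⟩ := (isOfFinOrder_of_finite _).mem_powers_iff_mem_zpowers.2 (Subgroup.mem_comap.1 ha)
    have hap : s (a ^ p) = 1 := by
      rw [map_pow, ← hn, ← pow_mul, mul_comm, pow_mul, uu_pow 1 p, CharP.cast_eq_zero, zero_mul, H88.uu_zero,
        one_pow]
    have h2p : ((a : C.CJ) : G5) ^ (p * 2) = 1 := by
      rw [pow_mul]
      rcases kerO hF hp5 hX hno (pow_mem (hmemK.1 a.2).1 p) (pow_mem (a : C.CJ).2 p)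
        (Units.ext (congrArg Subtype.val hap)) with e | e
      · rw [e, one_pow]
      · rw [e, pow_two, mul_assoc, ← mul_assoc C.J, ← sc_comm, mul_assoc, C.J_mul_J, mul_one, ← sc_mul,
          neg_one_mul, neg_neg, sc_one]
    rw [← Subgroup.orderOf_coe] at hb
    have h5' : 5 ∣ p * 2 := hb ▸ orderOf_dvd_of_pow_eq_one h2p
    rcases (Nat.Prime.dvd_mul (by norm_num)).1 h5' with h | h
    · omega
    · omega

end Cfsg.Agent.H97.CFive
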