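import Cfsg.Agent.H1.HeisThree.Model

/-!
The Heisenberg group of order 125 in five dimensions and elements of its normaliser.
-/

set_option autoImplicit false

namespace Cfsg.Agent.H97.CFive

open Matrix
open Cfsg.Agent.H1.HeisThree (sc scGrp coe_sc sc_mul sc_one sc_inv sc_pow sc_comm sc_inj conj_sc_mul)

/-- A field with a primitive fifth root of unity. -/
structure Fifth (F : Type*) [Field F] where
  ω : F
  prim : IsPrimitiveRoot ω 5

variable {F : Type*} [Field F]

local notation "T5" => ZMod 5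
local notation "V" => ZMod 5 × ZMod 5
local notation "M5" => Matrix (ZMod 5) (ZMod 5) F
local notation "G5" => GL (ZMod 5) F

theorem sum5 {M : Type*} [AddCommMonoid M] (f : T5 → M) : ∑ i, f i = f 0 + f 1 + f 2 + f 3 + f 4 := by
  rw [show (Finset.univ : Finset T5) = {0, 1, 2, 3, 4} by decide, Finset.sum_insert (by decide),
    Finset.sum_insert (by decide), Finset.sum_insert (by decide), Finset.sum_insert (by decide),
    Finset.sum_singleton]
  simp only [add_assoc]

theorem t5_cases : ∀ i : T5, i = 0 ∨ i = 1 ∨ i = 2 ∨ i = 3 ∨ i = 4 := by decide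

namespace Fifth

variable (C : Fifth F)

theorem geom : C.ω ^ 4 + C.ω ^ 3 + C.ω ^ 2 + C.ω + 1 = 0 := by
  have := C.prim.geom_sum_eq_zero (by norm_num : 1 < 5)
  simp only [Finset.sum_range_succ, Finset.sum_range_zero, pow_zero, pow_one, zero_add] at this
  linear_combination this

theorem pow_five : C.ω ^ 5 = 1 := C.prim.pow_eq_one

theorem ne_zero : C.ω ≠ 0 := C.prim.ne_zero (by norm_num)

theorem ne_one : C.ω ≠ 1 := C.prim.ne_one (by norm_num)

/-- The character of the integers modulo five. -/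
def ch (i : T5) : F := C.ω ^ i.val

theorem ch_zero : C.ch 0 = 1 := pow_zero _
theorem ch_one : C.ch 1 = C.ω := pow_one _
theorem ch_two : C.ch 2 = C.ω ^ 2 := rfl
theorem ch_three : C.ch 3 = C.ω ^ 3 := rfl
theorem ch_four : C.ch 4 = C.ω ^ 4 := rfl

theorem ch_add (i j : T5) : C.ch (i + j) = C.ch i * C.ch j := by
  rw [ch, ch, ch, ← pow_add, ZMod.val_add, ← pow_eq_pow_mod _ C.pow_five]

theorem ch_mul_neg (i : T5) : C.ch i * C.ch (-i) = 1 := by rw [← C.ch_add, add_neg_cancel, C.ch_zero]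

theorem ch_ne_zero (i : T5) : C.ch i ≠ 0 := pow_ne_zero _ C.ne_zero

theorem ch_eq_one {i : T5} (h : C.ch i = 1) : i = 0 := by
  rw [ch, C.prim.pow_eq_one_iff_dvd] at h
  have h' := i.val_lt
  exact (ZMod.val_eq_zero i).1 (Nat.eq_zero_of_dvd_of_lt h h')

theorem ch_inj {i j : T5} (h : C.ch i = C.ch j) : i = j := by
  have : C.ch (i + -j) = 1 := by rw [C.ch_add, h, C.ch_mul_neg]
  exact add_neg_eq_zero.1 (C.ch_eq_one this)

theorem ch_pow (i : T5) (n : ℕ) : C.ch i ^ n = C.ch (n * i) := by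
  induction n with
  | zero => simp [C.ch_zero]
  | succ n ih => rw [pow_succ, ih, ← C.ch_add]; push_cast; ring_nf

theorem five_ne_zero (C : Fifth F) : (5 : F) ≠ 0 := fun h => by
  have h4 : (C.ω - 1) ^ 4 = 0 := by
    linear_combination C.geom - (C.ω ^ 3 - C.ω ^ 2 + C.ω) * h
  exact C.ne_one (sub_eq_zero.1 (eq_zero_of_pow_eq_zero h4))

theorem sum_ch_mul (k : T5) : ∑ j, C.ch (j * k) = if k = 0 then (5 : F) else 0 := by
  rcases eq_or_ne k 0 with rfl | hk
  · simp [C.ch_zero]
  rw [if_neg hk]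
  have h : C.ch k * ∑ j, C.ch (j * k) = ∑ j, C.ch (j * k) := by
    rw [Finset.mul_sum]
    refine Fintype.sum_equiv (Equiv.addLeft 1) _ _ fun j => ?_
    rw [← C.ch_add, Equiv.coe_addLeft]
    ring_nf
  have h' : (C.ch k - 1) * ∑ j, C.ch (j * k) = 0 := by linear_combination h
  exact (mul_eq_zero.1 h').resolve_left (sub_ne_zero.2 fun e => hk (C.ch_eq_one e))

/-- The square root of five. -/
def root : F := C.ω - C.ω ^ 2 - C.ω ^ 3 + C.ω ^ 4

theorem root_sq : C.root * C.root = 5 := by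
  rw [root]
  linear_combination (-1 : F) * C.geom + (C.ω ^ 3 - 2 * C.ω ^ 2 - C.ω + 4) * C.pow_five

theorem root_ne_zero : C.root ≠ 0 := fun h => C.five_ne_zero (by rw [← C.root_sq, h, mul_zero])

/-- The matrix `X^a Z^b`. -/
def wMat (v : V) : M5 := Matrix.of fun i j => if i = j + v.1 then C.ch (v.2 * j) else 0

theorem wMat_apply (v : V) (i j : T5) : C.wMat v i j = if i = j + v.1 then C.ch (v.2 * j) else 0 := rfl

theorem wMat_mul (u v : V) : C.wMat u * C.wMat v = C.ch (u.2 * v.1) • C.wMat (u + v) := by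
  ext i k
  rw [Matrix.mul_apply, Finset.sum_eq_single (k + v.1)]
  · simp only [wMat_apply, Matrix.smul_apply, smul_eq_mul, Prod.fst_add, Prod.snd_add]
    rw [show k + (u.1 + v.1) = k + v.1 + u.1 by ring]
    split_ifs with h
    · rw [← C.ch_add, ← C.ch_add]
      congr 1
      ring
    · simp
  · intro j _ hj
    simp [wMat_apply, hj]
  · simp

theorem wMat_zero : C.wMat 0 = 1 := by
  ext i j
  simp [wMat_apply, Matrix.one_apply, C.ch_zero]

/-- The element `X^a Z^b`. -/
def W (v : V) : G5 where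
  val := C.wMat v
  inv := C.ch (v.2 * v.1) • C.wMat (-v)
  val_inv := by
    rw [Matrix.mul_smul, C.wMat_mul, add_neg_cancel, C.wMat_zero, smul_smul, Prod.fst_neg, mul_neg,
      C.ch_mul_neg, one_smul]
  inv_val := by
    rw [Matrix.smul_mul, C.wMat_mul, neg_add_cancel, C.wMat_zero, smul_smul, Prod.snd_neg, neg_mul,
      C.ch_mul_neg, one_smul]

theorem coe_W (v : V) : (C.W v : M5) = C.wMat v := rfl

theorem W_mul (u v : V) :
    C.W u * C.W v = sc (Units.mk0 _ (C.ch_ne_zero (u.2 * v.1))) * C.W (u + v) := by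
  apply Units.ext
  rw [Units.val_mul, Units.val_mul, coe_sc, Units.val_mk0, coe_W, coe_W, C.wMat_mul, Matrix.smul_mul, one_mul,
    coe_W]

theorem W_zero : C.W 0 = 1 := Units.ext C.wMat_zero

theorem sc_W_inj {c d : Fˣ} {u v : V} (h : sc c * C.W u = sc d * C.W v) : c = d ∧ u = v := by
  have h' : (c : F) • C.wMat u = (d : F) • C.wMat v := by
    simpa [Units.val_mul, coe_sc, coe_W] using congrArg (fun g : G5 => (g : M5)) h
  have key : ∀ j : T5, (c : F) * C.ch (u.2 * j) = if u.1 = v.1 then (d : F) * C.ch (v.2 * j) else 0 := by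
    intro j
    have := congrFun (congrFun h' (j + u.1)) j
    simpa [wMat_apply] using this
  have h1 : u.1 = v.1 := by
    by_contra hne
    have := key 0
    rw [if_neg hne] at this
    exact mul_ne_zero c.ne_zero (C.ch_ne_zero _) this
  simp only [if_pos h1] at key
  have hcd : c = d := Units.ext (by simpa [C.ch_zero] using key 0)
  subst hcd
  refine ⟨rfl, Prod.ext h1 ?_⟩
  have := key 1
  simp only [mul_one] at this
  exact C.ch_inj (mul_left_cancel₀ c.ne_zero this)

theorem W_five (v : V) : C.W v ^ 5 = 1 := by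
  have e : ∀ n : ℕ, ∃ c : Fˣ, C.W v ^ n = sc c * C.W ((n : T5) • v) ∧ (c : F) = C.ch ((n.choose 2 : T5) * (v.2 * v.1)) := by
    intro n
    induction n with
    | zero => exact ⟨1, by rw [pow_zero, Nat.cast_zero, zero_smul, C.W_zero, sc_one, one_mul], by simp [C.ch_zero]⟩
    | succ n ih =>
      obtain ⟨c, hc, hc'⟩ := ih
      refine ⟨c * Units.mk0 _ (C.ch_ne_zero ((n : T5) * (v.2 * v.1))), ?_, ?_⟩
      · rw [pow_succ, hc, mul_assoc, C.W_mul, sc_mul, ← mul_assoc]
        congr 3
        · exact Units.ext (by simp [mul_assoc])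
        · rw [Nat.cast_succ, add_smul, one_smul]
      · rw [Units.val_mul, Units.val_mk0, hc', ← C.ch_add, Nat.choose_succ_succ', Nat.choose_one_right]
        push_cast
        ring_nf
  obtain ⟨c, hc, hc'⟩ := e 5
  rw [show ((5 : ℕ) : T5) = 0 from rfl, zero_smul, C.W_zero, mul_one] at hc
  rw [hc]
  have : c = 1 := Units.ext (by
    rw [hc', show (((5 : ℕ).choose 2 : ℕ) : T5) = 0 from by decide, zero_mul, C.ch_zero, Units.val_one])
  rw [this, sc_one]

/-- Diagonal elements. -/
def dg (f : T5 → T5) : G5 where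
  val := Matrix.diagonal fun i => C.ch (f i)
  inv := Matrix.diagonal fun i => C.ch (-f i)
  val_inv := by simp [Matrix.diagonal_mul_diagonal, C.ch_mul_neg, Matrix.diagonal_one]
  inv_val := by simp [Matrix.diagonal_mul_diagonal, mul_comm (C.ch (-_)), C.ch_mul_neg, Matrix.diagonal_one]

theorem coe_dg (f : T5 → T5) : (C.dg f : M5) = Matrix.diagonal fun i => C.ch (f i) := rfl

theorem dg_inv (f : T5 → T5) : ((C.dg f)⁻¹ : G5) = C.dg fun i => -f i :=
  inv_eq_of_mul_eq_one_right (Units.ext (by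
    simp [coe_dg, Matrix.diagonal_mul_diagonal, C.ch_mul_neg, Matrix.diagonal_one]))

theorem dg_mul (f g : T5 → T5) : C.dg f * C.dg g = C.dg fun i => f i + g i :=
  Units.ext (by simp [coe_dg, Matrix.diagonal_mul_diagonal, C.ch_add])

theorem dg_conj_apply (f : T5 → T5) (g : G5) (i j : T5) :
    ((C.dg f * g * (C.dg f)⁻¹ : G5) : M5) i j = C.ch (f i - f j) * (g : M5) i j := by
  rw [dg_inv, Units.val_mul, Units.val_mul, coe_dg, coe_dg, Matrix.mul_diagonal, Matrix.diagonal_mul,
    sub_eq_add_neg, C.ch_add]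
  ring

/-- The diagonal element of the Heisenberg group. -/
def D : G5 := C.W (0, 1)

theorem D_eq : C.D = C.dg fun i => i := by
  refine Units.ext (Matrix.ext fun i j => ?_)
  rw [D, coe_W, wMat_apply, coe_dg, Matrix.diagonal_apply, add_zero, one_mul]
  split_ifs with h <;> simp [h]

/-- The quadratic diagonal element. -/
def y : G5 := C.dg fun i => i * i

theorem y_five : C.y ^ 5 = 1 := by
  refine Units.ext ?_
  rw [Units.val_pow_eq_pow_val, y, coe_dg, Matrix.diagonal_pow, Units.val_one, ← Matrix.diagonal_one]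
  congr 1
  funext i
  rw [Pi.pow_apply, C.ch_pow, show ((5 : ℕ) : T5) = 0 from rfl, zero_mul, C.ch_zero]

/-- The Fourier element. -/
def S : G5 where
  val := Matrix.of fun i j => C.root⁻¹ * C.ch (i * j)
  inv := Matrix.of fun i j => C.root⁻¹ * C.ch (-(i * j))
  val_inv := by
    ext i k
    rw [Matrix.mul_apply]
    simp only [Matrix.of_apply]
    rw [Finset.sum_congr rfl fun j _ => show C.root⁻¹ * C.ch (i * j) * (C.root⁻¹ * C.ch (-(j * k)))
      = (C.root * C.root)⁻¹ * C.ch (j * (i - k)) by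
        rw [show j * (i - k) = i * j + -(j * k) by ring, C.ch_add, mul_inv]; ring,
      ← Finset.mul_sum, C.sum_ch_mul, Matrix.one_apply, C.root_sq]
    by_cases h : i = k
    · rw [if_pos (sub_eq_zero.2 h), if_pos h, inv_mul_cancel₀ C.five_ne_zero]
    · rw [if_neg (sub_ne_zero.2 h), if_neg h, mul_zero]
  inv_val := by
    ext i k
    rw [Matrix.mul_apply]
    simp only [Matrix.of_apply]
    rw [Finset.sum_congr rfl fun j _ => show C.root⁻¹ * C.ch (-(i * j)) * (C.root⁻¹ * C.ch (j * k))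
      = (C.root * C.root)⁻¹ * C.ch (j * (k - i)) by
        rw [show j * (k - i) = -(i * j) + j * k by ring, C.ch_add, mul_inv]; ring,
      ← Finset.mul_sum, C.sum_ch_mul, Matrix.one_apply, C.root_sq]
    by_cases h : i = k
    · rw [if_pos (sub_eq_zero.2 h.symm), if_pos h, inv_mul_cancel₀ C.five_ne_zero]
    · rw [if_neg (sub_ne_zero.2 (Ne.symm h)), if_neg h, mul_zero]

theorem coe_S (i j : T5) : (C.S : M5) i j = C.root⁻¹ * C.ch (i * j) := rfl

/-- The reversal of the coordinates. -/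
def J (_C : Fifth F) : G5 where
  val := Matrix.of fun i j => if i = -j then 1 else 0
  inv := Matrix.of fun i j => if i = -j then 1 else 0
  val_inv := by
    ext i k
    rw [Matrix.mul_apply, Finset.sum_eq_single (-k)]
    · by_cases h : i = k <;> simp [Matrix.one_apply, h]
    · intro j _ hj; simp [hj]
    · simp
  inv_val := by
    ext i k
    rw [Matrix.mul_apply, Finset.sum_eq_single (-k)]
    · by_cases h : i = k <;> simp [Matrix.one_apply, h]
    · intro j _ hj; simp [hj]
    · simp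

theorem coe_J (i j : T5) : (C.J : M5) i j = if i = -j then 1 else 0 := rfl

theorem J_mul_J : C.J * C.J = 1 := Units.ext C.J.val_inv

theorem J_inv : C.J⁻¹ = C.J := inv_eq_of_mul_eq_one_right C.J_mul_J

theorem J_conj_apply (g : G5) (i j : T5) : ((C.J * g * C.J : G5) : M5) i j = (g : M5) (-i) (-j) := by
  rw [Units.val_mul, Units.val_mul, Matrix.mul_apply, Finset.sum_eq_single (-j)]
  · rw [Matrix.mul_apply, Finset.sum_eq_single (-i)]
    · simp [coe_J]
    · intro k _ hk
      rw [coe_J, if_neg, zero_mul]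
      exact fun e => hk (by rw [e, neg_neg])
    · simp
  · intro k _ hk
    rw [coe_J, if_neg hk, mul_zero]
  · simp

theorem commute_J_iff {g : G5} : g * C.J = C.J * g ↔ ∀ i j, (g : M5) (-i) (-j) = (g : M5) i j := by
  constructor
  · intro h i j
    rw [← C.J_conj_apply, ← h, mul_assoc, C.J_mul_J, mul_one]
  · intro h
    have : C.J * g * C.J = g := Units.ext (Matrix.ext fun i j => by rw [C.J_conj_apply, h])
    conv_lhs => rw [← this]
    rw [mul_assoc, C.J_mul_J, mul_one]

theorem S_mul_S : C.S * C.S = C.J := by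
  apply Units.ext
  ext i k
  rw [Units.val_mul, Matrix.mul_apply, Finset.sum_congr rfl fun j _ => show (C.S : M5) i j * (C.S : M5) j k
      = (C.root * C.root)⁻¹ * C.ch (j * (i + k)) by
        rw [coe_S, coe_S, show j * (i + k) = i * j + j * k by ring, C.ch_add, mul_inv]; ring,
    ← Finset.mul_sum, C.sum_ch_mul, C.root_sq]
  rw [coe_J]
  by_cases h : i = -k
  · rw [if_pos (by rw [h, neg_add_cancel]), if_pos h, inv_mul_cancel₀ C.five_ne_zero]
  · rw [if_neg (fun e => h (eq_neg_of_add_eq_zero_left e)), if_neg h, mul_zero]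

theorem y_J : C.y * C.J = C.J * C.y := by
  rw [C.commute_J_iff]
  intro i j
  simp [y, coe_dg, Matrix.diagonal_apply]

theorem S_J : C.S * C.J = C.J * C.S := by rw [← C.S_mul_S, mul_assoc]

theorem J_W (v : V) : C.J * C.W v = C.W (-v) * C.J := by
  have h : C.J * C.W v * C.J = C.W (-v) := Units.ext (Matrix.ext fun i j => by
    rw [C.J_conj_apply, coe_W, coe_W, wMat_apply, wMat_apply, Prod.fst_neg, Prod.snd_neg, neg_mul, mul_neg]
    exact if_congr ⟨fun e => by linear_combination -e, fun e => by linear_combination -e⟩ rfl rfl)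
  rw [← h, mul_assoc, C.J_mul_J, mul_one]

theorem S_W (v : V) :
    C.S * C.W v = sc (Units.mk0 _ (C.ch_ne_zero (-(v.1 * v.2)))) * C.W (-v.2, v.1) * C.S := by
  apply Units.ext
  ext i k
  rw [Units.val_mul, Units.val_mul, Units.val_mul, coe_sc, Units.val_mk0, Matrix.smul_mul, one_mul,
    Matrix.mul_apply, Matrix.smul_mul, Matrix.smul_apply, Matrix.mul_apply,
    Finset.sum_eq_single (k + v.1) (fun j _ hj => ?_) (by simp),
    Finset.sum_eq_single (i + v.2) (fun j _ hj => ?_) (by simp)]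
  · simp only [coe_W, wMat_apply, coe_S, smul_eq_mul, add_neg_cancel_right, if_true]
    calc C.root⁻¹ * C.ch (i * (k + v.1)) * C.ch (v.2 * k) = C.root⁻¹ * C.ch (i * (k + v.1) + v.2 * k) := by
          rw [C.ch_add]; ring
      _ = C.root⁻¹ * C.ch (-(v.1 * v.2) + (v.1 * (i + v.2) + (i + v.2) * k)) := by
          congr 2; ring
      _ = _ := by rw [C.ch_add, C.ch_add]; ring
  · have : i ≠ j + -v.2 := fun e => hj (by rw [e, neg_add_cancel_right])
    simp [coe_W, wMat_apply, this]
  · simp [coe_W, wMat_apply, hj]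

theorem y_W (v : V) :
    C.y * C.W v = sc (Units.mk0 _ (C.ch_ne_zero (v.1 * v.1))) * C.W (v.1, v.2 + 2 * v.1) * C.y := by
  apply Units.ext
  ext i k
  simp only [Units.val_mul, coe_sc, Units.val_mk0, Matrix.smul_mul, one_mul, Matrix.smul_apply,
    smul_eq_mul, y, coe_dg, Matrix.diagonal_mul, Matrix.mul_diagonal, coe_W, wMat_apply]
  by_cases h : i = k + v.1
  · rw [if_pos h, if_pos h]
    subst h
    simp only [← C.ch_add]
    congr 1
    ring
  · simp [h]

/-- The element lies in the scalar multiples of the Heisenberg group. -/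
def InR (g : G5) : Prop := ∃ (c : Fˣ) (v : V), g = sc c * C.W v

/-- Conjugation by `g` induces `σ` on the Heisenberg group modulo scalars. -/
def Lift (g : G5) (σ : V → V) : Prop := ∀ v, ∃ c : Fˣ, g * C.W v * g⁻¹ = sc c * C.W (σ v)

/-- The normaliser of the Heisenberg group times scalars. -/
def NZ : Subgroup G5 where
  carrier := {g | ∃ σ : V ≃ V, C.Lift g σ}
  one_mem' := ⟨Equiv.refl _, fun v => ⟨1, by simp [sc_one]⟩⟩
  mul_mem' := fun {g h} => by
    rintro ⟨σ, hσ⟩ ⟨τ, hτ⟩
    refine ⟨τ.trans σ, fun v => ?_⟩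
    obtain ⟨c, hc⟩ := hτ v
    obtain ⟨d, hd⟩ := hσ (τ v)
    exact ⟨c * d, by
      rw [show g * h * C.W v * (g * h)⁻¹ = g * (h * C.W v * h⁻¹) * g⁻¹ by group, hc, conj_sc_mul, hd,
        ← mul_assoc, ← sc_mul]; rfl⟩
  inv_mem' := fun {g} => by
    rintro ⟨σ, hσ⟩
    refine ⟨σ.symm, fun v => ?_⟩
    obtain ⟨c, hc⟩ := hσ (σ.symm v)
    refine ⟨c⁻¹, ?_⟩
    rw [σ.apply_symm_apply] at hc
    rw [sc_inv, eq_inv_mul_iff_mul_eq, ← conj_sc_mul, ← hc]
    group

theorem lift_injective {g : G5} {σ : V → V} (h : C.Lift g σ) : Function.Injective σ := by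
  intro u v e
  obtain ⟨c, hc⟩ := h u
  obtain ⟨d, hd⟩ := h v
  have : g * (sc d * C.W u) * g⁻¹ = g * (sc c * C.W v) * g⁻¹ := by
    rw [conj_sc_mul, conj_sc_mul, hc, hd, e, ← mul_assoc, ← mul_assoc, ← sc_mul, ← sc_mul, mul_comm c]
  exact (C.sc_W_inj (mul_left_cancel (mul_right_cancel this))).2

theorem mem_NZ_of_conj {g : G5} (h : ∀ v, C.InR (g * C.W v * g⁻¹)) : g ∈ C.NZ := by
  choose c σ hσ using h
  have hl : C.Lift g σ := fun v => ⟨c v, hσ v⟩
  exact ⟨Equiv.ofBijective σ (Finite.injective_iff_bijective.1 (C.lift_injective hl)), hl⟩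

theorem sc_mem_NZ (c : Fˣ) : sc c ∈ C.NZ :=
  C.mem_NZ_of_conj fun v => ⟨1, v, by rw [sc_comm, mul_inv_cancel_right, sc_one, one_mul]⟩

theorem W_conj (u v : V) :
    ∃ c : Fˣ, C.W u * C.W v * (C.W u)⁻¹ = sc c * C.W v ∧ (c : F) = C.ch (u.2 * v.1 - v.2 * u.1) := by
  refine ⟨Units.mk0 _ (C.ch_ne_zero _), ?_, rfl⟩
  rw [mul_inv_eq_iff_eq_mul, mul_assoc, C.W_mul, C.W_mul, ← mul_assoc, ← sc_mul, add_comm v u]
  congr 2
  apply Units.ext
  simp only [Units.val_mul, Units.val_mk0, ← C.ch_add, sub_add_cancel]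

theorem W_mem_NZ (u : V) : C.W u ∈ C.NZ := C.mem_NZ_of_conj fun v => by
  obtain ⟨c, hc, -⟩ := C.W_conj u v
  exact ⟨c, v, hc⟩

theorem J_mem_NZ : C.J ∈ C.NZ := C.mem_NZ_of_conj fun v =>
  ⟨1, -v, by rw [C.J_W, mul_inv_cancel_right, sc_one, one_mul]⟩

theorem S_mem_NZ : C.S ∈ C.NZ := C.mem_NZ_of_conj fun v =>
  ⟨_, _, by rw [C.S_W, mul_inv_cancel_right]⟩

theorem y_mem_NZ : C.y ∈ C.NZ := C.mem_NZ_of_conj fun v =>
  ⟨_, _, by rw [C.y_W, mul_inv_cancel_right]⟩

/-- An element centralising the Heisenberg group modulo scalars is in it. -/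
theorem inR_of_fix {g : G5} (h : C.Lift g id) : C.InR g := by
  have key : ∀ v, ∃ c : Fˣ, g * C.W v * g⁻¹ = sc c * C.W v ∧ ∃ k : T5, (c : F) = C.ch k := by
    intro v
    obtain ⟨c, hc⟩ := h v
    refine ⟨c, hc, ?_⟩
    have h3 := congrArg (· ^ 5) hc
    simp only [id, conj_pow, C.W_five, (show Commute (sc c) (C.W v) from sc_comm c _).mul_pow, sc_pow,
      mul_one, mul_inv_cancel] at h3
    have hc3 : (c : F) ^ 5 = 1 := by
      rw [← Units.val_pow_eq_pow_val, sc_inj (h3.symm.trans sc_one.symm), Units.val_one]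
    obtain ⟨i, hi, hci⟩ := C.prim.eq_pow_of_pow_eq_one hc3
    exact ⟨(i : T5), by rw [ch, ZMod.val_natCast, Nat.mod_eq_of_lt hi, hci]⟩
  obtain ⟨cx, hx, k, hk⟩ := key (1, 0)
  obtain ⟨cz, hz, l, hl⟩ := key (0, 1)
  -- correct by an element of the group
  set u : V := (-l, k) with hu
  set g' := (C.W u)⁻¹ * g with hg'
  have fix : ∀ v (c : Fˣ), g * C.W v * g⁻¹ = sc c * C.W v → (c : F) = C.ch (u.2 * v.1 - v.2 * u.1) →
      g' * C.W v = C.W v * g' := by
    intro v c hc hc'
    obtain ⟨d, hd, hd'⟩ := C.W_conj u v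
    have : d = c := Units.ext (hd'.trans hc'.symm)
    subst this
    have h1 : g * C.W v * g⁻¹ = C.W u * C.W v * (C.W u)⁻¹ := hc.trans hd.symm
    calc g' * C.W v = (C.W u)⁻¹ * (g * C.W v * g⁻¹) * g := by rw [hg']; group
      _ = C.W v * g' := by rw [h1, hg']; group
  have fx := fix _ cx hx (by rw [hk, hu]; congr 1; ring)
  have fz := fix _ cz hz (by rw [hl, hu]; congr 1; ring)
  have e1 : ∀ i j, (g' : M5) i (j + 1) = (g' : M5) (i - 1) j := by
    intro i j
    have := congrArg (fun M : G5 => (M : M5) i j) fx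
    simp only [Units.val_mul, coe_W, Matrix.mul_apply, wMat_apply, zero_mul, C.ch_zero, mul_ite, ite_mul,
      mul_one, one_mul, mul_zero, Finset.sum_ite_eq', Finset.mem_univ, if_true] at this
    rw [this, Finset.sum_eq_single (i - 1)]
    · simp
    · intro m _ hm
      rw [if_neg]; exact fun e => hm (by rw [e, add_sub_cancel_right])
    · simp
  have e2 : ∀ i j, i ≠ j → (g' : M5) i j = 0 := by
    intro i j hij
    have := congrArg (fun M : G5 => (M : M5) i j) fz
    simp only [Units.val_mul, coe_W, Matrix.mul_apply, wMat_apply, add_zero, one_mul, mul_ite, ite_mul,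
      zero_mul, mul_zero, Finset.sum_ite_eq, Finset.sum_ite_eq', Finset.mem_univ, if_true] at this
    have h' : (g' : M5) i j * (C.ch j - C.ch i) = 0 := by linear_combination this
    exact (mul_eq_zero.1 h').resolve_right (sub_ne_zero.2 fun e => hij (C.ch_inj e).symm)
  have hd : ∀ i, (g' : M5) i i = (g' : M5) 0 0 := by
    have hstep : ∀ j : T5, (g' : M5) (j + 1) (j + 1) = (g' : M5) j j := fun j => by
      rw [e1, add_sub_cancel_right]
    intro i
    obtain rfl | rfl | rfl | rfl | rfl := t5_cases i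
    · rfl
    · exact hstep 0
    · exact (hstep 1).trans (hstep 0)
    · exact (hstep 2).trans ((hstep 1).trans (hstep 0))
    · exact (hstep 3).trans ((hstep 2).trans ((hstep 1).trans (hstep 0)))
  have hne : (g' : M5) 0 0 ≠ 0 := by
    intro h0
    have : (g' : M5) = 0 := by
      ext i j
      by_cases hij : i = j
      · subst hij; rw [hd, h0]; rfl
      · exact e2 i j hij
    exact g'.ne_zero this
  refine ⟨Units.mk0 _ hne, u, ?_⟩
  have : g' = sc (Units.mk0 _ hne) := by
    apply Units.ext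
    ext i j
    rw [coe_sc]
    by_cases hij : i = j
    · subst hij; simp [hd]
    · simp [e2 i j hij, hij]
  rw [sc_comm, ← this, hg', mul_inv_cancel_left]

theorem inR_mem_NZ {g : G5} (h : C.InR g) : g ∈ C.NZ := by
  obtain ⟨c, v, rfl⟩ := h
  exact mul_mem (C.sc_mem_NZ c) (C.W_mem_NZ v)

end Fifth

end Cfsg.Agent.H97.CFive
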