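import Cfsg.Agent.H88.SL2Basic
import Cfsg.Agent.H1.HeisThree.Small
import Cfsg.Agent.Linear.Simple

/-!
Facts on subgroups of the special linear group of degree two over a field of prime order.
-/

set_option autoImplicit false
set_option linter.unusedSectionVars false

namespace Cfsg.Agent.H97.CFive

open Matrix
open Cfsg.Agent.H88 (uu vv)
open scoped commutatorElement

variable {F : Type*} [Field F]

local notation "M2" => Matrix (Fin 2) (Fin 2) F
local notation "SL2" => Matrix.SpecialLinearGroup (Fin 2) F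
local notation "P2" => Matrix.ProjectiveSpecialLinearGroup (Fin 2) F

theorem sl_sq (a : SL2) : (a : M2) * (a : M2) = (a : M2).trace • (a : M2) - 1 := by
  have h := H88.sl2_det a
  ext i j
  fin_cases i <;> fin_cases j <;> simp [Matrix.mul_apply, Fin.sum_univ_two, Matrix.trace_fin_two] <;>
    first | linear_combination -h | linear_combination h | ring1

theorem scalar_cases (a : SL2) {c : F} (h : (a : M2) = c • 1) : a = 1 ∨ a = -1 := by
  have hd := a.2
  rw [h, Matrix.det_smul, Matrix.det_one, mul_one, Fintype.card_fin, pow_two] at hd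
  rcases mul_self_eq_one_iff.1 hd with rfl | rfl
  · exact .inl (Subtype.ext (by rw [h, one_smul]; rfl))
  · exact .inr (Subtype.ext (by rw [h, neg_one_smul]; rfl))

theorem coe_mem_center {a : SL2} : a ∈ Subgroup.center SL2 ↔ a = 1 ∨ a = -1 := by
  rw [Matrix.SpecialLinearGroup.mem_center_iff]
  constructor
  · rintro ⟨r, -, hr⟩
    exact scalar_cases a (c := r) (by rw [← hr, Matrix.scalar_apply, Matrix.smul_one_eq_diagonal])
  · rintro (rfl | rfl)
    · exact ⟨1, one_pow _, by simp⟩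
    · exact ⟨-1, by simp [Fintype.card_fin], by ext i k; fin_cases i <;> fin_cases k <;> simp⟩

/-- The projection to the projective group. -/
def prj : SL2 →* P2 := QuotientGroup.mk' _

theorem prj_eq_one {a : SL2} : prj a = (1 : P2) ↔ a = 1 ∨ a = -1 :=
  (QuotientGroup.eq_one_iff _).trans coe_mem_center

theorem prj_eq {a b : SL2} : prj a = (prj b : P2) ↔ a = b ∨ a = -b := by
  rw [← mul_inv_eq_one, ← map_inv, ← map_mul, prj_eq_one, mul_inv_eq_one, mul_inv_eq_iff_eq_mul, neg_one_mul]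

/-- A nilpotent element of square zero, moved by a normalising matrix, gives the whole group. -/
theorem top_of_unipotent [Fintype F] {p : ℕ} [Fact p.Prime] (hF : Fintype.card F = p) {Γ : Subgroup SL2} {u : SL2}
    (hu : u ∈ Γ) (hN : ((u : M2) - 1) * ((u : M2) - 1) = 0) {g : GL (Fin 2) F}
    (hg : ∀ a ∈ Γ, ∃ b ∈ Γ, (b : M2) = (g : M2) * (a : M2) * ((g⁻¹ : GL (Fin 2) F) : M2))
    (hmove : ((u : M2) - 1) * (g : M2) * ((u : M2) - 1) ≠ 0) : Γ = ⊤ := by
  set N := (u : M2) - 1 with hNdef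
  obtain ⟨j, hj⟩ : ∃ j, (N * (g : M2) * N) *ᵥ Pi.single j 1 ≠ 0 := by
    by_contra h
    push Not at h
    exact hmove (Matrix.ext fun i j => by simpa using congrFun (h j) i)
  set v := N *ᵥ Pi.single j 1 with hv
  set w := (g : M2) *ᵥ v with hw
  have hNv : N *ᵥ v = 0 := by rw [hv, Matrix.mulVec_mulVec, hN, Matrix.zero_mulVec]
  have hNw : N *ᵥ w ≠ 0 := fun h => hj (by
    rw [mul_assoc, ← Matrix.mulVec_mulVec, ← Matrix.mulVec_mulVec]
    exact h)
  have hv0 : v ≠ 0 := fun h => hNw (by rw [hw, h, Matrix.mulVec_zero, Matrix.mulVec_zero])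
  set P : M2 := !![v 0, w 0; v 1, w 1] with hP
  have hdet : P.det ≠ 0 := by
    intro h
    obtain ⟨x, hx0, hx⟩ := Matrix.exists_mulVec_eq_zero_iff.2 h
    have e : x 0 • v + x 1 • w = 0 := by
      rw [← hx]
      funext i
      fin_cases i <;> simp [hP, Matrix.mulVec, dotProduct, Fin.sum_univ_two] <;> ring
    have e' := congrArg (N *ᵥ ·) e
    simp only [Matrix.mulVec_add, Matrix.mulVec_smul, hNv, smul_zero, zero_add, Matrix.mulVec_zero] at e'
    have h1 := (smul_eq_zero.1 e').resolve_right hNw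
    rw [h1, zero_smul, add_zero] at e
    have h0 := (smul_eq_zero.1 e).resolve_right hv0
    exact hx0 (funext fun i => by fin_cases i <;> assumption)
  obtain ⟨Pu, hPu⟩ : ∃ Pu : GL (Fin 2) F, (Pu : M2) = P :=
    ⟨Matrix.GeneralLinearGroup.mkOfDetNeZero P hdet, rfl⟩
  let cP : SL2 →* SL2 :=
    { toFun := fun a => ⟨((Pu⁻¹ : GL (Fin 2) F) : M2) * a * (Pu : M2), by rw [Matrix.det_units_conj', a.2]⟩
      map_one' := Subtype.ext (by simp)
      map_mul' := fun a b => Subtype.ext (by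
        show ((Pu⁻¹ : GL (Fin 2) F) : M2) * ((a : M2) * (b : M2)) * (Pu : M2) =
          ((Pu⁻¹ : GL (Fin 2) F) : M2) * (a : M2) * (Pu : M2) *
            (((Pu⁻¹ : GL (Fin 2) F) : M2) * (b : M2) * (Pu : M2))
        simp only [mul_assoc, Units.mul_inv_cancel_left]) }
  have hcinj : Function.Injective cP := fun a b h => Subtype.ext
    ((Units.mul_right_inj Pu⁻¹).1 ((Units.mul_left_inj Pu).1 (congrArg Subtype.val h)))
  have hker : ∀ x, N *ᵥ x = 0 → ∃ t : F, x = t • v := by
    intro x hx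
    obtain ⟨α, β, rfl⟩ : ∃ α β : F, x = α • v + β • w := by
      refine ⟨(((Pu⁻¹ : GL (Fin 2) F) : M2) *ᵥ x) 0, (((Pu⁻¹ : GL (Fin 2) F) : M2) *ᵥ x) 1, ?_⟩
      have e : (Pu : M2) *ᵥ (((Pu⁻¹ : GL (Fin 2) F) : M2) *ᵥ x) = x := by
        rw [Matrix.mulVec_mulVec, Units.mul_inv, Matrix.one_mulVec]
      conv_lhs => rw [← e]
      rw [hPu]
      funext i
      fin_cases i <;> simp [hP, Matrix.mulVec, dotProduct, Fin.sum_univ_two] <;> ring
    rw [Matrix.mulVec_add, Matrix.mulVec_smul, Matrix.mulVec_smul, hNv, smul_zero, zero_add] at hx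
    rw [(smul_eq_zero.1 hx).resolve_right hNw, zero_smul, add_zero]
    exact ⟨α, rfl⟩
  -- the two images
  obtain ⟨t, ht⟩ := hker (N *ᵥ w) (by rw [Matrix.mulVec_mulVec, hN, Matrix.zero_mulVec])
  obtain ⟨u', hu', hu'e⟩ := hg u hu
  obtain ⟨s, hs⟩ := hker (N *ᵥ (((g⁻¹ : GL (Fin 2) F) : M2) *ᵥ v)) (by rw [Matrix.mulVec_mulVec, hN, Matrix.zero_mulVec])
  have hgw : ((g⁻¹ : GL (Fin 2) F) : M2) *ᵥ w = v := by rw [hw, Matrix.mulVec_mulVec, Units.inv_mul, Matrix.one_mulVec]
  have huv : (u : M2) *ᵥ v = v := by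
    rw [show (u : M2) = 1 + N by rw [hNdef]; abel, Matrix.add_mulVec, Matrix.one_mulVec, hNv, add_zero]
  have huw : (u : M2) *ᵥ w = w + t • v := by
    rw [show (u : M2) = 1 + N by rw [hNdef]; abel, Matrix.add_mulVec, Matrix.one_mulVec, ht]
  have hu'w : (u' : M2) *ᵥ w = w := by
    rw [hu'e, ← Matrix.mulVec_mulVec, ← Matrix.mulVec_mulVec, hgw, huv, hw]
  have hu'v : (u' : M2) *ᵥ v = v + s • w := by
    rw [hu'e, ← Matrix.mulVec_mulVec, ← Matrix.mulVec_mulVec,
      show (u : M2) = 1 + N by rw [hNdef]; abel, Matrix.add_mulVec, Matrix.one_mulVec, hs, Matrix.mulVec_add,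
      Matrix.mulVec_smul, ← hw]
    congr 1
    rw [Matrix.mulVec_mulVec, Units.mul_inv, Matrix.one_mulVec]
  have hcol : ∀ (a : SL2) (x0 x1 y0 y1 : F), (a : M2) *ᵥ v = x0 • v + x1 • w → (a : M2) *ᵥ w = y0 • v + y1 • w →
      (cP a : M2) = !![x0, y0; x1, y1] := by
    intro a x0 x1 y0 y1 e1 e2
    show ((Pu⁻¹ : GL (Fin 2) F) : M2) * (a : M2) * (Pu : M2) = _
    rw [mul_assoc, show (a : M2) * (Pu : M2) = (Pu : M2) * !![x0, y0; x1, y1] from ?_, ← mul_assoc, Units.inv_mul,
      one_mul]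
    rw [hPu]
    ext i k
    have f1 := congrFun e1 i
    have f2 := congrFun e2 i
    simp [Matrix.mulVec, dotProduct, Fin.sum_univ_two] at f1 f2
    fin_cases i <;> fin_cases k <;> simp [hP, Matrix.mul_apply, Fin.sum_univ_two] at f1 f2 ⊢
    · linear_combination f1
    · linear_combination f2
    · linear_combination f1
    · linear_combination f2
  have hcu : cP u = uu t := Subtype.ext
    ((hcol u 1 0 t 1 (by rw [huv]; simp) (by rw [huw]; simp [add_comm])).trans (H88.uu_coe t).symm)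
  have hcu' : cP u' = vv s := Subtype.ext
    ((hcol u' 1 s 0 1 (by rw [hu'v]; simp) (by rw [hu'w]; simp)).trans (H88.vv_coe s).symm)
  have ht0 : t ≠ 0 := by
    rintro rfl
    exact hNw (by rw [ht, zero_smul])
  have hs0 : s ≠ 0 := by
    rintro rfl
    have h1 : cP u' = 1 := by rw [hcu', H88.vv_zero]
    have e : u' = 1 := hcinj (h1.trans (map_one cP).symm)
    have e' : (u : M2) = 1 := by
      have := congrArg (fun z : M2 => ((g⁻¹ : GL (Fin 2) F) : M2) * z * (g : M2)) hu'e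
      simp [e, mul_assoc] at this
      exact this.symm
    exact hmove (by rw [hNdef, e', sub_self, zero_mul, zero_mul])
  haveI : CharP F p := charP_of_card_eq_prime hF
  have hall : ∀ c, uu c ∈ Γ.map cP := by
    intro c
    obtain ⟨z, hz⟩ := ((Fintype.bijective_iff_injective_and_card (ZMod.castHom dvd_rfl F)).2
      ⟨(ZMod.castHom dvd_rfl F).injective, by rw [ZMod.card, hF]⟩).2 (c / t)
    have e : ∀ n : ℕ, (uu t : SL2) ^ n = uu ((n : F) * t) := fun n => by
      induction n with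
      | zero => simp [H88.uu_zero]
      | succ n ih => rw [pow_succ, ih, ← H88.uu_add]; push_cast; ring_nf
    have hm := pow_mem (Subgroup.mem_map_of_mem cP hu) z.val
    rw [hcu, e] at hm
    rwa [show (z.val : F) = c / t by rw [← hz, ZMod.castHom_apply, ZMod.cast_eq_val],
      div_mul_cancel₀ c ht0] at hm
  have htop := H88.eq_top_of_uu hall hs0 (hcu' ▸ Subgroup.mem_map_of_mem cP hu')
  refine Subgroup.map_injective hcinj ?_
  rw [htop, Subgroup.map_top_of_surjective cP (Finite.injective_iff_surjective.1 hcinj)]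

/-- A noncentral normal subgroup is everything. -/
theorem top_of_normal [Fintype F] (hq : 4 ≤ Fintype.card F) {N : Subgroup SL2} (hN : N.Normal) {n : SL2}
    (hn : n ∈ N) (hn1 : n ≠ 1) (hn2 : n ≠ -1) : N = ⊤ := by
  have hq' : 4 ≤ Nat.card F := by rwa [Nat.card_eq_fintype_card]
  haveI : IsSimpleGroup P2 := Linear.isSimpleGroup_PSL_fin le_rfl fun _ => hq'
  rcases Subgroup.Normal.eq_bot_or_eq_top (hN.map prj (QuotientGroup.mk'_surjective _)) with h | h
  · exfalso
    rcases prj_eq_one.1 (Subgroup.mem_bot.1 (h ▸ Subgroup.mem_map_of_mem prj hn)) with e | e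
    exacts [hn1 e, hn2 e]
  · rw [eq_top_iff, ← Linear.commutator_SL_eq_top_of_card (Or.inr hq'), commutator_def, Subgroup.commutator_le]
    intro a _ b _
    obtain ⟨a', ha, ea⟩ := Subgroup.mem_map.1 (h.symm ▸ Subgroup.mem_top (prj a) : prj a ∈ N.map prj)
    obtain ⟨b', hb, eb⟩ := Subgroup.mem_map.1 (h.symm ▸ Subgroup.mem_top (prj b) : prj b ∈ N.map prj)
    have neg_inv' : ∀ x : SL2, (-x)⁻¹ = -x⁻¹ := fun x =>
      inv_eq_of_mul_eq_one_right (by rw [neg_mul_neg, mul_inv_cancel])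
    have keyL : ∀ x y : SL2, ⁅-x, y⁆ = ⁅x, y⁆ := fun x y => by
      simp [commutatorElement_def, neg_inv']
    have keyR : ∀ x y : SL2, ⁅x, -y⁆ = ⁅x, y⁆ := fun x y => by
      simp [commutatorElement_def, neg_inv']
    have hcm : ⁅a', b'⁆ ∈ N := by
      rw [commutatorElement_def]
      exact mul_mem (mul_mem (mul_mem ha hb) (inv_mem ha)) (inv_mem hb)
    rcases prj_eq.1 ea.symm with rfl | rfl <;> rcases prj_eq.1 eb.symm with rfl | rfl
    · exact hcm
    · rwa [keyR]
    · rwa [keyL]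
    · rwa [keyL, keyR]

/-- The facts of the alternating group of degree five for a subgroup modulo sign. -/
structure AltFive (Γ : Subgroup SL2) : Prop where
  pow_cases : ∀ a ∈ Γ, (a ^ 2 = 1 ∨ a ^ 2 = -1) ∨ (a ^ 3 = 1 ∨ a ^ 3 = -1) ∨ (a ^ 5 = 1 ∨ a ^ 5 = -1)
  cent : ∀ y ∈ Γ, ∀ a ∈ Γ, y ^ 5 = 1 → y ≠ 1 → a * y = y * a → a ^ 5 = 1 ∨ a ^ 5 = -1
  conj : ∀ y ∈ Γ, ∀ z ∈ Γ, y ^ 5 = 1 → y ≠ 1 → z ^ 5 = 1 → z ≠ 1 →
    ∃ t ∈ Γ, t * y * t⁻¹ = z ∨ t * (y * y) * t⁻¹ = z
  simple : ∀ N : Subgroup SL2, N ≤ Γ → (∀ g ∈ Γ, ∀ n ∈ N, g * n * g⁻¹ ∈ N) →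
    (∀ n ∈ N, n = 1 ∨ n = -1) ∨ ∀ g ∈ Γ, g ∈ N ∨ -g ∈ N
  gen : ∀ K : Subgroup SL2, K ≤ Γ → ∀ y ∈ K, ∀ z ∈ K, y ^ 5 = 1 → z ^ 5 = 1 → y * z ≠ z * y →
    ∀ g ∈ Γ, g ∈ K ∨ -g ∈ K

/-- Two noncommuting elements of order five generate the alternating group of degree five. -/
theorem top_of_two_five (K : Subgroup (alternatingGroup (Fin 5))) {a b : alternatingGroup (Fin 5)} (ha : a ∈ K)
    (hb : b ∈ K) (ha5 : a ^ 5 = 1) (hb5 : b ^ 5 = 1) (hab : a * b ≠ b * a) : K = ⊤ := by
  haveI : Fact (Nat.Prime 5) := ⟨by norm_num⟩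
  have h60 : Nat.card (alternatingGroup (Fin 5)) = 60 := by
    rw [nat_card_alternatingGroup, Nat.card_eq_fintype_card, Fintype.card_fin]; rfl
  have hd : Nat.card K ∣ 60 := h60 ▸ Subgroup.card_subgroup_dvd_card K
  have ha1 : (⟨a, ha⟩ : K) ≠ 1 := fun e => hab (by rw [show a = 1 from congrArg Subtype.val e, one_mul, mul_one])
  have h5 : 5 ∣ Nat.card K := by
    have := orderOf_dvd_natCard (⟨a, ha⟩ : K)
    rwa [orderOf_eq_prime (p := 5) (Subtype.ext ha5) ha1] at this
  obtain ⟨P, hP⟩ : ∃ P : Sylow 5 K, True := ⟨default, trivial⟩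
  have hcard : Nat.card (P : Subgroup K) = 5 := by
    rw [Sylow.card_eq_multiplicity]
    have hK0 : Nat.card K ≠ 0 := Nat.card_pos.ne'
    have h1 : (Nat.card K).factorization 5 ≤ 1 := by
      rw [← Nat.not_lt]
      intro h
      have : 5 ^ 2 ∣ 60 := ((Nat.Prime.pow_dvd_iff_le_factorization (by norm_num) hK0).2 h).trans hd
      omega
    have h2 := (Nat.Prime.dvd_iff_one_le_factorization (by norm_num) hK0).1 h5
    rw [show (Nat.card K).factorization 5 = 1 by omega, pow_one]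
  have hne : Nat.card (Sylow 5 K) ≠ 1 := by
    intro h1
    haveI := (Nat.card_eq_one_iff_unique.1 h1).1
    have hin : ∀ x : K, x ^ 5 = 1 → x ∈ (P : Subgroup K) := by
      intro x hx
      have hx' : IsPGroup 5 (Subgroup.zpowers x) := by
        rintro ⟨_, k, rfl⟩
        exact ⟨1, Subtype.ext (by
          show (x ^ k) ^ (5 ^ 1) = 1
          rw [pow_one, ← zpow_natCast (x ^ k) 5, ← _root_.zpow_mul, mul_comm, _root_.zpow_mul, zpow_natCast, hx,
            _root_.one_zpow])⟩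
      obtain ⟨Q, hQ⟩ := hx'.exists_le_sylow
      rw [Subsingleton.elim P Q]
      exact hQ (Subgroup.mem_zpowers x)
    haveI : IsCyclic (P : Subgroup K) := isCyclic_of_prime_card hcard
    have := (IsCyclic.commGroup (α := (P : Subgroup K))).mul_comm ⟨_, hin ⟨a, ha⟩ (Subtype.ext ha5)⟩
      ⟨_, hin ⟨b, hb⟩ (Subtype.ext hb5)⟩
    exact hab (congrArg (fun t : (P : Subgroup K) => ((t : K) : alternatingGroup (Fin 5))) this)
  have hmod : Nat.card (Sylow 5 K) % 5 = 1 := card_sylow_modEq_one 5 K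
  have hidx := P.card_dvd_index
  have hprod := (P : Subgroup K).card_mul_index
  rw [hcard] at hprod
  have hpos : 0 < Nat.card (Sylow 5 K) := Nat.card_pos
  have hi12 : (P : Subgroup K).index ∣ 12 :=
    (Nat.mul_dvd_mul_iff_left (by norm_num : 0 < 5)).1 (show 5 * (P : Subgroup K).index ∣ 5 * 12 from hprod ▸ hd)
  have hn6 : Nat.card (Sylow 5 K) = 6 := by
    have hle := Nat.le_of_dvd (by norm_num) (hidx.trans hi12)
    have h12 := hidx.trans hi12
    interval_cases Nat.card (Sylow 5 K) <;> omega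
  have h6 : 6 ∣ (P : Subgroup K).index := hn6 ▸ hidx
  have hK : K.index ≤ 2 := by
    have := K.card_mul_index
    rw [h60, ← hprod] at this
    obtain ⟨m, hm⟩ := h6
    rw [hm] at this
    rcases Nat.eq_zero_or_pos m with rfl | hm0
    · simp at this
    · nlinarith
  rcases Nat.lt_or_ge K.index 2 with h | h
  · refine Subgroup.index_eq_one.1 ?_
    have := K.index_ne_zero_of_finite
    omega
  · haveI : K.Normal := Subgroup.normal_of_index_eq_two (by omega)
    exact ((inferInstance : K.Normal).eq_bot_or_eq_top).resolve_left fun e => ha1 (Subtype.ext (Subgroup.mem_bot.1 (e ▸ ha)))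

theorem five_neg (h2 : (2 : F) ≠ 0) {a b : SL2} (ha : a ^ 5 = 1) (hb : b ^ 5 = 1) (h : a = b ∨ a = -b) : a = b := by
  rcases h with h | rfl
  · exact h
  · exfalso
    rw [(by decide : Odd 5).neg_pow, hb] at ha
    have := congrArg (fun z : SL2 => (z : M2) 0 0) ha
    simp at this
    exact h2 (by linear_combination -this)

set_option synthInstance.maxSize 4000 in
set_option synthInstance.maxHeartbeats 400000 in
set_option maxHeartbeats 1000000 in
/-- The subgroups of order prime to the characteristic. -/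
theorem cases_of_not_dvd [Fintype F] (p : ℕ) [Fact p.Prime] [CharP F p] (h2 : (2 : F) ≠ 0) (Γ : Subgroup SL2)
    (hΓ : ¬ p ∣ Nat.card Γ) :
    (∀ a ∈ Γ, ∀ b ∈ Γ, a ^ 5 = 1 → b ^ 5 = 1 → a * b = b * a) ∨ AltFive Γ := by
  set H := Γ.map prj with hHdef
  have hH : ¬ p ∣ Nat.card H := fun h => hΓ (h.trans (Subgroup.card_map_dvd _ _))
  let π : Γ →* H := prj.subgroupMap Γ
  have hπval : ∀ a : Γ, ((π a : H) : P2) = prj (a : SL2) := fun a => rfl
  have hsame : ∀ a ∈ Γ, ∀ b ∈ Γ, a ^ 5 = 1 → b ^ 5 = 1 → prj a = prj b → a = b := fun a _ b _ ha hb h =>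
    five_neg h2 ha hb (prj_eq.1 h)
  have hcomm : (∀ a b : H, a ^ 5 = 1 → b ^ 5 = 1 → a * b = b * a) →
      ∀ a ∈ Γ, ∀ b ∈ Γ, a ^ 5 = 1 → b ^ 5 = 1 → a * b = b * a := by
    intro h a ha b hb ha5 hb5
    have e := h (π ⟨a, ha⟩) (π ⟨b, hb⟩)
      (by rw [← map_pow]; exact Subtype.ext (by rw [hπval, SubmonoidClass.coe_pow, ha5, map_one]; rfl))
      (by rw [← map_pow]; exact Subtype.ext (by rw [hπval, SubmonoidClass.coe_pow, hb5, map_one]; rfl))
    rw [← map_mul, ← map_mul] at e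
    have e' : prj (a * b * a⁻¹) = prj b := by
      rw [map_mul, show prj (a * b) = prj (b * a) from congrArg Subtype.val e, ← map_mul, mul_inv_cancel_right]
    have := hsame _ (mul_mem (mul_mem ha hb) (inv_mem ha)) b hb (by rw [conj_pow, hb5, mul_one, mul_inv_cancel]) hb5 e'
    exact mul_inv_eq_iff_eq_mul.1 this
  rcases H1.HeisThree.small_of_not_dvd p H hH with ⟨A, hA, hout⟩ | ⟨⟨e⟩⟩ | ⟨⟨e⟩⟩ | ⟨⟨e⟩⟩
  · refine .inl (hcomm fun a b ha hb => ?_)
    have hin : ∀ c : H, c ^ 5 = 1 → c ∈ A := fun c hc => by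
      by_contra h
      have hsq := (hout c h).1
      have : c = 1 := by
        rw [← hc, show c ^ 5 = c * c * (c * c) * c by simp [pow_succ, mul_assoc], hsq, one_mul, one_mul]
      exact h (this ▸ A.one_mem)
    exact hA a (hin a ha) b (hin b hb)
  · refine .inl (hcomm fun a b ha hb => e.injective ?_)
    rw [map_mul, map_mul, (by decide +kernel : ∀ c : alternatingGroup (Fin 4), c ^ 5 = 1 → c = 1) (e a)
      (by rw [← map_pow, ha, map_one]), one_mul, mul_one]
  · refine .inl (hcomm fun a b ha hb => e.injective ?_)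
    rw [map_mul, map_mul, (by decide +kernel : ∀ c : Equiv.Perm (Fin 4), c ^ 5 = 1 → c = 1) (e a)
      (by rw [← map_pow, ha, map_one]), one_mul, mul_one]
  · refine .inr ?_
    have up : ∀ (a b : Γ), e (π a) = e (π b) → (a : SL2) = b ∨ (a : SL2) = -b := fun a b h =>
      prj_eq.1 (congrArg Subtype.val (e.injective h))
    have one_iff : ∀ (a : Γ), e (π a) = 1 ↔ ((a : SL2) = 1 ∨ (a : SL2) = -1) := fun a => by
      rw [← e.map_one, e.injective.eq_iff, ← prj_eq_one]
      exact ⟨fun h => congrArg Subtype.val h, fun h => Subtype.ext h⟩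
    refine ⟨fun a ha => ?_, fun y hy a ha hy5 hy1 hc => ?_, fun y hy z hz hy5 hy1 hz5 hz1 => ?_,
      fun N hN hnorm => ?_, fun K hK y hy z hz hy5 hz5 hyz g hg => ?_⟩
    · rcases (by decide +kernel : ∀ c : alternatingGroup (Fin 5), c ^ 2 = 1 ∨ c ^ 3 = 1 ∨ c ^ 5 = 1)
        (e (π ⟨a, ha⟩)) with h | h | h <;> rw [← map_pow, ← map_pow] at h
      exacts [.inl ((one_iff _).1 h), .inr (.inl ((one_iff _).1 h)), .inr (.inr ((one_iff _).1 h))]
    · have h := (by decide +kernel : ∀ y a : alternatingGroup (Fin 5), y ^ 5 = 1 → y ≠ 1 → a * y = y * a →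
        a ^ 5 = 1) (e (π ⟨y, hy⟩)) (e (π ⟨a, ha⟩)) (by rw [← map_pow, ← map_pow, one_iff]; exact .inl hy5)
        (fun h => by
          rcases (one_iff _).1 h with h | h
          · exact hy1 h
          · exact hy1 (five_neg h2 hy5 (one_pow 5) (.inr h)))
        (by rw [← map_mul, ← map_mul, ← map_mul, ← map_mul]; exact congrArg (fun t => e (π t)) (Subtype.ext hc))
      rw [← map_pow, ← map_pow, one_iff] at h
      exact h
    · obtain ⟨t, ht⟩ := (by decide +kernel : ∀ y z : alternatingGroup (Fin 5), y ^ 5 = 1 → y ≠ 1 → z ^ 5 = 1 →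
        z ≠ 1 → ∃ t, t * y * t⁻¹ = z ∨ t * (y * y) * t⁻¹ = z) (e (π ⟨y, hy⟩)) (e (π ⟨z, hz⟩))
        (by rw [← map_pow, ← map_pow, one_iff]; exact .inl hy5)
        (fun h => by
          rcases (one_iff _).1 h with h | h
          · exact hy1 h
          · exact hy1 (five_neg h2 hy5 (one_pow 5) (.inr h)))
        (by rw [← map_pow, ← map_pow, one_iff]; exact .inl hz5)
        (fun h => by
          rcases (one_iff _).1 h with h | h
          · exact hz1 h
          · exact hz1 (five_neg h2 hz5 (one_pow 5) (.inr h)))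
      obtain ⟨x, hx⟩ := e.surjective t
      obtain ⟨t0, ht0⟩ := MonoidHom.subgroupMap_surjective prj Γ x
      have hx' : e (π t0) = t := by rw [← hx, ← ht0]
      refine ⟨t0, t0.2, ht.imp (fun h => ?_) (fun h => ?_)⟩
      · rw [← hx', ← map_inv, ← map_inv, ← map_mul, ← map_mul, ← map_mul, ← map_mul] at h
        refine five_neg h2 ?_ hz5 (up _ _ h)
        rw [conj_pow, hy5, mul_one, mul_inv_cancel]
      · rw [← hx', ← map_inv, ← map_inv, ← map_mul, ← map_mul, ← map_mul, ← map_mul, ← map_mul, ← map_mul] at h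
        refine five_neg h2 ?_ hz5 (up _ _ h)
        rw [conj_pow, (Commute.refl y).mul_pow, hy5, one_mul, mul_one, mul_inv_cancel]
    · set K := ((N.subgroupOf Γ).map π).map e.toMonoidHom with hK
      have hKn : K.Normal := by
        refine Subgroup.Normal.map ?_ _ e.surjective
        refine Subgroup.Normal.map ⟨fun n hn g => ?_⟩ _ (MonoidHom.subgroupMap_surjective prj Γ)
        exact hnorm g g.2 n hn
      rcases Subgroup.Normal.eq_bot_or_eq_top hKn with h | h
      · refine .inl fun n hn => (one_iff ⟨n, hN hn⟩).1 (Subgroup.mem_bot.1 (h ▸ ?_))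
        exact Subgroup.mem_map_of_mem _ (Subgroup.mem_map_of_mem _ (show (⟨n, hN hn⟩ : Γ) ∈ N.subgroupOf Γ from hn))
      · refine .inr fun g hg => ?_
        obtain ⟨b, hb, eb⟩ := Subgroup.mem_map.1 (h.symm ▸ Subgroup.mem_top (e (π ⟨g, hg⟩)) : e (π ⟨g, hg⟩) ∈ K)
        obtain ⟨n, hn, rfl⟩ := Subgroup.mem_map.1 hb
        rcases up _ _ eb.symm with e' | e' <;> simp only at e' <;> subst e'
        · exact .inl hn
        · exact .inr (by rw [neg_neg]; exact hn)
    · set f : Γ →* alternatingGroup (Fin 5) := e.toMonoidHom.comp π with hf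
      have htop : (K.subgroupOf Γ).map f = ⊤ := by
        refine top_of_two_five _ (Subgroup.mem_map_of_mem f (show (⟨y, hK hy⟩ : Γ) ∈ K.subgroupOf Γ from hy))
          (Subgroup.mem_map_of_mem f (show (⟨z, hK hz⟩ : Γ) ∈ K.subgroupOf Γ from hz))
          (by rw [← map_pow, show (⟨y, hK hy⟩ : Γ) ^ 5 = 1 from Subtype.ext hy5, map_one])
          (by rw [← map_pow, show (⟨z, hK hz⟩ : Γ) ^ 5 = 1 from Subtype.ext hz5, map_one]) fun h => hyz ?_
        rw [← map_mul, ← map_mul] at h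
        have h5 : (y * z * y⁻¹) ^ 5 = 1 := by rw [conj_pow, hz5, mul_one, mul_inv_cancel]
        refine mul_inv_eq_iff_eq_mul.1 (five_neg h2 h5 hz5 ?_)
        rcases up _ _ h with h' | h' <;> simp only [Subgroup.coe_mul] at h'
        · exact .inl (by rw [h', mul_inv_cancel_right])
        · exact .inr (by rw [h', neg_mul, mul_inv_cancel_right])
      obtain ⟨k, hk, hke⟩ := Subgroup.mem_map.1 (htop.symm ▸ Subgroup.mem_top (f ⟨g, hg⟩) : f ⟨g, hg⟩ ∈ _)
      rcases up _ _ hke.symm with e' | e' <;> simp only at e' <;> subst e'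
      · exact .inl hk
      · exact .inr (by rw [neg_neg]; exact hk)

/-- The trace of a nonscalar element of a subgroup with the facts of the alternating group. -/
theorem AltFive.trace_cases {Γ : Subgroup SL2} (h : AltFive Γ) {a : SL2} (ha : a ∈ Γ)
    (hs : a ≠ 1 ∧ a ≠ -1) :
    let t := (a : M2).trace
    t = 0 ∨ t * t = 1 ∨ (t * t + t - 1) * (t * t - t - 1) = 0 := by
  intro t
  have e2 := sl_sq a
  have hns : ∀ (α β c : F), α • (a : M2) + β • 1 = c • 1 → α = 0 := by
    intro α β c he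
    by_contra hα
    have : (a : M2) = ((c - β) / α) • 1 := by
      have h' : α • (a : M2) = (c - β) • 1 := by rw [sub_smul, ← he]; abel
      rw [div_eq_inv_mul, ← smul_smul, ← h', smul_smul, inv_mul_cancel₀ hα, one_smul]
    rcases scalar_cases a this with e | e
    exacts [hs.1 e, hs.2 e]
  have red : ∀ (α β : F), (α • (a : M2) + β • 1) * (a : M2) = (α * t + β) • (a : M2) + (-α) • 1 := by
    intro α β
    rw [add_mul, smul_mul_assoc, smul_mul_assoc, one_mul, e2, smul_sub, smul_smul, add_smul, neg_smul]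
    abel
  have p2 : (a : M2) * a = t • (a : M2) + (-1 : F) • 1 := by rw [e2, neg_one_smul]; abel
  have p3 : (a : M2) * a * a = (t * t - 1) • (a : M2) + (-t) • 1 := by
    rw [p2, red]; ring_nf
  have p4 : (a : M2) * a * a * a = ((t * t - 1) * t - t) • (a : M2) + (-(t * t - 1)) • 1 := by
    rw [p3, red]; ring_nf
  have p5 : (a : M2) * a * a * a * a =
      (((t * t - 1) * t - t) * t - (t * t - 1)) • (a : M2) + (-((t * t - 1) * t - t)) • 1 := by
    rw [p4, red]; ring_nf
  have pm : ∀ (n : ℕ) (M : M2) (α β : F), M = α • (a : M2) + β • 1 → ((a ^ n : SL2) : M2) = M →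
      (a ^ n = 1 ∨ a ^ n = -1) → α = 0 := by
    intro n M α β hM hn h
    rcases h with h | h <;> rw [h] at hn
    · exact hns α β 1 (by rw [← hM, ← hn, one_smul]; rfl)
    · exact hns α β (-1) (by rw [← hM, ← hn, neg_one_smul]; rfl)
  rcases h.pow_cases a ha with h2 | h3 | h5
  · exact .inl (pm 2 _ _ _ p2 (by simp [pow_succ]) h2)
  · refine .inr (.inl ?_)
    linear_combination pm 3 _ _ _ p3 (by simp [pow_succ]) h3
  · refine .inr (.inr ?_)
    linear_combination pm 5 _ _ _ p5 (by simp [pow_succ]) h5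

end Cfsg.Agent.H97.CFive
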