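import Cfsg.Agent.H97.CFive.Blocks
import Cfsg.Agent.H97.CFive.Two

/-!
An element of order p centralising the quadratic diagonal element gives everything.
-/

set_option autoImplicit false
set_option linter.unusedSectionVars false

namespace Cfsg.Agent.H97.CFive

open Matrix
open Cfsg.Agent.H88 (uu vv)
open Cfsg.Agent.H1.HeisThree (sc scGrp coe_sc sc_mul sc_one sc_comm sc_inj)

variable {F : Type*} [Field F]

local notation "T5" => ZMod 5
local notation "M5" => Matrix (ZMod 5) (ZMod 5) F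
local notation "G5" => GL (ZMod 5) F
local notation "M2" => Matrix (Fin 2) (Fin 2) F
local notation "SL2" => Matrix.SpecialLinearGroup (Fin 2) F
local notation "GL2" => GL (Fin 2) F

/-- A homomorphism to matrices of determinant one as one to the special linear group. -/
def toSL {G : Type*} [Group G] (f : G →* GL2) (h : ∀ g, (f g : M2).det = 1) : G →* SL2 where
  toFun g := ⟨(f g : M2), h g⟩
  map_one' := Subtype.ext (by simp)
  map_mul' a b := Subtype.ext (by
    show ((f (a * b) : GL2) : M2) = (f a : M2) * (f b : M2)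
    rw [map_mul, Units.val_mul])

variable (C : Fifth F) (X : Subgroup (GL (ZMod 5) F))

/-- The elements fixing the line with determinant one on both planes. -/
def Kp : Subgroup C.Cy :=
  X.subgroupOf C.Cy ⊓ C.ph0.ker ⊓ (Matrix.GeneralLinearGroup.det.comp C.ph1).ker ⊓
    (Matrix.GeneralLinearGroup.det.comp C.ph2).ker

theorem mem_Kp {g : C.Cy} : g ∈ Kp C X ↔ (g : G5) ∈ X ∧ ((g : G5) : M5) 0 0 = 1 ∧
    (C.ph1 g : M2).det = 1 ∧ (C.ph2 g : M2).det = 1 := by
  simp only [Kp, Subgroup.mem_inf, Subgroup.mem_subgroupOf, MonoidHom.mem_ker, MonoidHom.comp_apply]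
  constructor
  · rintro ⟨⟨⟨h1, h2⟩, h3⟩, h4⟩
    exact ⟨h1, by rw [← C.coe_ph0, h2, Units.val_one],
      by rw [← Matrix.GeneralLinearGroup.val_det_apply, h3, Units.val_one],
      by rw [← Matrix.GeneralLinearGroup.val_det_apply, h4, Units.val_one]⟩
  · rintro ⟨h1, h2, h3, h4⟩
    exact ⟨⟨⟨h1, Units.ext h2⟩, Units.ext h3⟩, Units.ext h4⟩

/-- The first plane. -/
def s1 : Kp C X →* SL2 := toSL (C.ph1.comp (Kp C X).subtype) fun g => ((mem_Kp C X).1 g.2).2.2.1
/-- The second plane. -/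
def s2 : Kp C X →* SL2 := toSL (C.ph2.comp (Kp C X).subtype) fun g => ((mem_Kp C X).1 g.2).2.2.2

theorem coe_s1 (g : Kp C X) : (s1 C X g : M2) = (C.ph1 g : M2) := rfl
theorem coe_s2 (g : Kp C X) : (s2 C X g : M2) = (C.ph2 g : M2) := rfl

theorem ext_Kp {g h : Kp C X} (h1 : s1 C X g = s1 C X h) (h2 : s2 C X g = s2 C X h) : g = h := by
  refine Subtype.ext (C.ext_Cy (Units.ext ?_) (Units.ext (congrArg Subtype.val h1)) (Units.ext (congrArg Subtype.val h2)))
  rw [C.coe_ph0, C.coe_ph0, ((mem_Kp C X).1 g.2).2.1, ((mem_Kp C X).1 h.2).2.1]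

theorem ph1_D : (C.ph1 ⟨C.D, C.D_mem_Cy⟩ : M2) = !![C.ω, 0; 0, C.ω ^ 4] := by
  rw [C.coe_ph1]
  show !![(C.D : M5) 1 1, (C.D : M5) 1 4; (C.D : M5) 4 1, (C.D : M5) 4 4] = _
  simp +decide [C.D_eq, Fifth.coe_dg, C.ch_one, C.ch_four]

theorem ph2_D : (C.ph2 ⟨C.D, C.D_mem_Cy⟩ : M2) = !![C.ω ^ 2, 0; 0, C.ω ^ 3] := by
  rw [C.coe_ph2]
  show !![(C.D : M5) 2 2, (C.D : M5) 2 3; (C.D : M5) 3 2, (C.D : M5) 3 3] = _
  simp +decide [C.D_eq, Fifth.coe_dg, C.ch_two, C.ch_three]

theorem ph1_J : (C.ph1 ⟨C.J, C.J_mem_Cy⟩ : M2) = !![0, 1; 1, 0] := by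
  rw [C.coe_ph1]
  show !![(C.J : M5) 1 1, (C.J : M5) 1 4; (C.J : M5) 4 1, (C.J : M5) 4 4] = _
  simp +decide [Fifth.coe_J]

theorem ph2_J : (C.ph2 ⟨C.J, C.J_mem_Cy⟩ : M2) = !![0, 1; 1, 0] := by
  rw [C.coe_ph2]
  show !![(C.J : M5) 2 2, (C.J : M5) 2 3; (C.J : M5) 3 2, (C.J : M5) 3 3] = _
  simp +decide [Fifth.coe_J]

variable {C X}
variable [Fintype F] {p : ℕ} [Fact p.Prime] (hF : Fintype.card F = p)
include hF

theorem top_of_plane (hX : Ctx C X) (f : C.Cy →* GL2) (hdet : ∀ g : Kp C X, (f g : M2).det = 1) {z z' : F}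
    (hz : z ≠ z') (hD : (f ⟨C.D, C.D_mem_Cy⟩ : M2) = !![z, 0; 0, z'])
    (hJ : (f ⟨C.J, C.J_mem_Cy⟩ : M2) = !![0, 1; 1, 0]) {x : Kp C X}
    (hN : ((f x : M2) - 1) * ((f x : M2) - 1) = 0) (hne : f x ≠ 1) :
    (toSL (f.comp (Kp C X).subtype) hdet).range = ⊤ := by
  set s := toSL (f.comp (Kp C X).subtype) hdet
  have hnorm : ∀ g : C.Cy, (g : G5) ∈ X → ∀ a ∈ s.range,
      ∃ b ∈ s.range, (b : M2) = (f g : M2) * (a : M2) * (((f g)⁻¹ : GL2) : M2) := by
    rintro g hg _ ⟨a, rfl⟩
    obtain ⟨ha, ha0, ha1, ha2⟩ := (mem_Kp C X).1 a.2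
    have hmem : g * (a : C.Cy) * g⁻¹ ∈ Kp C X := by
      refine (mem_Kp C X).2 ⟨mul_mem (mul_mem hg ha) (inv_mem hg), ?_, ?_, ?_⟩
      · have e : C.ph0 (g * (a : C.Cy) * g⁻¹) = 1 := by
          rw [map_mul, map_mul, map_inv, mul_comm (C.ph0 g), mul_inv_cancel_right]
          exact Units.ext ha0
        rw [← C.coe_ph0, e, Units.val_one]
      · rw [map_mul, map_mul, map_inv, Units.val_mul, Units.val_mul, Matrix.det_units_conj, ha1]
      · rw [map_mul, map_mul, map_inv, Units.val_mul, Units.val_mul, Matrix.det_units_conj, ha2]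
    exact ⟨s ⟨_, hmem⟩, ⟨_, rfl⟩, by
      show (f (g * (a : C.Cy) * g⁻¹) : M2) = _
      rw [map_mul, map_mul, map_inv, Units.val_mul, Units.val_mul]; rfl⟩
  have hu : s x ∈ s.range := ⟨x, rfl⟩
  have hN' : ((s x : M2) - 1) * ((s x : M2) - 1) = 0 := hN
  by_cases h1 : ((s x : M2) - 1) * (f ⟨C.D, C.D_mem_Cy⟩ : M2) * ((s x : M2) - 1) = 0
  · refine top_of_unipotent hF hu hN' (hnorm ⟨C.J, C.J_mem_Cy⟩ hX.J) fun h2 => hne (Units.ext ?_)
    rw [hJ] at h2
    rw [hD] at h1
    set N := (s x : M2) - 1 with hNdef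
    have a00 := congrFun (congrFun hN' 0) 0
    have b00 := congrFun (congrFun h1 0) 0
    have c01 := congrFun (congrFun h2 0) 1
    have c10 := congrFun (congrFun h2 1) 0
    simp [Matrix.mul_apply, Fin.sum_univ_two, Matrix.vecMul, dotProduct] at a00 b00 c01 c10
    have e00 : N 0 0 = 0 := by
      have : (z - z') * (N 0 0 * N 0 0) = 0 := by linear_combination b00 - z' * a00
      exact mul_self_eq_zero.1 ((mul_eq_zero.1 this).resolve_left (sub_ne_zero.2 hz))
    have e11 : N 1 1 = 0 := by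
      have a11 := congrFun (congrFun hN' 1) 1
      simp [Matrix.mul_apply, Fin.sum_univ_two] at a11
      exact mul_self_eq_zero.1 (by rw [e00] at a00; linear_combination a11 - a00)
    rw [e00, e11] at c01 c10
    have e01 : N 0 1 = 0 := mul_self_eq_zero.1 (by linear_combination c01)
    have e10 : N 1 0 = 0 := mul_self_eq_zero.1 (by linear_combination c10)
    have : N = 0 := Matrix.ext fun i j => by fin_cases i <;> fin_cases j <;> assumption
    show (s x : M2) = 1
    rw [← sub_eq_zero, ← hNdef, this]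
  · exact top_of_unipotent hF hu hN' (hnorm ⟨C.D, C.D_mem_Cy⟩ hX.D) h1

/-- An element of order dividing p centralising the quadratic element gives everything. -/
theorem big_of_centralising (hX : Ctx C X) {x : G5} (hx : x ∈ X) (hxy : x * C.y = C.y * x) (hxp : x ^ p = 1)
    (hx1 : x ≠ 1) (hq : 4 ≤ Fintype.card F) (h2 : (2 : F) ≠ 0) : Big X := by
  haveI : CharP F p := charP_of_card_eq_prime hF
  by_contra hno
  have hunit : ∀ c : Fˣ, c ^ p = 1 → c = 1 := fun c hc => by
    have := FiniteField.pow_card (c : F)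
    rw [hF, ← Units.val_pow_eq_pow_val, hc, Units.val_one] at this
    exact Units.ext this.symm
  set x' : C.Cy := ⟨x, C.mem_Cy.2 hxy⟩
  have hx'p : x' ^ p = 1 := Subtype.ext hxp
  have hxK : x' ∈ Kp C X := by
    refine (mem_Kp C X).2 ⟨hx, ?_, ?_, ?_⟩
    · rw [← C.coe_ph0, hunit (C.ph0 x') (by rw [← map_pow, hx'p, map_one]), Units.val_one]
    · rw [← Matrix.GeneralLinearGroup.val_det_apply,
        hunit (Matrix.GeneralLinearGroup.det (C.ph1 x')) (by rw [← map_pow, ← map_pow, hx'p, map_one, map_one]),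
        Units.val_one]
    · rw [← Matrix.GeneralLinearGroup.val_det_apply,
        hunit (Matrix.GeneralLinearGroup.det (C.ph2 x')) (by rw [← map_pow, ← map_pow, hx'p, map_one, map_one]),
        Units.val_one]
  set xK : Kp C X := ⟨x', hxK⟩
  have hsq : ∀ f : C.Cy →* GL2, ((f x' : M2) - 1) * ((f x' : M2) - 1) = 0 := fun f =>
    sq_eq_zero (nilp_of_pow (p := p) (by rw [← Units.val_pow_eq_pow_val, ← map_pow, hx'p, map_one, Units.val_one]))
  have hω : ∀ a b : T5, a ≠ b → C.ch a ≠ C.ch b := fun a b h e => h (C.ch_inj e)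
  have top1 : C.ph1 x' ≠ 1 → (s1 C X).range = ⊤ := fun h =>
    top_of_plane hF hX C.ph1 (fun g => ((mem_Kp C X).1 g.2).2.2.1)
      (z := C.ω) (z' := C.ω ^ 4) (by rw [← C.ch_four, ← C.ch_one]; exact hω 1 4 (by decide)) (ph1_D C) (ph1_J C)
      (x := xK) (hsq _) h
  have top2 : C.ph2 x' ≠ 1 → (s2 C X).range = ⊤ := fun h =>
    top_of_plane hF hX C.ph2 (fun g => ((mem_Kp C X).1 g.2).2.2.2)
      (z := C.ω ^ 2) (z' := C.ω ^ 3) (by rw [← C.ch_three, ← C.ch_two]; exact hω 2 3 (by decide)) (ph2_D C) (ph2_J C)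
      (x := xK) (hsq _) h
  -- a unipotent element on one plane only
  have end1 : ∀ g : Kp C X, s1 C X g = uu 1 → s2 C X g = 1 → False := by
    intro g h1 h2
    apply hno
    have e1 := congrArg (fun a : SL2 => (a : M2)) h1
    have e2 := congrArg (fun a : SL2 => (a : M2)) h2
    simp only [coe_s1, coe_s2, Fifth.coe_ph1, Fifth.coe_ph2, H88.uu_coe, Matrix.SpecialLinearGroup.coe_one,
      ← Matrix.ext_iff] at e1 e2
    have a00 := e1 0 0; have a01 := e1 0 1; have a10 := e1 1 0; have a11 := e1 1 1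
    have b00 := e2 0 0; have b01 := e2 0 1; have b10 := e2 1 0; have b11 := e2 1 1
    simp at a00 a01 a10 a11 b00 b01 b10 b11
    have c00 := ((mem_Kp C X).1 g.2).2.1
    refine big_of_block hF hX {1} {4} (by decide) (by decide) (M := Matrix.single (1 : T5) 4 (1 : F))
      (fun i j h => ?_) (fun h => ?_) ((mem_Kp C X).1 g.2).1 (Matrix.ext fun i j => ?_)
    · rw [Matrix.single_apply] at h
      split_ifs at h with hh
      · simp [← hh.1, ← hh.2]
      · exact absurd rfl h
    · simpa using congrFun (congrFun h 1) 4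
    · by_cases hij : i * i = j * j
      · rcases t5_cases i with rfl | rfl | rfl | rfl | rfl <;> rcases t5_cases j with rfl | rfl | rfl | rfl | rfl <;>
          first
            | exact absurd hij (by decide)
            | simp +decide [Matrix.one_apply, c00, a00, a01, a10, a11, b00, b01, b10, b11]
      · rw [C.zero_of_mem_Cy (g : C.Cy).2 hij, Matrix.add_apply, Matrix.single_apply, if_neg, Matrix.one_apply_ne,
          add_zero]
        · exact fun e => hij (by rw [e])
        · rintro ⟨rfl, rfl⟩; exact hij (by decide)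
  have end2 : ∀ g : Kp C X, s2 C X g = uu 1 → s1 C X g = 1 → False := by
    intro g h1 h2
    apply hno
    have e1 := congrArg (fun a : SL2 => (a : M2)) h1
    have e2 := congrArg (fun a : SL2 => (a : M2)) h2
    simp only [coe_s1, coe_s2, Fifth.coe_ph1, Fifth.coe_ph2, H88.uu_coe, Matrix.SpecialLinearGroup.coe_one,
      ← Matrix.ext_iff] at e1 e2
    have a00 := e1 0 0; have a01 := e1 0 1; have a10 := e1 1 0; have a11 := e1 1 1
    have b00 := e2 0 0; have b01 := e2 0 1; have b10 := e2 1 0; have b11 := e2 1 1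
    simp at a00 a01 a10 a11 b00 b01 b10 b11
    have c00 := ((mem_Kp C X).1 g.2).2.1
    refine big_of_block hF hX {2} {3} (by decide) (by decide) (M := Matrix.single (2 : T5) 3 (1 : F))
      (fun i j h => ?_) (fun h => ?_) ((mem_Kp C X).1 g.2).1 (Matrix.ext fun i j => ?_)
    · rw [Matrix.single_apply] at h
      split_ifs at h with hh
      · simp [← hh.1, ← hh.2]
      · exact absurd rfl h
    · simpa using congrFun (congrFun h 2) 3
    · by_cases hij : i * i = j * j
      · rcases t5_cases i with rfl | rfl | rfl | rfl | rfl <;> rcases t5_cases j with rfl | rfl | rfl | rfl | rfl <;>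
          first
            | exact absurd hij (by decide)
            | simp +decide [Matrix.one_apply, c00, a00, a01, a10, a11, b00, b01, b10, b11]
      · rw [C.zero_of_mem_Cy (g : C.Cy).2 hij, Matrix.add_apply, Matrix.single_apply, if_neg, Matrix.one_apply_ne,
          add_zero]
        · exact fun e => hij (by rw [e])
        · rintro ⟨rfl, rfl⟩; exact hij (by decide)
  have uu_ne : ∀ t : F, t ≠ 0 → (uu t : SL2) ≠ 1 ∧ (uu t : SL2) ≠ -1 := fun t ht =>
    ⟨fun e => ht (by simpa using congrArg (fun a : SL2 => (a : M2) 0 1) e),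
      fun e => ht (by simpa using congrArg (fun a : SL2 => (a : M2) 0 1) e)⟩
  have hker1 : (s1 C X).range = ⊤ → ∀ g : Kp C X, s2 C X g = 1 → s1 C X g = 1 ∨ s1 C X g = -1 := by
    intro ht g hg
    by_contra hc
    push Not at hc
    have hn : ((s2 C X).ker.map (s1 C X)).Normal :=
      (inferInstance : (s2 C X).ker.Normal).map _ (MonoidHom.range_eq_top.1 ht)
    have := top_of_normal hq hn (Subgroup.mem_map_of_mem _ hg) hc.1 hc.2
    obtain ⟨k, hk, hk'⟩ := Subgroup.mem_map.1 (this.symm ▸ Subgroup.mem_top (uu (1 : F)))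
    exact end1 k hk' hk
  have hker2 : (s2 C X).range = ⊤ → ∀ g : Kp C X, s1 C X g = 1 → s2 C X g = 1 ∨ s2 C X g = -1 := by
    intro ht g hg
    by_contra hc
    push Not at hc
    have hn : ((s1 C X).ker.map (s2 C X)).Normal :=
      (inferInstance : (s1 C X).ker.Normal).map _ (MonoidHom.range_eq_top.1 ht)
    have := top_of_normal hq hn (Subgroup.mem_map_of_mem _ hg) hc.1 hc.2
    obtain ⟨k, hk, hk'⟩ := Subgroup.mem_map.1 (this.symm ▸ Subgroup.mem_top (uu (1 : F)))
    exact end2 k hk' hk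
  have hpm : ∀ a : SL2, a ^ p = 1 → a = 1 ∨ a = -1 → a = 1 := by
    intro a ha h
    rcases h with h | rfl
    · exact h
    · exfalso
      have hodd : Odd p := (Fact.out : p.Prime).odd_of_ne_two (by rintro rfl; exact h2 (CharP.cast_eq_zero F 2))
      rw [hodd.neg_one_pow] at ha
      have := congrArg (fun z : SL2 => (z : M2) 0 0) ha
      simp at this
      exact h2 (by linear_combination -this)
  have hs1p : s1 C X xK ^ p = 1 := by rw [← map_pow, show xK ^ p = 1 from Subtype.ext hx'p, map_one]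
  have hs2p : s2 C X xK ^ p = 1 := by rw [← map_pow, show xK ^ p = 1 from Subtype.ext hx'p, map_one]
  have n1 : C.ph1 x' ≠ 1 := fun h => by
    have h1 : s1 C X xK = 1 := Subtype.ext (congrArg Units.val h)
    have h2' : C.ph2 x' ≠ 1 := fun h' =>
      hx1 (congrArg (fun g : Kp C X => ((g : C.Cy) : G5))
        (ext_Kp C X (g := xK) (h := 1) (h1.trans (map_one _).symm) ((show s2 C X xK = 1 from Subtype.ext (congrArg Units.val h')).trans (map_one _).symm)))
    exact h2' (Units.ext (congrArg Subtype.val (hpm _ hs2p (hker2 (top2 h2') xK h1))))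
  have n2 : C.ph2 x' ≠ 1 := fun h => by
    have h1 : s2 C X xK = 1 := Subtype.ext (congrArg Units.val h)
    exact n1 (Units.ext (congrArg Subtype.val (hpm _ hs1p (hker1 (top1 n1) xK h1))))
  -- a lift of an elementary unipotent
  obtain ⟨b0, hb0⟩ := MonoidHom.range_eq_top.1 (top1 n1) (uu 1)
  have uu_pow : ∀ (t : F) (n : ℕ), (uu t : SL2) ^ n = uu ((n : F) * t) := fun t n => by
    induction n with
    | zero => simp [H88.uu_zero]
    | succ n ih => rw [pow_succ, ih, ← H88.uu_add]; push_cast; ring_nf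
  obtain ⟨x0, hx0⟩ : ∃ x0, x0 = b0 ^ 2 := ⟨_, rfl⟩
  have hx01 : s1 C X x0 = uu 2 := by rw [hx0, map_pow, hb0, uu_pow]; norm_num
  have hx0p : x0 ^ p = 1 := by
    have e1 : s1 C X (b0 ^ p) = 1 := by rw [map_pow, hb0, uu_pow, CharP.cast_eq_zero, zero_mul, H88.uu_zero]
    rw [hx0, ← pow_mul, mul_comm, pow_mul]
    refine ext_Kp C X ?_ ?_
    · rw [map_pow, e1, one_pow, map_one]
    · rcases hker2 (top2 n2) _ e1 with e | e <;> simp [map_pow, e]
  obtain ⟨m, hm⟩ := exists_nat hF (C.ω ^ 2)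
  have hDK : (⟨C.D, C.D_mem_Cy⟩ : C.Cy) ∈ Kp C X := by
    refine (mem_Kp C X).2 ⟨hX.D, ?_, ?_, ?_⟩
    · show (C.D : M5) 0 0 = 1
      simp [C.D_eq, Fifth.coe_dg, C.ch_zero]
    · rw [ph1_D, Matrix.det_fin_two_of, mul_zero, sub_zero, ← pow_succ', C.pow_five]
    · rw [ph2_D, Matrix.det_fin_two_of, mul_zero, sub_zero, ← pow_add, C.pow_five]
  set d : Kp C X := ⟨_, hDK⟩
  have hd1 : s1 C X d * uu 2 = uu (2 * C.ω ^ 2) * s1 C X d := by
    refine Subtype.ext ?_
    rw [Matrix.SpecialLinearGroup.coe_mul, Matrix.SpecialLinearGroup.coe_mul, coe_s1, ph1_D, H88.uu_coe, H88.uu_coe]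
    ext i j
    fin_cases i <;> fin_cases j <;> simp [Matrix.mul_apply, Fin.sum_univ_two]
    linear_combination (-2 * C.ω) * C.pow_five
  obtain ⟨ε, hε⟩ : ∃ ε, ε = d * x0 * d⁻¹ * (x0 ^ m)⁻¹ := ⟨_, rfl⟩
  have hε1 : s1 C X ε = 1 := by
    rw [hε, map_mul, map_mul, map_mul, map_inv, map_inv, map_pow, hx01, hd1, mul_inv_cancel_right, uu_pow, hm,
      mul_comm (C.ω ^ 2), mul_inv_cancel]
  have hx02 : s2 C X d * s2 C X x0 = s2 C X x0 ^ m * s2 C X d := by
    have e : s2 C X d * s2 C X x0 * (s2 C X d)⁻¹ = s2 C X ε * s2 C X x0 ^ m := by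
      rw [hε, map_mul, map_mul, map_mul, map_inv, map_inv, map_pow, inv_mul_cancel_right]
    rcases hker2 (top2 n2) _ hε1 with h | h
    · rw [h, one_mul] at e
      exact mul_inv_eq_iff_eq_mul.1 e
    · exfalso
      have hp0 : s2 C X x0 ^ p = 1 := by rw [← map_pow, hx0p, map_one]
      have := congrArg (· ^ p) e
      simp only [conj_pow, hp0, mul_one, mul_inv_cancel] at this
      rw [h, neg_one_mul, neg_pow, ← pow_mul, mul_comm, pow_mul, hp0, one_pow, mul_one] at this
      exact absurd (hpm (-1) this.symm (.inr rfl)) fun e => h2 (by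
        have := congrArg (fun z : SL2 => (z : M2) 0 0) e
        simp at this
        linear_combination -this)
  set N := (s2 C X x0 : M2) - 1 with hN
  have hNN : N * N = 0 := sq_eq_zero (nilp_of_pow (p := p) (by
    rw [← Matrix.SpecialLinearGroup.coe_pow, ← map_pow, hx0p, map_one, Matrix.SpecialLinearGroup.coe_one]))
  have hpowN : ((s2 C X x0 ^ m : SL2) : M2) = 1 + (m : F) • N := by
    rw [Matrix.SpecialLinearGroup.coe_pow, show (s2 C X x0 : M2) = 1 + N by rw [hN]; abel,
      pow_of_cube_zero (F := F) N (by rw [hNN, zero_mul]), hNN, smul_zero, add_zero]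
  have e := congrArg (fun z : SL2 => (z : M2)) hx02
  simp only [Matrix.SpecialLinearGroup.coe_mul, hpowN, hm, coe_s2 C X d] at e
  rw [show (s2 C X x0 : M2) = 1 + N by rw [hN]; abel, ph2_D, mul_add, mul_one, add_mul, one_mul,
    add_right_inj] at e
  have e00 := congrFun (congrFun e 0) 0
  have e01 := congrFun (congrFun e 0) 1
  have e10 := congrFun (congrFun e 1) 0
  have e11 := congrFun (congrFun e 1) 1
  simp [Matrix.mul_apply, Fin.sum_univ_two, Matrix.vecMul, dotProduct] at e00 e01 e10 e11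
  have hw : ∀ a b : T5, a ≠ b → ∀ c : F, c * (C.ch a - C.ch b) = 0 → c = 0 := fun a b h c hc =>
    (mul_eq_zero.1 hc).resolve_right (sub_ne_zero.2 (hω a b h))
  have hp5 := C.pow_five
  have z00 := hw 2 4 (by decide) _ (show N 0 0 * (C.ch 2 - C.ch 4) = 0 by
    rw [C.ch_two, C.ch_four]; linear_combination e00)
  have z11 := hw 3 0 (by decide) _ (show N 1 1 * (C.ch 3 - C.ch 0) = 0 by
    rw [C.ch_three, C.ch_zero]; linear_combination e11 + N 1 1 * hp5)
  have z01 := hw 2 0 (by decide) _ (show N 0 1 * (C.ch 2 - C.ch 0) = 0 by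
    rw [C.ch_two, C.ch_zero]; linear_combination e01 + N 0 1 * hp5)
  have z10 := hw 3 4 (by decide) _ (show N 1 0 * (C.ch 3 - C.ch 4) = 0 by
    rw [C.ch_three, C.ch_four]; linear_combination e10)
  have hN0 : N = 0 := Matrix.ext fun i j => by fin_cases i <;> fin_cases j <;> assumption
  have h20 : s2 C X x0 = 1 := Subtype.ext (by rw [Matrix.SpecialLinearGroup.coe_one, ← sub_eq_zero]; exact hN0)
  rcases hker1 (top1 n1) x0 h20 with e | e <;> rw [hx01] at e
  exacts [(uu_ne 2 h2).1 e, (uu_ne 2 h2).2 e]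

end Cfsg.Agent.H97.CFive
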