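import Cfsg.Agent.H97.CFive.Plane

/-!
The elements centralising both the reversal and the quadratic element are monomial on each plane.
-/

set_option autoImplicit false
set_option linter.unusedSectionVars false

namespace Cfsg.Agent.H97.CFive

open Matrix
open Cfsg.Agent.H1.HeisThree (sc scGrp coe_sc sc_mul sc_one sc_comm sc_inj)

variable {F : Type*} [Field F]

local notation "T5" => ZMod 5
local notation "M5" => Matrix (ZMod 5) (ZMod 5) F
local notation "G5" => GL (ZMod 5) F
local notation "M2" => Matrix (Fin 2) (Fin 2) F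
local notation "SL2" => Matrix.SpecialLinearGroup (Fin 2) F
local notation "GL2" => GL (Fin 2) F

section numbers

variable [Fintype F] {p : ℕ} [Fact p.Prime] (hF : Fintype.card F = p) (hp5 : p % 5 = 1)
include hF hp5

theorem prime_ne_zero (q : ℕ) (hq : q.Prime) (h : q % 5 ≠ 1) : (q : F) ≠ 0 := by
  haveI : CharP F p := charP_of_card_eq_prime hF
  intro h0
  have := (Nat.prime_dvd_prime_iff_eq Fact.out hq).1 ((CharP.cast_eq_zero_iff F p q).1 h0)
  exact h (this ▸ hp5)

theorem two_ne : (2 : F) ≠ 0 := by exact_mod_cast prime_ne_zero hF hp5 2 Nat.prime_two (by norm_num)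
theorem three_ne : (3 : F) ≠ 0 := by exact_mod_cast prime_ne_zero hF hp5 3 Nat.prime_three (by norm_num)
theorem five_ne : (5 : F) ≠ 0 := by exact_mod_cast prime_ne_zero hF hp5 5 Nat.prime_five (by norm_num)
theorem seven_ne : (7 : F) ≠ 0 := by exact_mod_cast prime_ne_zero hF hp5 7 (by norm_num) (by norm_num)
theorem nineteen_ne : (19 : F) ≠ 0 := by exact_mod_cast prime_ne_zero hF hp5 19 (by norm_num) (by norm_num)
theorem fiftynine_ne : (59 : F) ≠ 0 := by exact_mod_cast prime_ne_zero hF hp5 59 (by norm_num) (by norm_num)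

theorem eleven_le : 11 ≤ p := by
  have h := (Fact.out : p.Prime).two_le
  have : p ≠ 6 := fun e => by
    have := (Fact.out : p.Prime)
    rw [e] at this
    norm_num at this
  omega

theorem pow_ten (h11 : (11 : F) = 0) {a : F} (ha : a ≠ 0) : a ^ 10 = 1 := by
  haveI : CharP F p := charP_of_card_eq_prime hF
  have h : ((11 : ℕ) : F) = 0 := by exact_mod_cast h11
  have hp : p = 11 := (Nat.prime_dvd_prime_iff_eq Fact.out (by norm_num)).1 ((CharP.cast_eq_zero_iff F p 11).1 h)
  have := FiniteField.pow_card_sub_one_eq_one a ha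
  rwa [hF, hp] at this

/-- The traces occurring in the ratio lemma do not occur in the alternating group of degree five. -/
theorem trace_false {v t c : F} (hv : v * v + v - 1 = 0) (hc : c ≠ 0)
    (hcase : (2 * t = v + 2 ∧ c * c = -1) ∨ (4 * t = 3 * v + 2 ∧ c * c + c + 1 = 0) ∨ 4 * t = 3)
    (htc : t = 0 ∨ t * t = 1 ∨ (t * t + t - 1) * (t * t - t - 1) = 0) : False := by
  have h1 : (1 : F) ≠ 0 := one_ne_zero
  have e11a : c * c = -1 → (11 : F) ≠ 0 := fun hc2 h => two_ne hF hp5 (by
    linear_combination -pow_ten hF hp5 h hc + (c ^ 8 - c ^ 6 + c ^ 4 - c ^ 2 + 1) * hc2)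
  have e11b : c * c + c + 1 = 0 → (11 : F) ≠ 0 := fun hc2 h => by
    have h10 := pow_ten hF hp5 h hc
    have hc1 : c = 1 := by
      linear_combination h10 - (c - 1) * (c ^ 7 + c ^ 4 + c) * hc2
    rw [hc1] at hc2
    exact three_ne hF hp5 (by linear_combination hc2)
  rcases hcase with ⟨ht, hc2⟩ | ⟨ht, hc2⟩ | ht
  · rcases htc with h | h | h
    · exact h1 (by linear_combination hv + (v - 1) * ht - (v - 1) * 2 * h)
    · have hv4 : v * (v + 4) = 0 := by linear_combination 4 * h - (2 * t + v + 2) * ht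
      rcases mul_eq_zero.1 hv4 with e | e
      · exact h1 (by linear_combination -hv + (v + 1) * e)
      · exact e11a hc2 (by linear_combination hv - (v - 3) * e)
    · rcases mul_eq_zero.1 h with h | h
      · have e : 5 * (v + 1) = 0 := by
          linear_combination 4 * h - (2 * t + v + 2 + 2) * ht - hv
        have e' := (mul_eq_zero.1 e).resolve_left (five_ne hF hp5)
        exact h1 (by linear_combination -hv + v * e')
      · have e : v - 3 = 0 := by
          linear_combination 4 * h - (2 * t + v + 2 - 2) * ht - hv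
        exact e11a hc2 (by linear_combination hv - (v + 4) * e)
  · rcases htc with h | h | h
    · exact e11b hc2 (by linear_combination -9 * hv + (3 * v + 1) * (4 * h - ht))
    · have e : 3 * (v - 1) = 0 := by
        linear_combination 16 * h - (4 * t + 3 * v + 2) * ht - 9 * hv
      have e' := (mul_eq_zero.1 e).resolve_left (three_ne hF hp5)
      exact h1 (by linear_combination hv - (v + 2) * e')
    · rcases mul_eq_zero.1 h with h | h
      · have e : 5 * (3 * v + 1) = 0 := by
          linear_combination 16 * h - (4 * t + 3 * v + 2 + 4) * ht - 9 * hv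
        have e' := (mul_eq_zero.1 e).resolve_left (five_ne hF hp5)
        exact e11b hc2 (by linear_combination -9 * hv + (3 * v + 2) * e')
      · have e : -9 * v - 11 = 0 := by
          linear_combination 16 * h - (4 * t + 3 * v + 2 - 4) * ht - 9 * hv
        exact fiftynine_ne hF hp5 (by linear_combination -81 * hv - (9 * v - 2) * e)
  · rcases htc with h | h | h
    · exact three_ne hF hp5 (by linear_combination 4 * h - ht)
    · exact seven_ne hF hp5 (by linear_combination (4 * t + 3) * ht - 16 * h)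
    · rcases mul_eq_zero.1 h with h | h
      · exact five_ne hF hp5 (by linear_combination 16 * h - (4 * t + 3 + 4) * ht)
      · exact nineteen_ne hF hp5 (by linear_combination (4 * t + 3 - 4) * ht - 16 * h)

end numbers

variable {C : Fifth F} {X : Subgroup (GL (ZMod 5) F)}

theorem sc_mem_Cy (c : Fˣ) : sc c ∈ C.Cy := C.mem_Cy.2 (sc_comm c _)

theorem ph1_sc (c : Fˣ) : (C.ph1 ⟨sc c, sc_mem_Cy c⟩ : M2) = (c : F) • 1 := by
  rw [C.coe_ph1]
  ext a b
  fin_cases a <;> fin_cases b <;> simp +decide [coe_sc, Matrix.one_apply]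

theorem ph2_sc (c : Fˣ) : (C.ph2 ⟨sc c, sc_mem_Cy c⟩ : M2) = (c : F) • 1 := by
  rw [C.coe_ph2]
  ext a b
  fin_cases a <;> fin_cases b <;> simp +decide [coe_sc, Matrix.one_apply]

/-- The ratios of the eigenvalues on a plane. -/
def Rat (f : C.Cy →* GL2) (X : Subgroup G5) (c : F) : Prop :=
  ∃ g : C.Cy, (g : G5) ∈ X ∧ ∃ x z : F, (f g : M2) = !![x, z; z, x] ∧ x + z = c * (x - z)

theorem sub_ne_of_form {G : GL2} {x z : F} (h : (G : M2) = !![x, z; z, x]) : x - z ≠ 0 ∧ x + z ≠ 0 := by
  have hd := Matrix.GeneralLinearGroup.det_ne_zero G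
  rw [h, Matrix.det_fin_two_of] at hd
  exact mul_ne_zero_iff.1 (by rwa [show (x - z) * (x + z) = x * x - z * z by ring])

theorem Rat.mul {f : C.Cy →* GL2} {c c' : F} (h : Rat f X c) (h' : Rat f X c') : Rat f X (c * c') := by
  obtain ⟨g, hg, x, z, e, hc⟩ := h
  obtain ⟨g', hg', x', z', e', hc'⟩ := h'
  refine ⟨g * g', mul_mem hg hg', x * x' + z * z', x * z' + z * x', ?_, ?_⟩
  · rw [map_mul, Units.val_mul, e, e']
    ext i j
    fin_cases i <;> fin_cases j <;> simp [Matrix.mul_apply, Fin.sum_univ_two] <;> ring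
  · linear_combination (x' + z') * hc + c * (x - z) * hc'

theorem Rat.pow {f : C.Cy →* GL2} {c : F} (h : Rat f X c) {n : ℕ} (hn : 0 < n) : Rat f X (c ^ n) := by
  induction n, hn using Nat.le_induction with
  | base => simpa using h
  | succ n _ ih => rw [pow_succ]; exact ih.mul h

variable [Fintype F] {p : ℕ} [Fact p.Prime] (hF : Fintype.card F = p) (hp5 : p % 5 = 1)
include hF hp5

set_option maxHeartbeats 800000 in
/-- An element of the centraliser of both involved elements is monomial on a plane. -/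
theorem plane_ratio (hX : Ctx C X) (hno : ¬ Big X) (f : C.Cy →* GL2) {w : F} (hw : IsPrimitiveRoot w 5)
    (hD : (f ⟨C.D, C.D_mem_Cy⟩ : M2) = !![w, 0; 0, w ^ 4])
    (hJ : (f ⟨C.J, C.J_mem_Cy⟩ : M2) = !![0, 1; 1, 0])
    (hs : ∀ c : Fˣ, (f ⟨sc c, sc_mem_Cy c⟩ : M2) = (c : F) • 1)
    {g : C.Cy} (hg : (g : G5) ∈ X) {x z : F} (hfg : (f g : M2) = !![x, z; z, x]) : x = 0 ∨ z = 0 := by
  haveI : CharP F p := charP_of_card_eq_prime hF
  have hw5 : w ^ 5 = 1 := hw.pow_eq_one
  have hgeom : 1 + w + w ^ 2 + w ^ 3 + w ^ 4 = 0 := by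
    have := hw.geom_sum_eq_zero (by norm_num : 1 < 5)
    simp only [Finset.sum_range_succ, Finset.sum_range_zero, pow_zero, pow_one, zero_add] at this
    linear_combination this
  have hw4 : w ^ 4 - w ≠ 0 := fun h => by
    have h3 : w ^ 3 = 1 := mul_left_cancel₀ (hw.ne_zero (by norm_num)) (by linear_combination h)
    have := (hw.pow_eq_one_iff_dvd 3).1 h3
    norm_num at this
  -- the determinant one part
  let K : Subgroup C.Cy := X.subgroupOf C.Cy ⊓ (Matrix.GeneralLinearGroup.det.comp f).ker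
  have hmemK : ∀ {a : C.Cy}, a ∈ K ↔ (a : G5) ∈ X ∧ (f a : M2).det = 1 := fun {a} => by
    simp only [K, Subgroup.mem_inf, Subgroup.mem_subgroupOf, MonoidHom.mem_ker, MonoidHom.comp_apply]
    exact and_congr_right fun _ => ⟨fun h => by rw [← Matrix.GeneralLinearGroup.val_det_apply, h, Units.val_one],
      fun h => Units.ext h⟩
  let s : K →* SL2 := toSL (f.comp K.subtype) fun a => (hmemK.1 a.2).2
  have hsval : ∀ a : K, (s a : M2) = (f a : M2) := fun a => rfl
  have hpΓ : ¬ p ∣ Nat.card s.range := fun h => hno <| by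
    obtain ⟨a, ha⟩ := exists_prime_orderOf_dvd_card' p (h.trans (Subgroup.card_range_dvd s))
    have hap : a ^ p = 1 := by rw [← ha]; exact pow_orderOf_eq_one a
    have ha1 : a ≠ 1 := fun e => by
      rw [e, orderOf_one] at ha
      exact (Fact.out : p.Prime).one_lt.ne ha
    refine big_of_centralising hF hX (hmemK.1 a.2).1 (C.mem_Cy.1 (a : C.Cy).2)
      (congrArg (fun t : K => ((t : C.Cy) : G5)) hap)
      (fun e => ha1 (Subtype.ext (Subtype.ext e))) ?_ (two_ne hF hp5)
    have := eleven_le hF hp5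
    omega
  have hDK : (⟨C.D, C.D_mem_Cy⟩ : C.Cy) ∈ K := hmemK.2 ⟨hX.D, by
    rw [hD, Matrix.det_fin_two_of, mul_zero, sub_zero, ← pow_succ', hw5]⟩
  set d : SL2 := s ⟨_, hDK⟩ with hd
  have hdM : (d : M2) = !![w, 0; 0, w ^ 4] := hD
  have hdinv : ((d⁻¹ : SL2) : M2) = !![w ^ 4, 0; 0, w] := by
    rw [Matrix.SpecialLinearGroup.coe_inv, hdM, Matrix.adjugate_fin_two_of, neg_zero]
  have hd5 : d ^ 5 = 1 := by
    refine Subtype.ext ?_
    rw [Matrix.SpecialLinearGroup.coe_pow, hdM, show (!![w, 0; 0, w ^ 4] : M2) = Matrix.diagonal ![w, w ^ 4] by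
      ext i j; fin_cases i <;> fin_cases j <;> rfl, Matrix.diagonal_pow, Matrix.SpecialLinearGroup.coe_one,
      ← Matrix.diagonal_one]
    congr 1
    funext i
    fin_cases i <;> simp [← pow_mul, hw5, show w ^ 20 = (w ^ 5) ^ 4 by rw [← pow_mul]]
  -- conjugates of the diagonal element
  have hconj : ∀ a : C.Cy, (a : G5) ∈ X → ∀ x z : F, (f a : M2) = !![x, z; z, x] → ∃ e ∈ s.range, e ^ 5 = 1 ∧
      ((x * x - z * z) • (e : M2)) = !![x * x * w - z * z * w ^ 4, x * z * (w ^ 4 - w);
        x * z * (w - w ^ 4), x * x * w ^ 4 - z * z * w] := by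
    intro a ha x z hfa
    set b : C.Cy := a * ⟨C.D, C.D_mem_Cy⟩ * a⁻¹ with hb
    have hbK : b ∈ K := hmemK.2 ⟨mul_mem (mul_mem ha hX.D) (inv_mem ha), by
      rw [hb, map_mul, map_mul, map_inv, Units.val_mul, Units.val_mul, Matrix.det_units_conj, hD,
        Matrix.det_fin_two_of, mul_zero, sub_zero, ← pow_succ', hw5]⟩
    refine ⟨s ⟨b, hbK⟩, ⟨_, rfl⟩, ?_, ?_⟩
    · rw [← map_pow]
      have : (⟨b, hbK⟩ : K) ^ 5 = 1 := Subtype.ext (by
        show b ^ 5 = 1
        rw [hb, conj_pow, show (⟨C.D, C.D_mem_Cy⟩ : C.Cy) ^ 5 = 1 from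
          Subtype.ext (C.W_five _), mul_one, mul_inv_cancel])
      rw [this, map_one]
    · have e : (f b : M2) * (f a : M2) = (f a : M2) * !![w, 0; 0, w ^ 4] := by
        rw [hb, ← Units.val_mul, ← map_mul, inv_mul_cancel_right, map_mul, Units.val_mul, hD]
      rw [hfa] at e
      rw [hsval]
      generalize (f b : M2) = E at e ⊢
      have e00 := congrFun (congrFun e 0) 0
      have e01 := congrFun (congrFun e 0) 1
      have e10 := congrFun (congrFun e 1) 0
      have e11 := congrFun (congrFun e 1) 1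
      simp [Matrix.mul_apply, Fin.sum_univ_two, Matrix.vecMul, dotProduct] at e00 e01 e10 e11
      ext i j
      fin_cases i <;> fin_cases j <;> simp
      · linear_combination x * e00 - z * e01
      · linear_combination x * e01 - z * e00
      · linear_combination x * e10 - z * e11
      · linear_combination x * e11 - z * e10
  rcases cases_of_not_dvd p (two_ne hF hp5) s.range hpΓ with hcom | hA
  · obtain ⟨e, heR, he5, he⟩ := hconj g hg x z hfg
    have hc := congrArg (fun t : SL2 => ((x * x - z * z) • (t : M2)) 0 1) (hcom e heR d ⟨_, rfl⟩ he5 hd5)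
    simp only [Matrix.SpecialLinearGroup.coe_mul] at hc
    rw [← smul_mul_assoc, ← mul_smul_comm, he, hdM] at hc
    simp [Matrix.mul_apply, Fin.sum_univ_two, Matrix.vecMul, dotProduct] at hc
    have : x * z * ((w ^ 4 - w) * (w ^ 4 - w)) = 0 := by linear_combination hc
    exact mul_eq_zero.1 ((mul_eq_zero.1 this).resolve_right (mul_ne_zero hw4 hw4))
  by_contra hxz
  push Not at hxz
  set v := w ^ 2 + w ^ 3 with hvdef
  have hv : v * v + v - 1 = 0 := by
    rw [hvdef]; linear_combination hgeom + (w + 2) * hw5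
  -- the possible ratios
  have step : ∀ c : F, Rat f X c → c * c ≠ 1 → c ≠ 0 ∧
      ((c ^ 2 = 1 ∨ c ^ 2 = -1) ∨ (c ^ 3 = 1 ∨ c ^ 3 = -1) ∨ (c ^ 5 = 1 ∨ c ^ 5 = -1)) ∧
      ∃ t : F, (t = 0 ∨ t * t = 1 ∨ (t * t + t - 1) * (t * t - t - 1) = 0) ∧
        4 * c * t = 2 * c * (v + 2) - (c * c + 1) * (v - 2) := by
    rintro c ⟨a, ha, x, z, hfa, hc⟩ hc1
    obtain ⟨hb, hab⟩ := sub_ne_of_form hfa
    have hc0 : c ≠ 0 := fun e => hab (by rw [hc, e, zero_mul])
    set Δ := x * x - z * z with hΔ
    have hΔ0 : Δ ≠ 0 := by rw [hΔ, show x * x - z * z = (x - z) * (x + z) by ring]; exact mul_ne_zero hb hab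
    -- the square scaled
    set h : C.Cy := a * a * ⟨sc (Units.mk0 Δ hΔ0)⁻¹, sc_mem_Cy _⟩ with hh
    have hfh : (f h : M2) = Δ⁻¹ • !![x * x + z * z, 2 * x * z; 2 * x * z, x * x + z * z] := by
      rw [hh, map_mul, map_mul, Units.val_mul, Units.val_mul, hfa, hs, Units.val_inv_eq_inv_val, Units.val_mk0,
        mul_smul_comm, mul_one]
      congr 1
      ext i j
      fin_cases i <;> fin_cases j <;> simp [Matrix.mul_apply, Fin.sum_univ_two] <;> ring
    have hhK : h ∈ K := hmemK.2 ⟨mul_mem (mul_mem ha ha) (hX.sc _), by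
      rw [hfh, Matrix.det_smul, Matrix.det_fin_two_of, Fintype.card_fin]
      field_simp
      rw [hΔ]; ring⟩
    have hpow : ∀ n : ℕ, (((s ⟨h, hhK⟩) ^ n : SL2) : M2) *ᵥ ![1, 1] = c ^ n • ![1, 1] := by
      intro n
      induction n with
      | zero => simp
      | succ n ih =>
        rw [pow_succ, Matrix.SpecialLinearGroup.coe_mul, ← Matrix.mulVec_mulVec]
        have e1 : ((s ⟨h, hhK⟩ : SL2) : M2) *ᵥ ![1, 1] = c • ![1, 1] := by
          rw [hsval, hfh]
          funext i
          fin_cases i <;> simp [Matrix.mulVec, dotProduct, Fin.sum_univ_two] <;> field_simp <;> rw [hΔ] <;>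
            linear_combination (x + z) * hc
        rw [e1, Matrix.mulVec_smul, ih, smul_smul, pow_succ']
    have hsign : ∀ n : ℕ, ((s ⟨h, hhK⟩) ^ n = 1 ∨ (s ⟨h, hhK⟩) ^ n = -1) → c ^ n = 1 ∨ c ^ n = -1 := by
      intro n hn
      have := congrFun (hpow n) 0
      rcases hn with e | e <;> rw [e] at this <;> simp at this
      · exact .inl this.symm
      · exact .inr this.symm
    obtain ⟨e, heR, -, he⟩ := hconj a ha x z hfa
    have hη : Δ * ((e * d⁻¹ : SL2) : M2).trace = 2 * x * x - z * z * v := by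
      rw [Matrix.SpecialLinearGroup.coe_mul, hdinv, ← smul_eq_mul, ← Matrix.trace_smul, ← smul_mul_assoc, he,
        Matrix.trace_fin_two]
      simp [Matrix.mul_apply, Fin.sum_univ_two, Matrix.vecMul, dotProduct]
      rw [hvdef]; linear_combination (2 * x * x - z * z * w ^ 3) * hw5
    have hne : e * d⁻¹ ≠ 1 ∧ e * d⁻¹ ≠ -1 := by
      constructor <;> intro h1 <;>
        [rw [mul_inv_eq_one] at h1; rw [mul_inv_eq_iff_eq_mul, neg_one_mul] at h1] <;>
        rw [h1] at he <;> simp only [Matrix.SpecialLinearGroup.coe_neg, hdM] at he <;>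
        have := congrFun (congrFun he 0) 1 <;> simp at this <;>
        rcases this with (e0 | e0) | e0
      all_goals first
        | exact hc1 (by rw [e0] at hc; have : c = -1 := mul_right_cancel₀ hb (by rw [e0]; linear_combination -hc)
                        rw [this]; ring)
        | exact hc1 (by rw [e0] at hc; have : c = 1 := mul_right_cancel₀ hb (by rw [e0]; linear_combination -hc)
                        rw [this]; ring)
        | exact hw4 e0
    refine ⟨hc0, ?_, _, hA.trace_cases (mul_mem heR (inv_mem ⟨_, rfl⟩)) hne, ?_⟩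
    · exact (hA.pow_cases _ ⟨⟨h, hhK⟩, rfl⟩).imp (hsign 2) (Or.imp (hsign 3) (hsign 5))
    · refine mul_left_cancel₀ hΔ0 ?_
      rw [show Δ * (4 * c * ((e * d⁻¹ : SL2) : M2).trace) = 4 * c * (Δ * ((e * d⁻¹ : SL2) : M2).trace) by ring, hη,
        hΔ]
      linear_combination (v - 2) * ((x - z) - (x + z) * c) * hc
  -- negatives
  have hneg : ∀ c : F, Rat f X c → Rat f X (-c) := fun c h => by
    have hJ' : Rat f X (-1) := ⟨⟨C.J, C.J_mem_Cy⟩, hX.J, 0, 1, hJ, by ring⟩
    rw [← neg_one_mul]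
    exact hJ'.mul h
  obtain ⟨hb, hab⟩ := sub_ne_of_form hfg
  set c := (x + z) / (x - z) with hcdef
  have hc : Rat f X c := ⟨g, hg, x, z, hfg, (div_mul_cancel₀ _ hb).symm⟩
  have hc1 : c * c ≠ 1 := fun e => by
    have : 4 * (x * z) = 0 := by
      rw [hcdef, div_mul_div_comm, div_eq_one_iff_eq (mul_ne_zero hb hb)] at e
      linear_combination e
    rcases mul_eq_zero.1 this with h | h
    · exact two_ne hF hp5 (mul_self_eq_zero.1 (by linear_combination h))
    · exact (mul_eq_zero.1 h).elim hxz.1 hxz.2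
  obtain ⟨-, hcases, -⟩ := step c hc hc1
  -- a forbidden ratio
  have finish : ∀ d : F, Rat f X d → d * d = -1 ∨ d * d + d + 1 = 0 ∨ d = w → False := by
    intro d hd h
    have hd1 : d * d ≠ 1 := by
      rcases h with h | h | h <;> intro e
      · exact two_ne hF hp5 (by linear_combination h - e)
      · have e2 : d = -2 := by linear_combination h - e
        rw [e2] at e
        exact three_ne hF hp5 (by linear_combination e)
      · rw [h] at e
        have := (hw.pow_eq_one_iff_dvd 2).1 (by rw [pow_two]; exact e)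
        norm_num at this
    obtain ⟨hd0, -, t, ht, heq⟩ := step d hd hd1
    refine trace_false hF hp5 hv hd0 ?_ ht
    rcases h with h | h | h
    · exact .inl ⟨mul_left_cancel₀ (mul_ne_zero (two_ne hF hp5) hd0) (by linear_combination heq - (v - 2) * h), h⟩
    · exact .inr (.inl ⟨mul_left_cancel₀ hd0 (by linear_combination heq - (v - 2) * h), h⟩)
    · subst h
      refine .inr (.inr (mul_left_cancel₀ hd0 ?_))
      rw [hvdef] at heq
      linear_combination heq + hgeom + (-1) * hw5
  have third : ∀ d : F, Rat f X d → d * d ≠ 1 → d ^ 3 = 1 → False := fun d hd hd1 h3 =>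
    finish d hd (.inr (.inl ((mul_eq_zero.1 (show (d - 1) * (d * d + d + 1) = 0 by linear_combination h3)).resolve_left
      fun e => hd1 (by rw [sub_eq_zero.1 e, one_mul]))))
  haveI : Fact (Nat.Prime 5) := ⟨by norm_num⟩
  have fifth : ∀ d : F, Rat f X d → d * d ≠ 1 → d ^ 5 = 1 → False := fun d hd hd1 h5 => by
    have hprim : IsPrimitiveRoot d 5 := by
      rw [← orderOf_eq_prime h5 fun e => hd1 (by rw [e, one_mul])]
      exact IsPrimitiveRoot.orderOf d
    obtain ⟨i, -, hi⟩ := hprim.eq_pow_of_pow_eq_one hw5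
    have hi0 : 0 < i := Nat.pos_of_ne_zero fun e => hw.ne_one (by norm_num) (by rw [← hi, e, pow_zero])
    exact finish _ (hd.pow hi0) (.inr (.inr hi))
  rcases hcases with (h | h) | (h | h) | (h | h)
  · exact hc1 (by rw [← pow_two]; exact h)
  · exact finish c hc (.inl (by rw [← pow_two]; exact h))
  · exact third c hc hc1 h
  · exact third (-c) (hneg c hc) (by rwa [neg_mul_neg]) (by rw [(by decide : Odd 3).neg_pow, h, neg_neg])
  · exact fifth c hc hc1 h
  · exact fifth (-c) (hneg c hc) (by rwa [neg_mul_neg]) (by rw [(by decide : Odd 5).neg_pow, h, neg_neg])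

/-- An element of both centralisers is monomial on each plane. -/
theorem ratio (hX : Ctx C X) (hno : ¬ Big X) {g : G5} (hg : g ∈ X) (hgy : g ∈ C.Cy) (hgJ : g ∈ C.CJ) :
    ((g : M5) 1 1 = 0 ∨ (g : M5) 1 4 = 0) ∧ ((g : M5) 2 2 = 0 ∨ (g : M5) 2 3 = 0) := by
  obtain ⟨-, -, -, -, h44, h41, -, -, -, -, h33, h32⟩ := sym_facts (C.sym_of_mem hgJ)
  refine ⟨plane_ratio hF hp5 hX hno C.ph1 C.prim (ph1_D C) (ph1_J C) ph1_sc (g := ⟨g, hgy⟩) hg ?_,
    plane_ratio hF hp5 hX hno C.ph2 (w := C.ω ^ 2) (C.prim.pow_of_coprime 2 (by norm_num)) ?_ (ph2_J C) ph2_sc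
      (g := ⟨g, hgy⟩) hg ?_⟩
  · rw [C.coe_ph1]; simp only [h44, h41]
  · rw [ph2_D, ← pow_mul, show (C.ω : F) ^ (2 * 4) = C.ω ^ 5 * C.ω ^ 3 by rw [← pow_add], C.pow_five, one_mul]
  · rw [C.coe_ph2]; simp only [h33, h32]

end Cfsg.Agent.H97.CFive
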