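import Cfsg.Agent.H97.CFive.Elem

/-!
A unipotent element whose cyclic group is normalised by the quadratic diagonal element, and not centralised.
-/

set_option autoImplicit false
set_option linter.unusedSectionVars false

namespace Cfsg.Agent.H97.CFive

open Matrix
open Cfsg.Agent.H1.HeisThree (sc scGrp coe_sc sc_mul sc_one sc_comm sc_inj)

variable {F : Type*} [Field F]

local notation "T5" => ZMod 5
local notation "M5" => Matrix (ZMod 5) (ZMod 5) F
local notation "G5" => GL (ZMod 5) F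

theorem pow_of_cube_zero {R : Type*} [Ring R] [Algebra F R] (N : R) (hN : N * N * N = 0) (n : ℕ) :
    (1 + N) ^ n = 1 + (n : F) • N + ((n.choose 2 : ℕ) : F) • (N * N) := by
  induction n with
  | zero => simp
  | succ n ih =>
    rw [pow_succ, ih, Nat.choose_succ_succ', Nat.choose_one_right]
    simp only [mul_add, mul_one, add_mul, one_mul, smul_mul_assoc, hN, smul_zero, add_zero, Nat.cast_add,
      Nat.cast_one, add_smul, one_smul]
    abel

/-- The product of two elements of a chain. -/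
theorem two_step {R : Type*} [Ring R] [Algebra F R] (a b : R) (h : F) (t1 : a * a * b = 0) (t2 : a * b * b = 0) :
    (1 + (a + h • (a * a))) * (1 + (b + h • (b * b))) = 1 + a + b + h • (a * a) + h • (b * b) + a * b := by
  have t2' : a * (b * b) = 0 := by rw [← mul_assoc]; exact t2
  have t3 : a * a * (b * b) = 0 := by rw [← mul_assoc, t1, zero_mul]
  simp only [mul_add, add_mul, one_mul, mul_one, smul_mul_assoc, mul_smul_comm, t1, t2', t3, smul_zero, add_zero]
  abel

variable {C : Fifth F} {X : Subgroup (GL (ZMod 5) F)} [Fintype F] {p : ℕ} [Fact p.Prime] (hF : Fintype.card F = p)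
include hF

/-- The edges of a two-step chain: outside set, centre, inside set. -/
theorem big_of_chain (hX : Ctx C X) (P Q : Finset T5) (hd : ∀ i ∈ P, i ∉ Q) (hP0 : (0 : T5) ∉ P)
    (hQ0 : (0 : T5) ∉ Q) (hopp : ∀ i ∈ P, ∀ j ∈ Q, i ≠ -j)
    (hinj : ∀ i ∈ P, ∀ j ∈ Q, ∀ i' ∈ P, ∀ j' ∈ Q, i - j = i' - j' → i = i' ∧ j = j')
    {M : M5} (hM : ∀ i j, M i j ≠ 0 → (i ∈ P ∧ j = 0) ∨ (i = 0 ∧ j ∈ Q)) (hM0 : M ≠ 0) {x : G5} (hx : x ∈ X)
    (h : F) (hxM : (x : M5) = 1 + (M + h • (M * M))) : Big X := by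
  by_cases hA : ∀ i, M i 0 = 0
  · refine big_of_block hF hX {0} Q (fun i hi => ?_) (fun i hi j hj i' hi' j' hj' e => ?_)
      (fun i j hij => ?_) hM0 hx ?_
    · rw [Finset.mem_singleton] at hi; rw [hi]; exact hQ0
    · rw [Finset.mem_singleton] at hi hi'
      subst hi hi'
      exact ⟨rfl, by linear_combination -e⟩
    · rcases hM i j hij with ⟨-, rfl⟩ | ⟨hi, hj⟩
      · exact absurd (hA i) hij
      · exact ⟨Finset.mem_singleton.2 hi, hj⟩
    · have : M * M = 0 := Matrix.ext fun i j => by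
        rw [Matrix.mul_apply, Matrix.zero_apply]
        refine Finset.sum_eq_zero fun k _ => ?_
        by_contra hne
        rcases hM i k (left_ne_zero_of_mul hne) with ⟨-, rfl⟩ | ⟨-, hk⟩
        · exact left_ne_zero_of_mul hne (hA i)
        · rcases hM k j (right_ne_zero_of_mul hne) with ⟨hk', rfl⟩ | ⟨rfl, -⟩
          · exact right_ne_zero_of_mul hne (hA k)
          · exact hQ0 hk
      rw [hxM, this, smul_zero, add_zero]
  by_cases hB : ∀ j, M 0 j = 0
  · refine big_of_block hF hX P {0} (fun i hi hi' => hP0 (Finset.mem_singleton.1 hi' ▸ hi))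
      (fun i hi j hj i' hi' j' hj' e => ?_) (fun i j hij => ?_) hM0 hx ?_
    · rw [Finset.mem_singleton] at hj hj'
      subst hj hj'
      exact ⟨by linear_combination e, rfl⟩
    · rcases hM i j hij with ⟨hi, hj⟩ | ⟨rfl, hj⟩
      · exact ⟨hi, Finset.mem_singleton.2 hj⟩
      · exact absurd (hB j) hij
    · have : M * M = 0 := Matrix.ext fun i j => by
        rw [Matrix.mul_apply, Matrix.zero_apply]
        refine Finset.sum_eq_zero fun k _ => ?_
        by_contra hne
        rcases hM i k (left_ne_zero_of_mul hne) with ⟨-, rfl⟩ | ⟨rfl, hk⟩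
        · exact right_ne_zero_of_mul hne (hB j)
        · exact left_ne_zero_of_mul hne (hB k)
      rw [hxM, this, smul_zero, add_zero]
  push Not at hA hB
  obtain ⟨i0, hi0⟩ := hA
  obtain ⟨j0, hj0⟩ := hB
  have hi0P : i0 ∈ P := ((hM i0 0 hi0).resolve_right fun e => hQ0 e.2).1
  have hj0Q : j0 ∈ Q := ((hM 0 j0 hj0).resolve_left fun e => hP0 e.1).2
  -- three steps are impossible
  have tri : ∀ a b c : M5, (∀ i j, a i j ≠ 0 → (i ∈ P ∧ j = 0) ∨ (i = 0 ∧ j ∈ Q)) →
      (∀ i j, b i j ≠ 0 → (i ∈ P ∧ j = 0) ∨ (i = 0 ∧ j ∈ Q)) →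
      (∀ i j, c i j ≠ 0 → (i ∈ P ∧ j = 0) ∨ (i = 0 ∧ j ∈ Q)) → a * b * c = 0 := by
    intro a b c ha hb hc
    refine Matrix.ext fun i j => ?_
    rw [Matrix.mul_apply, Matrix.zero_apply]
    refine Finset.sum_eq_zero fun k _ => ?_
    by_contra hne
    obtain ⟨l, -, hl⟩ : ∃ l ∈ (Finset.univ : Finset T5), a i l * b l k ≠ 0 :=
      Finset.exists_ne_zero_of_sum_ne_zero (by simpa [Matrix.mul_apply] using left_ne_zero_of_mul hne)
    have h1 := ha i l (left_ne_zero_of_mul hl)
    have h2 := hb l k (right_ne_zero_of_mul hl)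
    have h3 := hc k j (right_ne_zero_of_mul hne)
    rcases h1 with ⟨-, rfl⟩ | ⟨-, hl'⟩
    · rcases h2 with ⟨h2, -⟩ | ⟨-, hk⟩
      · exact hP0 h2
      · rcases h3 with ⟨h3, -⟩ | ⟨rfl, -⟩
        · exact hd k h3 hk
        · exact hQ0 hk
    · rcases h2 with ⟨h2, -⟩ | ⟨rfl, -⟩
      · exact hd l h2 hl'
      · exact hQ0 hl'
  set d : T5 → T5 := fun i => i with hdd
  set M' : M5 := Matrix.of fun i j => C.ch (i - j) * M i j with hM'
  have hM'' : ∀ i j, M' i j ≠ 0 → (i ∈ P ∧ j = 0) ∨ (i = 0 ∧ j ∈ Q) := fun i j hij =>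
    hM i j fun h0 => hij (by simp [hM', h0])
  set x' := C.dg d * x * (C.dg d)⁻¹ with hx'
  have hx'X : x' ∈ X := by
    have := hX.D
    rw [C.D_eq] at this
    exact mul_mem (mul_mem this hx) (inv_mem this)
  have hx'M : (x' : M5) = 1 + (M' + h • (M' * M')) := by
    refine Matrix.ext fun i j => ?_
    rw [hx', Fifth.dg_conj_apply, hxM]
    simp only [Matrix.add_apply, Matrix.smul_apply, smul_eq_mul, Matrix.mul_apply, hM', Matrix.of_apply, hdd,
      mul_add]
    congr 1
    · rcases eq_or_ne i j with rfl | hij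
      · rw [sub_self, C.ch_zero, one_mul]
      · rw [Matrix.one_apply_ne hij, mul_zero]
    · congr 1
      rw [mul_left_comm, Finset.mul_sum]
      congr 1
      refine Finset.sum_congr rfl fun k _ => ?_
      rw [show i - j = (i - k) + (k - j) by ring, C.ch_add]
      ring
  set g := x * x' * (x' * x)⁻¹ with hg
  have hgX : g ∈ X := mul_mem (mul_mem hx hx'X) (inv_mem (mul_mem hx'X hx))
  set K := M * M' - M' * M with hK
  have hK3 : ∀ a, (∀ i j, a i j ≠ 0 → (i ∈ P ∧ j = 0) ∨ (i = 0 ∧ j ∈ Q)) → K * a = 0 := fun a ha => by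
    rw [hK, sub_mul, tri _ _ _ hM hM'' ha, tri _ _ _ hM'' hM ha, sub_zero]
  have hgK : (g : M5) = 1 + K := by
    have e : ((x * x' : G5) : M5) = (1 + K) * ((x' * x : G5) : M5) := by
      rw [Units.val_mul, Units.val_mul x', hxM, hx'M,
        two_step M M' h (tri M M M' hM hM hM'') (tri M M' M' hM hM'' hM''),
        two_step M' M h (tri M' M' M hM'' hM'' hM) (tri M' M M hM'' hM hM)]
      simp only [mul_add, add_mul, one_mul, mul_one, mul_smul_comm, ← mul_assoc, hK3 M hM, hK3 M' hM'', zero_mul,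
        smul_zero, add_zero]
      rw [hK]
      abel
    rw [hg, Units.val_mul, e, mul_assoc, Units.mul_inv, mul_one]
  refine big_of_block hF hX P Q hd hinj (fun i j hij => ?_) ?_ hgX hgK
  · have key : ∀ a b : M5, (∀ i j, a i j ≠ 0 → (i ∈ P ∧ j = 0) ∨ (i = 0 ∧ j ∈ Q)) →
        (∀ i j, b i j ≠ 0 → (i ∈ P ∧ j = 0) ∨ (i = 0 ∧ j ∈ Q)) → (a * b) i j ≠ 0 → i ∈ P ∧ j ∈ Q := by
      intro a b ha hb hne
      obtain ⟨l, -, hl⟩ : ∃ l ∈ (Finset.univ : Finset T5), a i l * b l j ≠ 0 :=
        Finset.exists_ne_zero_of_sum_ne_zero (by simpa [Matrix.mul_apply] using hne)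
      rcases ha i l (left_ne_zero_of_mul hl) with ⟨hi, rfl⟩ | ⟨-, hl'⟩
      · exact ⟨hi, ((hb 0 j (right_ne_zero_of_mul hl)).resolve_left fun e => hP0 e.1).2⟩
      · rcases hb l j (right_ne_zero_of_mul hl) with ⟨h2, -⟩ | ⟨rfl, -⟩
        · exact absurd hl' (hd l h2)
        · exact absurd hl' hQ0
    by_cases h1 : (M * M') i j = 0
    · exact key _ _ hM'' hM fun h2 => hij (by rw [hK, Matrix.sub_apply, h1, h2, sub_zero])
    · exact key _ _ hM hM'' h1
  · intro h0
    have e := congrFun (congrFun h0 i0) j0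
    have hz : ∀ a b : M5, (∀ i j, a i j ≠ 0 → (i ∈ P ∧ j = 0) ∨ (i = 0 ∧ j ∈ Q)) →
        (a * b) i0 j0 = a i0 0 * b 0 j0 := fun a b ha => by
      rw [Matrix.mul_apply]
      refine Finset.sum_eq_single (0 : T5) (fun l _ hl => ?_) (by simp)
      by_contra hne
      rcases ha i0 l (left_ne_zero_of_mul hne) with ⟨-, e⟩ | ⟨e, -⟩
      · exact hl e
      · exact hP0 (e ▸ hi0P)
    rw [hK, Matrix.sub_apply, hz _ _ hM, hz _ _ hM'', Matrix.zero_apply, hM', Matrix.of_apply, Matrix.of_apply,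
      zero_sub, sub_zero] at e
    have e' : (M i0 0 * M 0 j0) * (C.ch (-j0) - C.ch i0) = 0 := by linear_combination e
    rcases mul_eq_zero.1 e' with e'' | e''
    · exact mul_ne_zero hi0 hj0 e''
    · exact hopp i0 hi0P j0 hj0Q (C.ch_inj (sub_eq_zero.1 e'')).symm

/-- A unipotent element whose cyclic group is normalised, not centralised, by the quadratic element. -/
theorem big_of_weight (hX : Ctx C X) {x : G5} (hx : x ∈ X) (hx1 : x ≠ 1)
    (hN : ((x : M5) - 1) * ((x : M5) - 1) * ((x : M5) - 1) = 0) (n : ℕ) {w : T5} (hw : w ≠ 0)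
    (hn : (n : F) = C.ch w) (hy : C.y * x * C.y⁻¹ = x ^ n) (h2 : (2 : F) ≠ 0) : Big X := by
  set N := (x : M5) - 1 with hNdef
  have hxN : (x : M5) = 1 + N := by rw [hNdef]; abel
  clear_value N
  clear hNdef
  set c : F := ((n.choose 2 : ℕ) : F) with hcdef
  have hc : 2 * c = (n : F) * n - n := by
    have key : ∀ m : ℕ, 2 * ((m.choose 2 : ℕ) : F) = (m : F) * m - m := by
      intro m
      induction m with
      | zero => simp
      | succ m ih =>
        rw [Nat.choose_succ_succ', Nat.choose_one_right]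
        push_cast
        linear_combination ih
    exact key n
  have hconj : ∀ a : M5, (C.y : M5) * a * ((C.y⁻¹ : G5) : M5) =
      Matrix.of fun i j => C.ch (i * i - j * j) * a i j := by
    intro a
    refine Matrix.ext fun i j => ?_
    rw [Fifth.y, Fifth.dg_inv, Fifth.coe_dg, Fifth.coe_dg, Matrix.mul_diagonal, Matrix.diagonal_mul,
      Matrix.of_apply, sub_eq_add_neg, C.ch_add]
    ring
  have hyN : (C.y : M5) * N * ((C.y⁻¹ : G5) : M5) = (n : F) • N + c • (N * N) := by
    have h := congrArg (fun g : G5 => (g : M5)) hy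
    simp only [Units.val_mul, Units.val_pow_eq_pow_val, hxN, pow_of_cube_zero (F := F) N hN n] at h
    rw [mul_add, mul_one, add_mul, Units.mul_inv, add_assoc] at h
    exact add_left_cancel h
  have hyNN : (C.y : M5) * (N * N) * ((C.y⁻¹ : G5) : M5) = ((n : F) * n) • (N * N) := by
    have hN4 : N * (N * N) = 0 := by rw [← mul_assoc]; exact hN
    have e : (C.y : M5) * (N * N) * ((C.y⁻¹ : G5) : M5) =
        ((C.y : M5) * N * ((C.y⁻¹ : G5) : M5)) * ((C.y : M5) * N * ((C.y⁻¹ : G5) : M5)) := by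
      simp only [mul_assoc, Units.inv_mul_cancel_left]
    rw [e, hyN]
    simp only [mul_add, add_mul, smul_mul_assoc, mul_smul_comm, smul_smul, hN, hN4, smul_zero, add_zero]
    simp only [← mul_assoc, hN, zero_mul, smul_zero, add_zero]
  set M := N - (2 : F)⁻¹ • (N * N) with hMdef
  have hyM : (C.y : M5) * M * ((C.y⁻¹ : G5) : M5) = (n : F) • M := by
    rw [hMdef, mul_sub, sub_mul, mul_smul_comm, smul_mul_assoc, hyN, hyNN, smul_sub, smul_smul, smul_smul,
      add_sub_assoc, ← sub_smul, sub_eq_add_neg (a := (n : F) • N), ← neg_smul]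
    congr 2
    field_simp
    linear_combination hc
  have hsupp : ∀ i j, M i j ≠ 0 → i * i - j * j = w := by
    intro i j hij
    have e := congrFun (congrFun hyM i) j
    rw [hconj, Matrix.of_apply, Matrix.smul_apply, smul_eq_mul, hn] at e
    exact C.ch_inj (mul_right_cancel₀ hij e)
  have hN4 : N * (N * N) = 0 := by rw [← mul_assoc]; exact hN
  have hMM : M * M = N * N := by
    rw [hMdef]
    simp only [sub_mul, mul_sub, smul_mul_assoc, mul_smul_comm, hN, hN4, smul_zero, sub_zero]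
    simp only [← mul_assoc, hN, zero_mul, smul_zero, sub_zero]
  have hM0 : M ≠ 0 := by
    intro h0
    have hNN : N * N = 0 := by rw [← hMM, h0, mul_zero]
    have : N = 0 := by rwa [hMdef, hNN, smul_zero, sub_zero] at h0
    exact hx1 (Units.ext (by rw [hxN, this, add_zero, Units.val_one]))
  have hxM : (x : M5) = 1 + (M + (2 : F)⁻¹ • (M * M)) := by
    rw [hMM, hMdef, sub_add_cancel, ← hxN]
  have hblock : ∀ A B : Finset T5, (∀ i ∈ A, i ∉ B) →
      (∀ i ∈ A, ∀ j ∈ B, ∀ i' ∈ A, ∀ j' ∈ B, i - j = i' - j' → i = i' ∧ j = j') →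
      (∀ i j, M i j ≠ 0 → i ∈ A ∧ j ∈ B) → Big X := by
    intro A B hAB hinj hM
    refine big_of_block hF hX A B hAB hinj hM hM0 hx ?_
    have : M * M = 0 := Matrix.ext fun i j => by
      rw [Matrix.mul_apply, Matrix.zero_apply]
      refine Finset.sum_eq_zero fun k _ => ?_
      by_contra hne
      exact hAB k (hM k j (right_ne_zero_of_mul hne)).1 (hM i k (left_ne_zero_of_mul hne)).2
    rw [hxM, this, smul_zero, add_zero]
  rcases (by decide : ∀ w : T5, w ≠ 0 → w = 1 ∨ w = 2 ∨ w = 3 ∨ w = 4) w hw with rfl | rfl | rfl | rfl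
  · exact big_of_chain hF hX {1, 4} {2, 3} (by decide) (by decide) (by decide) (by decide) (by decide)
      (fun i j hij => (by decide : ∀ i j : T5, i * i - j * j = 1 →
        (i ∈ ({1, 4} : Finset T5) ∧ j = 0) ∨ (i = 0 ∧ j ∈ ({2, 3} : Finset T5))) i j (hsupp i j hij))
      hM0 hx _ hxM
  · exact hblock {1, 4} {2, 3} (by decide) (by decide) fun i j hij => (by decide : ∀ i j : T5,
      i * i - j * j = 2 → i ∈ ({1, 4} : Finset T5) ∧ j ∈ ({2, 3} : Finset T5)) i j (hsupp i j hij)
  · exact hblock {2, 3} {1, 4} (by decide) (by decide) fun i j hij => (by decide : ∀ i j : T5,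
      i * i - j * j = 3 → i ∈ ({2, 3} : Finset T5) ∧ j ∈ ({1, 4} : Finset T5)) i j (hsupp i j hij)
  · exact big_of_chain hF hX {2, 3} {1, 4} (by decide) (by decide) (by decide) (by decide) (by decide)
      (fun i j hij => (by decide : ∀ i j : T5, i * i - j * j = 4 →
        (i ∈ ({2, 3} : Finset T5) ∧ j = 0) ∨ (i = 0 ∧ j ∈ ({1, 4} : Finset T5))) i j (hsupp i j hij))
      hM0 hx _ hxM

end Cfsg.Agent.H97.CFive
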